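import Cfsg.Agent.H19.SxDefs

/-!
# EXIST-GEN (for S2949): a `J(T)`-component of `L` outside a proper subgroup `M ⊇ N_L(J(T))`

Notation inside `X = ↥L` (`L` in the family of `T`): `T` Sylow, `Q = O₂(X)`, `V = Ω₁(Z(Q))`,
`C = C_X(V)`, `J = J(T)`, `J(X) = thompsonSubgroup 2 X`.
Route.  S0617 in the holomorph of `V`: `J(X)C/C = ×E_i`, `E_i ≅ S₃`, `D_i = O₃(E_i)`.
(BOX) for a 2-subgroup `J̄ ≤ ×E_i` and each `i`: `J̄` centralizes `E_i`, or `E_i = D_i⟨e⟩` with an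
involution `e` centralizing `J̄` and `J̄` not centralizing `D_i`.
(GEN) hence `J(X) ≤ N_X(JC) · ⟨preimages D of the D_i not centralized by J⟩`.
(FR) `N_X(JC) ≤ C·N_X(J)` (Sylow in `JC`, `J` weakly closed in `T`).
(OUT) if `C ≤ M`, `N_X(J) ≤ M ≠ X` then some such preimage `D` is not inside `M`
(Frattini: `X = J(X)·N_X(T ∩ J(X))`).
(PICK) `a ∈ A ∈ 𝒜(X)`, `A ≤ J`, `k ∈ D ∖ M` with `a` inverting `k` modulo `C`.
Then the pieces COMPA, COMPB, VK, W, LIFT of `Cfsg.Agent.H19.Sx` build the component `K`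
with `KC = D`, so `K ≰ M`.
-/

set_option autoImplicit false
open Cfsg

namespace Cfsg.Agent.H90.Sg

universe u

/-- BOX (abstract): a 2-subgroup `J` of a direct product `H` of copies `E i` of `SL(2,2) ≅ S₃`.
For each `i`: `J` centralizes `E i`, or there is `D ≤ E i` of order 3, normalized by `H`, not
centralized by `J`, with `E i` generated by `D` and the elements of `E i` centralizing `J`. -/
def StBox : Prop := ∀ {X : Type u} [Group X] [Finite X] {ι : Type u} (E : ι → Subgroup X)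
    (H J : Subgroup X),
  (∀ i, H ≤ Subgroup.normalizer ((E i : Subgroup X) : Set X)) →
  (∀ i, Nonempty (↥(E i) ≃* Matrix.SpecialLinearGroup (Fin 2) (ZMod 2))) →
  iSupIndep E → (⨆ i, E i) = H → J ≤ H → IsPGroup 2 ↥J →
  ∀ i, E i ≤ Subgroup.centralizer (J : Set X) ∨
    ∃ D : Subgroup X, D ≤ E i ∧ Nat.card ↥D = 3 ∧
      H ≤ Subgroup.normalizer (D : Set X) ∧ ¬ D ≤ Subgroup.centralizer (J : Set X) ∧
      E i ≤ D ⊔ (E i ⊓ Subgroup.centralizer (J : Set X))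

/-- GEN: consequence of Glauberman's structure theorem S0617 (in the holomorph of `V`) and BOX:
`J(X)` is generated by elements normalizing `JC` and by the subgroups `D ⊇ C` with `|D : C| = 3`,
normalized by `J(X)`, not centralized by `J` modulo `C`, acting on `V` with commutators inside a
subgroup of order 4. -/
def StGen : Prop := ∀ {X : Type u} [Group X] [Finite X] (V : Subgroup X) [V.Normal],
  IsElementaryAbelian 2 V → IsPSolvable 2 X →
  pCore 2 (X ⧸ Subgroup.centralizer (V : Set X)) = ⊥ →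
  ∀ J : Subgroup X, J ≤ thompsonSubgroup 2 X → IsPGroup 2 ↥J →
  thompsonSubgroup 2 X ≤
    Subgroup.normalizer ((J ⊔ Subgroup.centralizer (V : Set X) : Subgroup X) : Set X) ⊔
    ⨆ D : {D : Subgroup X // Subgroup.centralizer (V : Set X) ≤ D ∧
        (Subgroup.centralizer (V : Set X)).relIndex D = 3 ∧
        thompsonSubgroup 2 X ≤ Subgroup.normalizer (D : Set X) ∧
        ¬ ⁅D, J⁆ ≤ Subgroup.centralizer (V : Set X) ∧
        ∃ W : Subgroup X, Nat.card ↥W = 4 ∧ ∀ k ∈ D, ∀ v ∈ V, k * v * k⁻¹ * v⁻¹ ∈ W},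
      (D : Subgroup X)

/-- FR: `N_X(JC) ≤ C · N_X(J)` for `C ⊴ X` and `J ≤ T` weakly closed in the Sylow
2-subgroup `T`. -/
def StFr : Prop := ∀ {X : Type u} [Group X] [Finite X] (T C J : Subgroup X),
  IsPGroup 2 ↥T → Odd T.index → C.Normal → J ≤ T →
  (∀ g : X, J.map (MulAut.conj g).toMonoidHom ≤ T → J.map (MulAut.conj g).toMonoidHom = J) →
  Subgroup.normalizer ((J ⊔ C : Subgroup X) : Set X) ≤ C ⊔ Subgroup.normalizer (J : Set X)

/-- OUT: if `M` is a proper subgroup containing `C` and `N_X(J)`, some `D` as in GEN is not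
contained in `M`. -/
def StOut : Prop := ∀ {X : Type u} [Group X] [Finite X] (V : Subgroup X) [V.Normal]
    (T J M : Subgroup X),
  IsElementaryAbelian 2 V → IsPSolvable 2 X →
  pCore 2 (X ⧸ Subgroup.centralizer (V : Set X)) = ⊥ →
  IsPGroup 2 ↥T → Odd T.index → J ≤ T → J ≤ thompsonSubgroup 2 X →
  (∀ g : X, J.map (MulAut.conj g).toMonoidHom ≤ T → J.map (MulAut.conj g).toMonoidHom = J) →
  Subgroup.centralizer (V : Set X) ≤ M → Subgroup.normalizer (J : Set X) ≤ M → M ≠ ⊤ →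
  ∃ D : Subgroup X, Subgroup.centralizer (V : Set X) ≤ D ∧
    (Subgroup.centralizer (V : Set X)).relIndex D = 3 ∧
    thompsonSubgroup 2 X ≤ Subgroup.normalizer (D : Set X) ∧
    ¬ ⁅D, J⁆ ≤ Subgroup.centralizer (V : Set X) ∧
    (∃ W : Subgroup X, Nat.card ↥W = 4 ∧ ∀ k ∈ D, ∀ v ∈ V, k * v * k⁻¹ * v⁻¹ ∈ W) ∧
    ¬ D ≤ M

/-- PICK: from `D` (index 3 over `C`, normalized and not centralized modulo `C` by `J`, not
inside `M ⊇ C`) to `a ∈ A ∈ 𝒜(X)`, `A ≤ J`, and `k ∈ D ∖ M` inverted by `a` modulo `C`. -/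
def StPick : Prop := ∀ {X : Type u} [Group X] [Finite X] (C J D M : Subgroup X),
  C.Normal → C ≤ D → C.relIndex D = 3 → J ≤ Subgroup.normalizer (D : Set X) →
  ¬ ⁅D, J⁆ ≤ C → C ≤ M → ¬ D ≤ M →
  (∀ N : Subgroup X, (∀ A ∈ maxElementaryAbelianSubgroups 2 X, A ≤ J → A ≤ N) → J ≤ N) →
  ∃ A ∈ maxElementaryAbelianSubgroups 2 X, A ≤ J ∧ ∃ a ∈ A, ∃ k ∈ D,
    k ∉ M ∧ k ∉ C ∧ k ^ 3 ∈ C ∧ a * k * a⁻¹ * k ∈ C ∧
    ∀ g ∈ J, g * k * g⁻¹ * k⁻¹ ∈ C ∨ g * k * g⁻¹ * k ∈ C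

/-- IF-WC: `J(T)` is weakly closed in `T` with respect to `L`, inside `↥L`. -/
def StIfWC : Prop := ∀ {G : Type u} [Group G] [Finite G] (T L : Subgroup G), T ≤ L →
  ∀ g : ↥L,
    ((thompsonSubgroupOf 2 T).subgroupOf L).map (MulAut.conj g).toMonoidHom ≤ T.subgroupOf L →
    ((thompsonSubgroupOf 2 T).subgroupOf L).map (MulAut.conj g).toMonoidHom =
      (thompsonSubgroupOf 2 T).subgroupOf L

/-- IF-GA: inside `↥L` (`T` Sylow in `L`), `J(T)` is generated by the largest elementary abelian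
2-subgroups of `↥L` that it contains. -/
def StIfGA : Prop := ∀ {G : Type u} [Group G] [Finite G] (T L : Subgroup G), IsSylowTwoIn T L →
  ∀ N : Subgroup ↥L,
    (∀ A ∈ maxElementaryAbelianSubgroups 2 ↥L, A ≤ (thompsonSubgroupOf 2 T).subgroupOf L →
      A ≤ N) →
    (thompsonSubgroupOf 2 T).subgroupOf L ≤ N

/-- IF-M: the normalizer of `J(T)` inside `↥L`; and `O₂(L) ≤ T` inside `↥L`. -/
def StIfM : Prop := ∀ {G : Type u} [Group G] [Finite G] (T L M : Subgroup G),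
  IsSylowTwoIn T L →
  Subgroup.normalizer (thompsonSubgroupOf 2 T : Set G) ⊓ L ≤ M →
  Subgroup.normalizer (((thompsonSubgroupOf 2 T).subgroupOf L : Subgroup ↥L) : Set ↥L) ≤
      M.subgroupOf L ∧
    pCore 2 ↥L ≤ T.subgroupOf L ∧ (pCore 2 ↥L).Normal ∧ IsPGroup 2 ↥(pCore 2 ↥L)

/-- EXIST-GEN: a `J(T)`-component of `L` outside `M`, for `M ⊇ N_L(J(T))` not containing `L`. -/
def StExistGen : Prop := ∀ {G : Type u} [Group G] [Finite G],
  IsCharacteristicTwoType G →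
  (∀ N : Subgroup G, IsTwoLocal N → Group.IsSolvable ↥N) →
  (∀ S : Sylow 2 G, Subgroup.centralizer (omegaCenterOf (S : Subgroup G) : Set G) ≤
      Subgroup.normalizer ((S : Subgroup G) : Set G)) →
  ∀ (T : Subgroup G), IsPGroup 2 ↥T → T ≠ ⊥ → ∀ (L : Subgroup G), L ∈ jOvergroups T →
  ∀ M : Subgroup G, Subgroup.normalizer (thompsonSubgroupOf 2 T : Set G) ⊓ L ≤ M → ¬ L ≤ M →
  ∃ K : Subgroup G, IsJComponent T K ∧ K ≤ L ∧ ¬ K ≤ M

end Cfsg.Agent.H90.Sg
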