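import Cfsg.Agent.H87.FusIso
import Cfsg.Agent.H87.Invariant
import Cfsg.Agent.H87.NormalSub

set_option autoImplicit false

/-!
Pullback of a fusion system along an isomorphism `e : S ≃* S'` of subgroups of possibly different
ambient groups, and transport of normality of subsystems.
-/

namespace Cfsg.Agent.H90

open Cfsg Cfsg.FusionSystem Cfsg.Agent.H86 Cfsg.Agent.H87

variable {Ω Ω' : Type*} [Group Ω] [Group Ω'] {S : Subgroup Ω} {S' : Subgroup Ω'}

/-- The pullback along `e : S ≃* S'` of a fusion system over `trSub e T`, a fusion system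
over `T ≤ S`. -/
def pullSys (e : S ≃* S') {T : Subgroup Ω} (hT : T ≤ S) (E' : FusionSystem (trSub e T)) :
    FusionSystem T where
  Hom P := {φ | P ≤ T ∧ (∀ x : P, φ x ∈ T) ∧
    Mor E' (trSub e P) (jF e ∘ extFun P φ ∘ jF e.symm)}
  le_of_mem := by
    rintro P φ ⟨hP, hφ, -⟩
    exact ⟨hP, hφ⟩
  injective_of_mem := by
    rintro P φ ⟨hP, hφ, hm⟩ x y hxy
    have hxS : (x : Ω) ∈ S := hT (hP x.2)
    have hyS : (y : Ω) ∈ S := hT (hP y.2)
    have h1 : (jF e ∘ extFun P φ ∘ jF e.symm) (jF e x) = (jF e ∘ extFun P φ ∘ jF e.symm) (jF e y) := by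
      show jF e (extFun P φ (jF e.symm (jF e x))) = jF e (extFun P φ (jF e.symm (jF e y)))
      rw [jF_symm_jF e hxS, jF_symm_jF e hyS, extFun_apply, extFun_apply, hxy]
    have h2 := hm.injOn (jF_mem_trSub e hxS x.2) (jF_mem_trSub e hyS y.2) h1
    exact Subtype.ext (jF_injOn e hxS hyS h2)
  conj_mem := by
    intro P g hP hg
    refine ⟨hP, fun x => ?_, ?_⟩
    · show g * (x : Ω) * g⁻¹ ∈ T
      exact T.mul_mem (T.mul_mem hg (hP x.2)) (T.inv_mem hg)
    · refine (Mor.conj E' (trSub_mono e hP) (jF_mem_trSub e (hT hg) hg)).congr (fun y hy => ?_)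
      obtain ⟨x, hxS, hx, rfl⟩ := (mem_trSub e).1 hy
      show jF e g * jF e x * (jF e g)⁻¹ = jF e (extFun P (conjHom P g) (jF e.symm (jF e x)))
      rw [jF_symm_jF e hxS, extFun_of_mem P _ hx, ← jF_conj e (hT hg) hxS]
      rfl
  comp_mem := by
    rintro P P' φ ψ ⟨hP, hφ, hm⟩ ⟨hP', hψ, hm'⟩ h
    refine ⟨hP, fun x => hψ _, ?_⟩
    have hmaps : ∀ y ∈ trSub e P, (jF e ∘ extFun P φ ∘ jF e.symm) y ∈ trSub e P' := by
      intro y hy
      obtain ⟨x, hxS, hx, rfl⟩ := (mem_trSub e).1 hy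
      show jF e (extFun P φ (jF e.symm (jF e x))) ∈ trSub e P'
      rw [jF_symm_jF e hxS, extFun_of_mem P φ hx]
      exact jF_mem_trSub e (hT (hP' (h ⟨x, hx⟩))) (h ⟨x, hx⟩)
    refine (hm.comp hm' hmaps).congr (fun y hy => ?_)
    obtain ⟨x, hxS, hx, rfl⟩ := (mem_trSub e).1 hy
    show jF e (extFun P' ψ (jF e.symm (jF e (extFun P φ (jF e.symm (jF e x)))))) =
      jF e (extFun P (ψ.comp (φ.codRestrict P' h)) (jF e.symm (jF e x)))
    rw [jF_symm_jF e hxS, extFun_of_mem P φ hx, jF_symm_jF e (hT (hP' (h ⟨x, hx⟩))),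
      extFun_of_mem P' ψ (h ⟨x, hx⟩), extFun_of_mem P _ hx]
    rfl
  inv_mem := by
    rintro P φ ⟨hP, hφ, hm⟩
    have hinj : Function.Injective φ := by
      intro x y hxy
      have hxS : (x : Ω) ∈ S := hT (hP x.2)
      have hyS : (y : Ω) ∈ S := hT (hP y.2)
      have h1 : (jF e ∘ extFun P φ ∘ jF e.symm) (jF e x) =
          (jF e ∘ extFun P φ ∘ jF e.symm) (jF e y) := by
        show jF e (extFun P φ (jF e.symm (jF e x))) = jF e (extFun P φ (jF e.symm (jF e y)))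
        rw [jF_symm_jF e hxS, jF_symm_jF e hyS, extFun_apply, extFun_apply, hxy]
      have h2 := hm.injOn (jF_mem_trSub e hxS x.2) (jF_mem_trSub e hyS y.2) h1
      exact Subtype.ext (jF_injOn e hxS hyS h2)
    have hψx : ∀ x : P, (P.subtype.comp (MonoidHom.ofInjective hinj).symm.toMonoidHom)
        ⟨φ x, ⟨x, rfl⟩⟩ = (x : Ω) := by
      intro x
      show (((MonoidHom.ofInjective hinj).symm ⟨φ x, ⟨x, rfl⟩⟩ : P) : Ω) = x
      have : (⟨φ x, ⟨x, rfl⟩⟩ : φ.range) = MonoidHom.ofInjective hinj x := rfl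
      rw [this, MulEquiv.symm_apply_apply]
    have hrT : φ.range ≤ T := by
      rintro _ ⟨x, rfl⟩
      exact hφ x
    have himg : imgS (trSub e P) (jF e ∘ extFun P φ ∘ jF e.symm) = trSub e φ.range := by
      ext z
      rw [hm.mem_imgS, mem_trSub]
      constructor
      · rintro ⟨y, hy, rfl⟩
        obtain ⟨x, hxS, hx, rfl⟩ := (mem_trSub e).1 hy
        refine ⟨φ ⟨x, hx⟩, hT (hφ _), ⟨⟨x, hx⟩, rfl⟩, ?_⟩
        show _ = jF e (extFun P φ (jF e.symm (jF e x)))
        rw [jF_symm_jF e hxS, extFun_of_mem P φ hx]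
      · rintro ⟨_, -, ⟨x, rfl⟩, rfl⟩
        refine ⟨jF e x, jF_mem_trSub e (hT (hP x.2)) x.2, ?_⟩
        show jF e (extFun P φ (jF e.symm (jF e x))) = _
        rw [jF_symm_jF e (hT (hP x.2)), extFun_apply]
    refine ⟨P.subtype.comp (MonoidHom.ofInjective hinj).symm.toMonoidHom, ⟨hrT, ?_, ?_⟩, hψx⟩
    · rintro ⟨_, x, rfl⟩
      rw [hψx x]
      exact hP x.2
    · have hinv := hm.inv
      rw [himg] at hinv
      refine hinv.congr (fun z hz => ?_)
      obtain ⟨_, -, ⟨x, rfl⟩, rfl⟩ := (mem_trSub e).1 hz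
      have hxS : (x : Ω) ∈ S := hT (hP x.2)
      have h1 : (jF e ∘ extFun P φ ∘ jF e.symm) (jF e x) = jF e (φ x) := by
        show jF e (extFun P φ (jF e.symm (jF e x))) = _
        rw [jF_symm_jF e hxS, extFun_apply]
      rw [← h1, invOn_apply hm.injOn (jF_mem_trSub e hxS x.2)]
      show jF e x = jF e (extFun φ.range _ (jF e.symm ((jF e ∘ extFun P φ ∘ jF e.symm) (jF e x))))
      rw [h1, jF_symm_jF e (hT (hφ x)), extFun_of_mem φ.range _ ⟨x, rfl⟩, hψx x]

theorem mor_pullSys_iff {e : S ≃* S'} {T : Subgroup Ω} {hT : T ≤ S} {E' : FusionSystem (trSub e T)}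
    {P : Subgroup Ω} {f : Ω → Ω} :
    Mor (pullSys e hT E') P f ↔
      P ≤ T ∧ (∀ x ∈ P, f x ∈ T) ∧ Mor E' (trSub e P) (jF e ∘ f ∘ jF e.symm) := by
  constructor
  · rintro ⟨φ, ⟨hP, hφ, hm⟩, hφf⟩
    refine ⟨hP, fun x hx => by rw [← hφf ⟨x, hx⟩]; exact hφ ⟨x, hx⟩, hm.congr (fun y hy => ?_)⟩
    obtain ⟨x, hxS, hx, rfl⟩ := (mem_trSub e).1 hy
    show jF e (extFun P φ (jF e.symm (jF e x))) = jF e (f (jF e.symm (jF e x)))
    rw [jF_symm_jF e hxS, extFun_of_mem P φ hx, hφf ⟨x, hx⟩]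
  · rintro ⟨hP, hf, hm⟩
    have hmul : ∀ x y : P, f ((x * y : P) : Ω) = f x * f y := by
      intro x y
      have hxS : (x : Ω) ∈ S := hT (hP x.2)
      have hyS : (y : Ω) ∈ S := hT (hP y.2)
      have h1 := hm.map_mul (jF_mem_trSub e hxS x.2) (jF_mem_trSub e hyS y.2)
      rw [← jF_mul e hxS hyS] at h1
      have h2 : jF e (f ((x : Ω) * (y : Ω))) = jF e (f x) * jF e (f y) := by
        have e1 : (jF e ∘ f ∘ jF e.symm) (jF e ((x : Ω) * (y : Ω))) = jF e (f ((x : Ω) * (y : Ω))) := by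
          show jF e (f (jF e.symm (jF e ((x : Ω) * (y : Ω))))) = _
          rw [jF_symm_jF e (S.mul_mem hxS hyS)]
        have e2 : (jF e ∘ f ∘ jF e.symm) (jF e x) = jF e (f x) := by
          show jF e (f (jF e.symm (jF e x))) = _
          rw [jF_symm_jF e hxS]
        have e3 : (jF e ∘ f ∘ jF e.symm) (jF e y) = jF e (f y) := by
          show jF e (f (jF e.symm (jF e y))) = _
          rw [jF_symm_jF e hyS]
        rw [← e1, ← e2, ← e3]
        exact h1
      rw [← jF_mul e (hT (hf x x.2)) (hT (hf y y.2))] at h2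
      exact jF_injOn e (hT (hf _ (P.mul_mem x.2 y.2))) (S.mul_mem (hT (hf x x.2)) (hT (hf y y.2))) h2
    refine ⟨MonoidHom.mk' (fun x : P => f x) hmul, ⟨hP, fun x => hf x x.2, hm.congr (fun y hy => ?_)⟩,
      fun x => rfl⟩
    obtain ⟨x, hxS, hx, rfl⟩ := (mem_trSub e).1 hy
    show jF e (f (jF e.symm (jF e x))) = jF e (extFun P _ (jF e.symm (jF e x)))
    rw [jF_symm_jF e hxS, extFun_of_mem P _ hx]
    rfl

/-! ### The pullback is isomorphic to the original system -/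

theorem jF_eSub (e : S ≃* S') {T : Subgroup Ω} (hT : T ≤ S) {x : Ω} (hx : x ∈ T) :
    jF (eSub e hT) x = jF e x := by
  rw [jF_of_mem (eSub e hT) hx]
  rfl

theorem jF_eSub_symm (e : S ≃* S') {T : Subgroup Ω} (hT : T ≤ S) {y : Ω'} (hy : y ∈ trSub e T) :
    jF (eSub e hT).symm y = jF e.symm y := by
  rw [jF_of_mem (eSub e hT).symm hy]
  rfl

theorem trSub_eSub (e : S ≃* S') {T : Subgroup Ω} (hT : T ≤ S) {P : Subgroup Ω} (hP : P ≤ T) :
    trSub (eSub e hT) P = trSub e P := by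
  ext y
  rw [mem_trSub, mem_trSub]
  constructor
  · rintro ⟨x, hxT, hx, rfl⟩
    exact ⟨x, hT hxT, hx, (jF_eSub e hT hxT).symm⟩
  · rintro ⟨x, -, hx, rfl⟩
    exact ⟨x, hP hx, hx, jF_eSub e hT (hP hx)⟩

theorem fusIso_pullSys (e : S ≃* S') {T : Subgroup Ω} (hT : T ≤ S) (E' : FusionSystem (trSub e T)) :
    FusIso (pullSys e hT E') E' (eSub e hT) := by
  intro P f hP hf
  rw [mor_pullSys_iff, trSub_eSub e hT hP]
  have hcongr : ∀ y ∈ trSub e P, (jF e ∘ f ∘ jF e.symm) y =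
      (jF (eSub e hT) ∘ f ∘ jF (eSub e hT).symm) y := by
    intro y hy
    have hyT : y ∈ trSub e T := trSub_mono e hP hy
    show jF e (f (jF e.symm y)) = jF (eSub e hT) (f (jF (eSub e hT).symm y))
    rw [jF_eSub_symm e hT hyT, jF_eSub e hT (hf _ (jF_symm_mem e (hP.trans hT) hy))]
  constructor
  · rintro ⟨-, -, hm⟩
    exact hm.congr hcongr
  · intro hm
    exact ⟨hP, hf, hm.congr (fun y hy => (hcongr y hy).symm)⟩

theorem trSub_sup (e : S ≃* S') {A B : Subgroup Ω} (hA : A ≤ S) (hB : B ≤ S) :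
    trSub e (A ⊔ B) = trSub e A ⊔ trSub e B := by
  unfold trSub
  rw [Subgroup.subgroupOf_sup hA hB, Subgroup.map_sup, Subgroup.map_sup]

theorem trSub_centralizerIn (e : S ≃* S') {T : Subgroup Ω} (hT : T ≤ S) :
    trSub e (centralizerIn S T) = centralizerIn S' (trSub e T) := by
  apply le_antisymm
  · intro y hy
    obtain ⟨x, hxS, hx, rfl⟩ := (mem_trSub e).1 hy
    rw [mem_centralizerIn_iff] at hx ⊢
    refine ⟨jF_mem e hxS, fun t' ht' => ?_⟩
    obtain ⟨t, htS, ht, rfl⟩ := (mem_trSub e).1 ht'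
    rw [← jF_mul e htS hxS, ← jF_mul e hxS htS, hx.2 t ht]
  · exact centralizerIn_trSub_le e hT

/-! ### Transport of normality -/

theorem normalIn_pullSys [Finite S] {p : ℕ} [Fact p.Prime] {F : FusionSystem S}
    {F' : FusionSystem S'} {e : S ≃* S'} (h : FusIso F F' e) (hF : F.IsSaturated p)
    {T : Subgroup Ω} (hT : T ≤ S) (E' : FusionSystem (trSub e T)) (hN : E'.IsNormalIn F' p) :
    (pullSys e hT E').IsNormalIn F p := by
  obtain ⟨⟨hE'sat, hF'sat, hinv'⟩, hext'⟩ := hN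
  have hT'S' : trSub e T ≤ S' := trSub_le e T
  haveI : Finite S' := Finite.of_equiv _ e.toEquiv
  haveI : Finite T := finite_of_le hT
  haveI : Finite (trSub e T) := finite_of_le hT'S'
  obtain ⟨hsub', hsc', hAI', hFr'⟩ := (isInvariantIn_iff hT'S').1 hinv'
  have hsc'' := (stronglyClosed_iff.1 hsc').2
  have hEF : ∀ P f, Mor (pullSys e hT E') P f → Mor F P f := by
    intro P f hf
    obtain ⟨hP, hfT, hm⟩ := mor_pullSys_iff.1 hf
    exact (h P f (hP.trans hT) (fun x hx => hT (hfT x hx))).2 (mor_of_subsystem hsub' hm)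
  refine ⟨⟨(fusIso_pullSys e hT E').symm.saturated hE'sat, hF,
    (isInvariantIn_iff hT).2 ⟨?_, ?_, ?_, ?_⟩⟩, ?_⟩
  · -- subsystem
    intro P φ hφ
    obtain ⟨φ', hφ', hφ'φ⟩ := hEF P _ (mor_extFun hφ)
    have : φ' = φ := by
      ext x
      rw [hφ'φ x, extFun_apply]
    rw [← this]
    exact hφ'
  · -- strongly closed
    refine stronglyClosed_iff.2 ⟨hT, fun R f hR hf x hx => ?_⟩
    have hm := h.mor hf
    have h1 := hsc'' (trSub e R) _ (trSub_mono e hR) hm (jF e x) (jF_mem_trSub e (hT (hR hx)) hx)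
    have h2 : jF e (f x) ∈ trSub e T := by
      have e1 : (jF e ∘ f ∘ jF e.symm) (jF e x) = jF e (f x) := by
        show jF e (f (jF e.symm (jF e x))) = _
        rw [jF_symm_jF e (hT (hR hx))]
      rwa [e1] at h1
    have h3 := jF_symm_mem e hT h2
    rwa [jF_symm_jF e (hf.mem hx)] at h3
  · -- invariance under `Aut_F(T)`
    intro P f a hP hf ha haT
    obtain ⟨-, hfT, hm⟩ := mor_pullSys_iff.1 hf
    have ha' := h.mor ha
    have haT' : imgS (trSub e T) (jF e ∘ a ∘ jF e.symm) = trSub e T := by rw [h.imgS_eq ha, haT]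
    obtain ⟨χ', hχ', hχ'eq⟩ := hAI' (trSub e P) _ _ (trSub_mono e hP) hm ha' haT'
    have haP : Mor F P a := ha.restrict hP
    have himgP : imgS (trSub e P) (jF e ∘ a ∘ jF e.symm) = trSub e (imgS P a) := h.imgS_eq haP
    rw [himgP] at hχ'
    have haPT : imgS P a ≤ T := by
      intro y hy
      obtain ⟨x, hx, rfl⟩ := haP.mem_imgS.1 hy
      have := ha.mem_imgS_of_mem (hP hx)
      rwa [haT] at this
    have key : ∀ x ∈ P, χ' (jF e (a x)) = jF e (a (f x)) := by
      intro x hx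
      have hxS := hT (hP hx)
      have h1 := hχ'eq (jF e x) (jF_mem_trSub e hxS hx)
      have e1 : (jF e ∘ a ∘ jF e.symm) (jF e x) = jF e (a x) := by
        show jF e (a (jF e.symm (jF e x))) = _
        rw [jF_symm_jF e hxS]
      have e2 : (jF e ∘ a ∘ jF e.symm) ((jF e ∘ f ∘ jF e.symm) (jF e x)) = jF e (a (f x)) := by
        show jF e (a (jF e.symm (jF e (f (jF e.symm (jF e x)))))) = _
        rw [jF_symm_jF e hxS, jF_symm_jF e (hT (hfT x hx))]
      rw [e1, e2] at h1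
      exact h1
    refine ⟨jF e.symm ∘ χ' ∘ jF e, mor_pullSys_iff.2 ⟨haPT, ?_, ?_⟩, ?_⟩
    · intro y hy
      obtain ⟨x, hx, rfl⟩ := haP.mem_imgS.1 hy
      show jF e.symm (χ' (jF e (a x))) ∈ T
      rw [key x hx, jF_symm_jF e (ha.mem (hfT x hx))]
      have := ha.mem_imgS_of_mem (hfT x hx)
      rwa [haT] at this
    · refine hχ'.congr (fun z hz => ?_)
      have hzS : z ∈ S' := trSub_le e _ hz
      show χ' z = jF e (jF e.symm (χ' (jF e (jF e.symm z))))
      rw [jF_jF_symm e hzS, jF_jF_symm e (hT'S' (hχ'.mem hz))]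
    · intro x hx
      show jF e.symm (χ' (jF e (a x))) = a (f x)
      rw [key x hx, jF_symm_jF e (ha.mem (hfT x hx))]
  · -- Frattini condition
    intro P f hP hf
    have hm := h.mor hf
    obtain ⟨a', f₀', ha', ha'T, hf₀', hfa'⟩ := hFr' (trSub e P) _ (trSub_mono e hP) hm
    have ha : Mor F T (jF e.symm ∘ a' ∘ jF e) := by
      have h1 := h.symm.mor ha'
      rw [trSub_symm_trSub e hT] at h1
      exact h1
    have haT : imgS T (jF e.symm ∘ a' ∘ jF e) = T := by
      apply imgS_eq_of_maps ha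
      intro x hx
      show jF e.symm (a' (jF e x)) ∈ T
      have h1 : a' (jF e x) ∈ trSub e T := by
        have := ha'.mem_imgS_of_mem (jF_mem_trSub e (hT hx) hx)
        rwa [ha'T] at this
      exact jF_symm_mem e hT h1
    have hf₀T : ∀ x ∈ P, jF e.symm (f₀' (jF e x)) ∈ T := fun x hx =>
      jF_symm_mem e hT (hf₀'.mem (jF_mem_trSub e (hT (hP hx)) hx))
    refine ⟨jF e.symm ∘ a' ∘ jF e, jF e.symm ∘ f₀' ∘ jF e, ha, haT,
      mor_pullSys_iff.2 ⟨hP, hf₀T, ?_⟩, ?_⟩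
    · refine hf₀'.congr (fun z hz => ?_)
      have hzS : z ∈ S' := trSub_le e _ hz
      show f₀' z = jF e (jF e.symm (f₀' (jF e (jF e.symm z))))
      rw [jF_jF_symm e hzS, jF_jF_symm e (hT'S' (hf₀'.mem hz))]
    · intro x hx
      have hxS := hT (hP hx)
      have h1 := hfa' (jF e x) (jF_mem_trSub e hxS hx)
      show f x = jF e.symm (a' (jF e (jF e.symm (f₀' (jF e x)))))
      rw [jF_jF_symm e (hT'S' (hf₀'.mem (jF_mem_trSub e hxS hx))), ← h1]
      show f x = jF e.symm (jF e (f (jF e.symm (jF e x))))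
      rw [jF_symm_jF e hxS, jF_symm_jF e (hf.mem hx)]
  · -- extension condition
    intro α hα
    have ha : Mor (pullSys e hT E') T (autFun T α) := (mem_autGroup_iff le_rfl α).1 hα
    obtain ⟨-, haT, hm⟩ := mor_pullSys_iff.1 ha
    have himg' : imgS (trSub e T) (jF e ∘ autFun T α ∘ jF e.symm) = trSub e T :=
      imgS_eq_of_maps hm (fun y hy => hm.mem hy)
    obtain ⟨β', hβ', hβ'α, hβ'c⟩ := hext' (mkAut hm himg') (mkAut_mem hm himg')
    have hCle : centralizerIn S T ≤ S := centralizerIn_le_left S T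
    have hR : T ⊔ centralizerIn S T ≤ S := sup_le hT hCle
    have hR' : trSub e T ⊔ centralizerIn S' (trSub e T) ≤ S' :=
      sup_le hT'S' (centralizerIn_le_left _ _)
    have hb' : Mor F' (trSub e T ⊔ centralizerIn S' (trSub e T)) (autFun _ β') :=
      (mem_autGroup_iff hR' β').1 hβ'
    have hC1 := trSub_centralizerIn e hT
    have hRR' : trSub e (T ⊔ centralizerIn S T) = trSub e T ⊔ centralizerIn S' (trSub e T) := by
      rw [trSub_sup e hT hCle, hC1]
    have hb : Mor F (T ⊔ centralizerIn S T) (jF e.symm ∘ autFun _ β' ∘ jF e) := by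
      have h1 : Mor F (trSub e.symm (trSub e (T ⊔ centralizerIn S T)))
          (jF e.symm ∘ autFun _ β' ∘ jF e) := by
        rw [hRR']
        exact h.symm.mor hb'
      rw [trSub_symm_trSub e hR] at h1
      exact h1
    have hbmaps : ∀ x ∈ T ⊔ centralizerIn S T,
        (jF e.symm ∘ autFun _ β' ∘ jF e) x ∈ T ⊔ centralizerIn S T := by
      intro x hx
      have h1 : jF e x ∈ trSub e T ⊔ centralizerIn S' (trSub e T) :=
        hRR'.le (jF_mem_trSub e (hR hx) hx)
      have h2 := autFun_mem β' h1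
      exact jF_symm_mem e hR (hRR'.ge h2)
    haveI : Finite ↥(T ⊔ centralizerIn S T) := finite_of_le hR
    have himgb := imgS_eq_of_maps hb hbmaps
    refine ⟨mkAut hb himgb, mkAut_mem hb himgb, fun x => ?_, fun c hc => ?_⟩
    · rw [mkAut_apply]
      show jF e.symm (autFun _ β' (jF e (x : Ω))) = _
      have hx' : jF e (x : Ω) ∈ trSub e T := jF_mem_trSub e (hT x.2) x.2
      have h1 := hβ'α ⟨jF e x, hx'⟩
      have h2 : autFun _ β' (jF e (x : Ω)) =
          ((β' (Subgroup.inclusion le_sup_left ⟨jF e x, hx'⟩) :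
            ↥(trSub e T ⊔ centralizerIn S' (trSub e T))) : Ω') :=
        autFun_of_mem β' (Subgroup.mem_sup_left hx')
      rw [h2, h1, mkAut_apply]
      show jF e.symm (jF e (autFun T α (jF e.symm (jF e (x : Ω))))) = _
      rw [jF_symm_jF e (hT x.2), jF_symm_jF e (hT (autFun_mem α x.2)), autFun_apply]
    · rw [mkAut_apply]
      show (c : Ω)⁻¹ * jF e.symm (autFun _ β' (jF e (c : Ω))) ∈ _
      have hcS : (c : Ω) ∈ S := hCle hc
      have hc'C : jF e (c : Ω) ∈ centralizerIn S' (trSub e T) := hC1.le (jF_mem_trSub e hcS hc)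
      have hc'R : jF e (c : Ω) ∈ trSub e T ⊔ centralizerIn S' (trSub e T) :=
        Subgroup.mem_sup_right hc'C
      have h1 := hβ'c ⟨jF e c, hc'R⟩ hc'C
      have h2 : autFun _ β' (jF e (c : Ω)) =
          ((β' ⟨jF e c, hc'R⟩ : ↥(trSub e T ⊔ centralizerIn S' (trSub e T))) : Ω') :=
        autFun_of_mem β' hc'R
      rw [← h2] at h1
      have hbS : autFun _ β' (jF e (c : Ω)) ∈ S' := hR' (autFun_mem β' hc'R)
      have hc'S : jF e (c : Ω) ∈ S' := jF_mem e hcS
      have h3 : (c : Ω)⁻¹ * jF e.symm (autFun _ β' (jF e (c : Ω))) =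
          jF e.symm ((jF e (c : Ω))⁻¹ * autFun _ β' (jF e (c : Ω))) := by
        rw [jF_mul e.symm (S'.inv_mem hc'S) hbS, jF_inv e.symm hc'S, jF_symm_jF e hcS]
      rw [h3]
      refine ⟨jF_symm_mem e hT h1.1, ?_⟩
      refine Subgroup.mem_centralizer_iff.2 (fun t ht => ?_)
      have ht' : t ∈ T := ht
      have hzS : (jF e (c : Ω))⁻¹ * autFun _ β' (jF e (c : Ω)) ∈ S' := S'.mul_mem (S'.inv_mem hc'S) hbS
      have hwS := jF_mem e.symm hzS
      apply jF_injOn e (S.mul_mem (hT ht') hwS) (S.mul_mem hwS (hT ht'))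
      rw [jF_mul e (hT ht') hwS, jF_mul e hwS (hT ht'), jF_jF_symm e hzS]
      exact Subgroup.mem_centralizer_iff.1 h1.2 (jF e t) (jF_mem_trSub e (hT ht') ht')

end Cfsg.Agent.H90
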