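import Cfsg.Agent.H89.OmegaFix

set_option autoImplicit false

namespace Cfsg.Agent.H90

open Cfsg Cfsg.Agent.H89

/-- An element of small order: `x ^ p = 1`, or `x ^ 4 = 1` when `p = 2`. -/
def Small (p : ℕ) {U : Type*} [Group U] (x : U) : Prop := x ^ p = 1 ∨ (p = 2 ∧ x ^ 4 = 1)

theorem small_one (p : ℕ) {U : Type*} [Group U] : Small p (1 : U) := Or.inl (one_pow p)

theorem Small.inv {p : ℕ} {U : Type*} [Group U] {x : U} (h : Small p x) : Small p x⁻¹ := by
  rcases h with h | ⟨h2, h⟩
  · exact Or.inl (by rw [inv_pow, h, inv_one])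
  · exact Or.inr ⟨h2, by rw [inv_pow, h, inv_one]⟩

theorem Small.map {p : ℕ} {U V : Type*} [Group U] [Group V] {x : U} (h : Small p x) (f : U →* V) :
    Small p (f x) := by
  rcases h with h | ⟨h2, h⟩
  · exact Or.inl (by rw [← map_pow, h, map_one])
  · exact Or.inr ⟨h2, by rw [← map_pow, h, map_one]⟩

theorem Small.aut {p : ℕ} {U : Type*} [Group U] {x : U} (h : Small p x) (γ : MulAut U) :
    Small p (γ x) := h.map γ.toMonoidHom

theorem Small.pow_four {U : Type*} [Group U] {x : U} (h : Small 2 x) : x ^ 4 = 1 := by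
  rcases h with h | ⟨-, h⟩
  · have : x ^ 4 = (x ^ 2) ^ 2 := by rw [← pow_mul]
    rw [this, h, one_pow]
  · exact h

theorem Small.pow_p {p : ℕ} (hp2 : p ≠ 2) {U : Type*} [Group U] {x : U} (h : Small p x) : x ^ p = 1 := by
  rcases h with h | ⟨h2, -⟩
  · exact h
  · exact absurd h2 hp2

/-- The subgroup generated by the `G`-conjugates of `τ`. -/
def conjClosure {U : Type*} [Group U] (G : Subgroup (MulAut U)) (τ : MulAut U) : Subgroup (MulAut U) :=
  Subgroup.closure {δ | ∃ γ ∈ G, δ = γ * τ * γ⁻¹}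

theorem mem_conjClosure_self {U : Type*} [Group U] (G : Subgroup (MulAut U)) (τ : MulAut U) :
    τ ∈ conjClosure G τ :=
  Subgroup.subset_closure ⟨1, G.one_mem, by simp⟩

theorem conjClosure_le {U : Type*} [Group U] {G : Subgroup (MulAut U)} {τ : MulAut U} (hτ : τ ∈ G) :
    conjClosure G τ ≤ G := by
  unfold conjClosure
  rw [Subgroup.closure_le]
  rintro _ ⟨γ, hγ, rfl⟩
  exact G.mul_mem (G.mul_mem hγ hτ) (G.inv_mem hγ)

theorem conjClosure_conj_mem {U : Type*} [Group U] {G : Subgroup (MulAut U)} {τ : MulAut U}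
    {γ δ : MulAut U} (hγ : γ ∈ G) (hδ : δ ∈ conjClosure G τ) : γ * δ * γ⁻¹ ∈ conjClosure G τ := by
  unfold conjClosure at hδ ⊢
  induction hδ using Subgroup.closure_induction with
  | mem x hx =>
    obtain ⟨γ', hγ', rfl⟩ := hx
    apply Subgroup.subset_closure
    exact ⟨γ * γ', G.mul_mem hγ hγ', by group⟩
  | one => simp
  | mul a b _ _ iha ihb =>
    have : γ * (a * b) * γ⁻¹ = (γ * a * γ⁻¹) * (γ * b * γ⁻¹) := by group
    rw [this]; exact Subgroup.mul_mem _ iha ihb
  | inv a _ iha =>
    have : γ * a⁻¹ * γ⁻¹ = (γ * a * γ⁻¹)⁻¹ := by group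
    rw [this]; exact Subgroup.inv_mem _ iha

/-- **Key lemma.** Let `G` be a group of automorphisms of a finite `p`-group `U`, `τ ∈ G`, and `X₀` a
subgroup with a chain `Z 0 = ⊥, …, Z n ⊇ X₀` such that `G` preserves the *small* elements of each
`X₀ ∩ Z j`, and `τ` moves the small elements of `X₀ ∩ Z (j+1)` only by elements of `Z j`. Then every
element of order prime to `p` of the subgroup generated by the `G`-conjugates of `τ` fixes every
`G`-invariant subgroup `X ≤ X₀` pointwise. -/
theorem fix_of_conjClosure {U : Type*} [Group U] [Finite U] {p : ℕ} [hp : Fact p.Prime]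
    (hU : IsPGroup p U) (G : Subgroup (MulAut U)) (τ : MulAut U) (hτ : τ ∈ G) (Z : ℕ → Subgroup U)
    (n : ℕ) (hZ0 : Z 0 = ⊥) (X₀ : Subgroup U) (hX₀ : X₀ ≤ Z n)
    (ha : ∀ j ≤ n, ∀ x ∈ X₀, x ∈ Z j → Small p x → ∀ γ ∈ G, γ x ∈ Z j)
    (hb : ∀ j < n, ∀ x ∈ X₀, x ∈ Z (j + 1) → Small p x → x⁻¹ * τ x ∈ Z j) :
    ∀ (N : ℕ) (X : Subgroup U), Nat.card X ≤ N → X ≤ X₀ → (∀ γ ∈ G, ∀ x ∈ X, γ x ∈ X) →
      ∀ β ∈ conjClosure G τ, ∀ m : ℕ, m.Coprime p → β ^ m = 1 → ∀ x ∈ X, β x = x := by
  intro N
  induction N with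
  | zero =>
    intro X hcard _ _ _ _ _ _ _ _ _
    have : 0 < Nat.card X := Nat.card_pos
    omega
  | succ N ih =>
    intro X hcard hXX₀ hinv β hβ m hm hβm
    have hcop : ∀ v : U, v ^ m = 1 → v = 1 := fun v hv => eq_one_of_pow_coprime hU hm v hv
    have hCG : conjClosure G τ ≤ G := conjClosure_le hτ
    -- smaller invariant subgroups are fixed pointwise by the p'-elements
    have hsmall : ∀ W : Subgroup U, W ≤ X → W ≠ X → (∀ γ ∈ G, ∀ w ∈ W, γ w ∈ W) →
        ∀ δ ∈ conjClosure G τ, ∀ k : ℕ, k.Coprime p → δ ^ k = 1 → ∀ w ∈ W, δ w = w := by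
      intro W hWX hWne hWinv
      have hlt : Nat.card W < Nat.card X := by
        by_contra hge
        exact hWne (Subgroup.eq_of_le_of_card_ge hWX (not_lt.1 hge))
      exact ih W (by omega) (hWX.trans hXX₀) hWinv
    -- R = [X, O^p]
    let R : Subgroup U := Subgroup.closure {u | ∃ x ∈ X, ∃ δ ∈ conjClosure G τ, ∃ k : ℕ,
      k.Coprime p ∧ δ ^ k = 1 ∧ u = x⁻¹ * δ x}
    have hRX : R ≤ X := by
      rw [Subgroup.closure_le]
      rintro _ ⟨x, hx, δ, hδ, k, -, -, rfl⟩
      exact X.mul_mem (X.inv_mem hx) (hinv δ (hCG hδ) x hx)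
    have hRinv : ∀ γ ∈ G, ∀ r ∈ R, γ r ∈ R := by
      intro γ hγ r hr
      induction hr using Subgroup.closure_induction with
      | mem u hu =>
        obtain ⟨x, hx, δ, hδ, k, hk, hδk, rfl⟩ := hu
        apply Subgroup.subset_closure
        refine ⟨γ x, hinv γ hγ x hx, γ * δ * γ⁻¹, conjClosure_conj_mem hγ hδ, k, hk, ?_, ?_⟩
        · rw [conj_pow, hδk, mul_one, mul_inv_cancel]
        · rw [map_mul, map_inv, MulAut.mul_apply, MulAut.mul_apply, MulAut.inv_apply_self]
      | one => rw [map_one]; exact Subgroup.one_mem _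
      | mul a b _ _ iha ihb => rw [map_mul]; exact Subgroup.mul_mem _ iha ihb
      | inv a _ iha => rw [map_inv]; exact Subgroup.inv_mem _ iha
    have hgenR : ∀ x ∈ X, ∀ δ ∈ conjClosure G τ, ∀ k : ℕ, k.Coprime p → δ ^ k = 1 → x⁻¹ * δ x ∈ R :=
      fun x hx δ hδ k hk hδk => Subgroup.subset_closure ⟨x, hx, δ, hδ, k, hk, hδk, rfl⟩
    by_cases hR : R = X
    · by_cases hbot : X = ⊥
      · intro x hx
        rw [hbot, Subgroup.mem_bot] at hx
        rw [hx, map_one]
      haveI : Finite X := inferInstance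
      obtain ⟨M, hMX, hMne, hMpow, hMcomm⟩ := exists_proper_pow_comm X (hU.to_subgroup X) hbot
      let Nn : Subgroup U := Subgroup.closure ({u | ∃ v ∈ X, u = v ^ p} ∪
        {u | ∃ v ∈ X, ∃ w ∈ X, u = v * w * v⁻¹ * w⁻¹})
      have hNM : Nn ≤ M := by
        rw [Subgroup.closure_le]
        rintro _ (⟨v, hv, rfl⟩ | ⟨v, hv, w, hw, rfl⟩)
        · exact hMpow v hv
        · exact hMcomm v hv w hw
      have hNX : Nn ≤ X := hNM.trans hMX
      have hNne : Nn ≠ X := fun h => hMne (le_antisymm hMX (h ▸ hNM))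
      have hNinv : ∀ γ ∈ G, ∀ z ∈ Nn, γ z ∈ Nn := by
        intro γ hγ z hz
        induction hz using Subgroup.closure_induction with
        | mem u hu =>
          apply Subgroup.subset_closure
          rcases hu with ⟨v, hv, rfl⟩ | ⟨v, hv, w, hw, rfl⟩
          · exact Or.inl ⟨γ v, hinv γ hγ v hv, by rw [map_pow]⟩
          · exact Or.inr ⟨γ v, hinv γ hγ v hv, γ w, hinv γ hγ w hw, by simp only [map_mul, map_inv]⟩
        | one => rw [map_one]; exact Subgroup.one_mem _
        | mul a b _ _ iha ihb => rw [map_mul]; exact Subgroup.mul_mem _ iha ihb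
        | inv a _ iha => rw [map_inv]; exact Subgroup.inv_mem _ iha
      have hNconj : ∀ x ∈ X, ∀ z ∈ Nn, x * z * x⁻¹ ∈ Nn := by
        intro x hx z hz
        induction hz using Subgroup.closure_induction with
        | mem u hu =>
          apply Subgroup.subset_closure
          rcases hu with ⟨v, hv, rfl⟩ | ⟨v, hv, w, hw, rfl⟩
          · refine Or.inl ⟨x * v * x⁻¹, X.mul_mem (X.mul_mem hx hv) (X.inv_mem hx), ?_⟩
            rw [conj_pow]
          · refine Or.inr ⟨x * v * x⁻¹, X.mul_mem (X.mul_mem hx hv) (X.inv_mem hx),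
              x * w * x⁻¹, X.mul_mem (X.mul_mem hx hw) (X.inv_mem hx), ?_⟩
            group
        | one => simp
        | mul a b _ _ iha ihb =>
          have : x * (a * b) * x⁻¹ = (x * a * x⁻¹) * (x * b * x⁻¹) := by group
          rw [this]; exact Subgroup.mul_mem _ iha ihb
        | inv a _ iha =>
          have : x * a⁻¹ * x⁻¹ = (x * a * x⁻¹)⁻¹ := by group
          rw [this]; exact Subgroup.inv_mem _ iha
      have hNfix : ∀ δ ∈ conjClosure G τ, ∀ k : ℕ, k.Coprime p → δ ^ k = 1 → ∀ z ∈ Nn, δ z = z :=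
        hsmall Nn hNX hNne hNinv
      have hpowN : ∀ v ∈ X, v ^ p ∈ Nn := fun v hv => Subgroup.subset_closure (Or.inl ⟨v, hv, rfl⟩)
      have hcommN : ∀ v ∈ X, ∀ w ∈ X, v * w * v⁻¹ * w⁻¹ ∈ Nn :=
        fun v hv w hw => Subgroup.subset_closure (Or.inr ⟨v, hv, w, hw, rfl⟩)
      -- Nn is central in X
      have hcentral : ∀ z ∈ Nn, ∀ v ∈ X, v * z = z * v := by
        intro z hz
        have hle : R ≤ Subgroup.centralizer {z} := by
          rw [Subgroup.closure_le]
          rintro _ ⟨x, hx, δ, hδ, k, hk, hδk, rfl⟩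
          rw [SetLike.mem_coe, Subgroup.mem_centralizer_iff]
          intro y hy
          rw [Set.mem_singleton_iff] at hy
          subst hy
          have h1 := hNfix δ hδ k hk hδk _ (hNconj x hx y hz)
          rw [map_mul, map_mul, map_inv, hNfix δ hδ k hk hδk y hz] at h1
          calc y * (x⁻¹ * δ x) = x⁻¹ * (x * y * x⁻¹) * δ x := by group
            _ = x⁻¹ * (δ x * y * (δ x)⁻¹) * δ x := by rw [h1]
            _ = x⁻¹ * δ x * y := by group
        intro v hv
        have hvR : v ∈ R := hR ▸ hv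
        have := Subgroup.mem_centralizer_iff.1 (hle hvR) z (Set.mem_singleton z)
        exact this.symm
      -- the commutator c of two elements y, x of X with y x = c x y
      have hcomm_data : ∀ x ∈ X, ∀ y ∈ X, ∃ c : U, c ∈ Nn ∧ y * x = c * x * y ∧ Commute c x ∧
          Commute c y := by
        intro x hx y hy
        refine ⟨y * x * y⁻¹ * x⁻¹, hcommN y hy x hx, by group, ?_, ?_⟩
        · exact (hcentral _ (hcommN y hy x hx) x hx).symm
        · exact (hcentral _ (hcommN y hy x hx) y hy).symm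
      -- products of small elements of X are small
      have hmul_small : ∀ x ∈ X, ∀ y ∈ X, Small p x → Small p y → Small p (x * y) := by
        intro x hx y hy hsx hsy
        obtain ⟨c, hcN, hrel, hcx, hcy⟩ := hcomm_data x hx y hy
        by_cases hp2 : p = 2
        · refine Or.inr ⟨hp2, ?_⟩
          subst hp2
          have hx4 := hsx.pow_four
          have hy4 := hsy.pow_four
          have hc2 : c ^ 2 = 1 := by
            have h1 := pow_mul_of_comm x y c hrel hcy 2
            have h2 : y ^ 2 * x = x * y ^ 2 := hcentral _ (hpowN y hy) x hx |>.symm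
            rw [h2] at h1
            have h3 : c ^ 2 * (x * y ^ 2) = x * y ^ 2 := by rw [← mul_assoc]; exact h1.symm
            exact mul_eq_right.1 h3
          rw [mul_pow_of_comm x y c hrel hcx hcy 4, hx4, hy4, one_mul, one_mul]
          have : (4 : ℕ).choose 2 = 2 * 3 := by decide
          rw [this, pow_mul, hc2, one_pow]
        · refine Or.inl ?_
          have hxp := hsx.pow_p hp2
          have hyp := hsy.pow_p hp2
          have hcp : c ^ p = 1 := by
            have h1 := pow_mul_of_comm x y c hrel hcy p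
            rw [hyp, one_mul, mul_one] at h1
            exact (mul_eq_right.1 h1.symm)
          have hchoose : c ^ (p.choose 2) = 1 := by
            have h2lt : 2 < p := lt_of_le_of_ne hp.out.two_le (Ne.symm hp2)
            obtain ⟨t, ht⟩ := Nat.Prime.dvd_choose_self hp.out (by norm_num : (2 : ℕ) ≠ 0) h2lt
            rw [ht, pow_mul, hcp, one_pow]
          rw [mul_pow_of_comm x y c hrel hcx hcy p, hxp, hyp, hchoose, one_mul, one_mul]
      -- the generators of R are small
      have hgen_small : ∀ x ∈ X, ∀ δ ∈ conjClosure G τ, ∀ k : ℕ, k.Coprime p → δ ^ k = 1 →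
          Small p (x⁻¹ * δ x) := by
        intro x hx δ hδ k hk hδk
        have hδx : δ x ∈ X := hinv δ (hCG hδ) x hx
        obtain ⟨c, hcN, hrel, hcx, hcy⟩ := hcomm_data x⁻¹ (X.inv_mem hx) (δ x) hδx
        have hcp : c ^ p = 1 := by
          have h1 := pow_mul_of_comm x⁻¹ (δ x) c hrel hcy p
          have h2 : (δ x) ^ p * x⁻¹ = x⁻¹ * (δ x) ^ p :=
            (hcentral _ (hpowN _ hδx) x⁻¹ (X.inv_mem hx)).symm
          rw [h2] at h1
          have h3 : c ^ p * (x⁻¹ * δ x ^ p) = x⁻¹ * δ x ^ p := by rw [← mul_assoc]; exact h1.symm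
          exact mul_eq_right.1 h3
        have hpow : (x⁻¹ * δ x) ^ p = c ^ (p.choose 2) := by
          rw [mul_pow_of_comm x⁻¹ (δ x) c hrel hcx hcy p, inv_pow, ← map_pow,
            hNfix δ hδ k hk hδk _ (hpowN x hx), inv_mul_cancel, one_mul]
        by_cases hp2 : p = 2
        · refine Or.inr ⟨hp2, ?_⟩
          subst hp2
          have h4 : (x⁻¹ * δ x) ^ 4 = ((x⁻¹ * δ x) ^ 2) ^ 2 := by rw [← pow_mul]
          have : (2 : ℕ).choose 2 = 1 := by decide
          rw [h4, hpow, this, pow_one, hcp]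
        · refine Or.inl ?_
          have h2lt : 2 < p := lt_of_le_of_ne hp.out.two_le (Ne.symm hp2)
          obtain ⟨t, ht⟩ := Nat.Prime.dvd_choose_self hp.out (by norm_num : (2 : ℕ) ≠ 0) h2lt
          rw [hpow, ht, pow_mul, hcp, one_pow]
      -- all elements of X are small
      have hall_small : ∀ x ∈ X, Small p x := by
        intro x hx
        have hxR : x ∈ R := hR ▸ hx
        induction hxR using Subgroup.closure_induction with
        | mem u hu =>
          obtain ⟨y, hy, δ, hδ, k, hk, hδk, rfl⟩ := hu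
          exact hgen_small y hy δ hδ k hk hδk
        | one => exact small_one p
        | mul a b ha' hb' iha ihb =>
          have haX : a ∈ X := hRX ha'
          have hbX : b ∈ X := hRX hb'
          exact hmul_small a haX b hbX (iha haX) (ihb hbX)
        | inv a ha' iha => exact (iha (hRX ha')).inv
      -- the conjugates of τ stabilize the chain X ∩ Z j
      have key : ∀ δ ∈ conjClosure G τ, ∀ j < n, ∀ x ∈ X, x ∈ Z (j + 1) → x⁻¹ * δ x ∈ Z j := by
        intro δ hδ
        induction hδ using Subgroup.closure_induction with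
        | mem δ' hδ' =>
          obtain ⟨γ, hγ, rfl⟩ := hδ'
          intro j hj x hx hxZ
          have hγi : γ⁻¹ ∈ G := G.inv_mem hγ
          have hyX : γ⁻¹ x ∈ X := hinv _ hγi x hx
          have hyZ : γ⁻¹ x ∈ Z (j + 1) := ha (j + 1) (by omega) x (hXX₀ hx) hxZ (hall_small x hx) _ hγi
          have hw := hb j hj _ (hXX₀ hyX) hyZ (hall_small _ hyX)
          have hwX : (γ⁻¹ x)⁻¹ * τ (γ⁻¹ x) ∈ X := X.mul_mem (X.inv_mem hyX) (hinv τ hτ _ hyX)
          have h3 := ha j (by omega) _ (hXX₀ hwX) hw (hall_small _ hwX) γ hγ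
          have : x⁻¹ * (γ * τ * γ⁻¹) x = γ ((γ⁻¹ x)⁻¹ * τ (γ⁻¹ x)) := by
            rw [map_mul, map_inv, MulAut.mul_apply, MulAut.mul_apply, MulAut.apply_inv_self]
          rw [this]
          exact h3
        | one =>
          intro j _ x _ _
          rw [MulAut.one_apply, inv_mul_cancel]
          exact Subgroup.one_mem _
        | mul a b ha' hb' iha ihb =>
          intro j hj x hx hxZ
          have hbG : b ∈ G := hCG hb'
          have hbx : b x ∈ X := hinv b hbG x hx
          have hbxZ : b x ∈ Z (j + 1) := ha (j + 1) (by omega) x (hXX₀ hx) hxZ (hall_small x hx) b hbG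
          have h1 := ihb j hj x hx hxZ
          have h2 := iha j hj (b x) hbx hbxZ
          have : x⁻¹ * (a * b) x = (x⁻¹ * b x) * ((b x)⁻¹ * a (b x)) := by
            rw [MulAut.mul_apply]; group
          rw [this]
          exact Subgroup.mul_mem _ h1 h2
        | inv a ha' iha =>
          intro j hj x hx hxZ
          have haG : a⁻¹ ∈ G := G.inv_mem (hCG ha')
          have hyX : a⁻¹ x ∈ X := hinv _ haG x hx
          have hyZ : a⁻¹ x ∈ Z (j + 1) := ha (j + 1) (by omega) x (hXX₀ hx) hxZ (hall_small x hx) _ haG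
          have h1 := iha j hj _ hyX hyZ
          rw [MulAut.apply_inv_self] at h1
          have : x⁻¹ * a⁻¹ x = ((a⁻¹ x)⁻¹ * x)⁻¹ := by group
          rw [this]
          exact Subgroup.inv_mem _ h1
      have hfix := fix_of_chain β m hβm hcop (fun i => {x | x ∈ X ∧ x ∈ Z (n - i)}) n
        (by
          rintro u ⟨-, hu⟩
          rw [Nat.sub_self, hZ0, Subgroup.mem_bot] at hu
          exact hu)
        (by
          rintro i hi u ⟨huX, huZ⟩
          have h1 : n - i = (n - (i + 1)) + 1 := by omega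
          rw [h1] at huZ
          exact ⟨X.mul_mem (X.inv_mem huX) (hinv β (hCG hβ) u huX),
            key β hβ (n - (i + 1)) (by omega) u huX huZ⟩)
      intro x hx
      exact hfix n 0 (by omega) x ⟨hx, by rw [Nat.sub_zero]; exact hX₀ (hXX₀ hx)⟩
    · -- R < X
      have hRfix := hsmall R hRX hR hRinv
      apply fix_of_fix_comm β m hβm X (fun v _ hv => hcop v hv)
      intro v hv
      exact ⟨hRX (hgenR v hv β hβ m hm hβm), hRfix β hβ m hm hβm _ (hgenR v hv β hβ m hm hβm)⟩

end Cfsg.Agent.H90
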