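import Cfsg.Agent.H86.FusAlperin

set_option autoImplicit false
set_option maxHeartbeats 1000000

/-!
Alperin's fusion theorem for saturated fusion systems, with an induction hypothesis: to show
`F ≤ E` it suffices to show `Aut_F(P) ≤ Aut_E(P)` for `P = S` or `P` essential, knowing that all
maps of `F` on subgroups of larger order already lie in `E`.
(The proof is the one of `Cfsg.Agent.H86.alperin`, carrying the induction hypothesis along.)
-/

namespace Cfsg.Agent.H90

open Cfsg Cfsg.FusionSystem Cfsg.Agent.H86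

variable {Ω : Type*} [Group Ω] {S : Subgroup Ω}

theorem alperin_induct [Finite S] {p : ℕ} [Fact p.Prime] (hS : IsPGroup p S) {F : FusionSystem S}
    (hF : F.IsSaturated p) (E : FusionSystem S)
    (hE : ∀ P : Subgroup Ω, (P = S ∨ F.IsEssential p P) →
      (∀ (Q : Subgroup Ω) (g : Ω → Ω), Mor F Q g → Nat.card P < Nat.card Q → Mor E Q g) →
      F.autGroup P ≤ E.autGroup P) :
    ∀ (P : Subgroup Ω) (f : Ω → Ω), Mor F P f → Mor E P f := by
  intro P
  induction' hk : Nat.card S - Nat.card P using Nat.strong_induction_on with k ih generalizing P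
  intro f hf
  have hP : P ≤ S := hf.le
  have : Finite P := finite_of_le hP
  -- the induction hypothesis: maps defined on larger subgroups are in `E`
  have IH : ∀ (Q : Subgroup Ω) (g : Ω → Ω), Mor F Q g → Nat.card P < Nat.card Q → Mor E Q g := by
    intro Q g hg hlt
    have hQcard : Nat.card Q ≤ Nat.card S := Subgroup.card_le_of_le hg.le
    exact ih (Nat.card S - Nat.card Q) (by omega) Q rfl g hg
  by_cases hPS : P = S
  · subst hPS
    have himg : imgS P f = P := imgS_eq_of_maps hf (fun x hx => hf.mem hx)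
    have h1 : mkAut hf himg ∈ E.autGroup P := hE P (Or.inl rfl) IH (mkAut_mem hf himg)
    exact ((mem_autGroup_iff le_rfl _).1 h1).congr (fun x hx => autFun_mkAut hf himg hx)
  · have hPlt : P < S := lt_of_le_of_ne hP hPS
    obtain ⟨R, hPR, hRa, hRr⟩ := hF P hP
    have hRS : R ≤ S := hRa.1
    have hRcard : Nat.card R = Nat.card P := isConj_card hPR
    have hcardlt : ∀ Q : Subgroup Ω, Q ≤ S → Nat.card Q = Nat.card P → Q < S := by
      intro Q hQ hc
      refine lt_of_le_of_ne hQ (fun h => ?_)
      subst h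
      have := Subgroup.eq_of_le_of_card_ge hP (le_of_eq hc)
      exact hPS this
    have hRlt : R < S := hcardlt R hRS hRcard
    have hP'S : imgS P f ≤ S := hf.imgS_le
    have hP'card : Nat.card (imgS P f) = Nat.card P := hf.card_imgS
    have hP'lt : imgS P f < S := hcardlt _ hP'S hP'card
    have hPP' : F.IsConj P (imgS P f) := isConj_iff.2 ⟨f, hf, rfl⟩
    obtain ⟨χ, hχ, -, hχimg⟩ := exists_normalizer_map hS hRa hRr hPR
    obtain ⟨χ', hχ', -, hχ'img⟩ := exists_normalizer_map hS hRa hRr (isConj_trans (isConj_symm hPP') hPR)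
    have hNlt : ∀ Q : Subgroup Ω, Q < S → Nat.card Q = Nat.card P → Nat.card P < Nat.card (normalizerIn S Q) := by
      intro Q hQ hc
      rw [← hc]
      have : Finite (normalizerIn S Q) := finite_of_le (S := S) inf_le_left
      exact card_lt_card_of_lt (lt_normalizerIn hS hQ)
    have hχE : Mor E (normalizerIn S P) χ := IH _ χ hχ (hNlt P hPlt rfl)
    have hχ'E : Mor E (normalizerIn S (imgS P f)) χ' := IH _ χ' hχ' (hNlt _ hP'lt hP'card)
    have hPN : P ≤ normalizerIn S P := le_normalizerIn hP
    have hP'N : imgS P f ≤ normalizerIn S (imgS P f) := le_normalizerIn hP'S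
    -- the automorphism of `R`
    have hχP : Mor F P χ := hχ.restrict hPN
    have hχ'P' : Mor F (imgS P f) χ' := hχ'.restrict hP'N
    have hinv : Mor F R (invOn P χ) := by
      have := hχP.inv
      rwa [hχimg] at this
    have hinvmem : ∀ y ∈ R, invOn P χ y ∈ P := fun y hy => hχP.invOn_mem (by rw [hχimg]; exact hy)
    have h1 : Mor F R (f ∘ invOn P χ) := hinv.comp hf hinvmem
    have h2 : Mor F R (χ' ∘ (f ∘ invOn P χ)) :=
      h1.comp hχ'P' (fun y hy => hf.mem_imgS_of_mem (hinvmem y hy))
    have : Finite R := finite_of_le hRS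
    have h2img : imgS R (χ' ∘ (f ∘ invOn P χ)) = R := by
      refine imgS_eq_of_maps h2 (fun y hy => ?_)
      show χ' (f (invOn P χ y)) ∈ R
      rw [← hχ'img]
      exact hχ'P'.mem_imgS_of_mem (hf.mem_imgS_of_mem (hinvmem y hy))
    have hautE : F.autGroup R ≤ E.autGroup R := by
      by_cases hess : F.IsEssential p R
      · exact hE R (Or.inr hess) (fun Q g hg hlt => IH Q g hg (hRcard ▸ hlt))
      · refine (autGroup_le_extAuts hS hRa hRr hRlt hess).trans ?_
        unfold extAuts
        rw [Subgroup.closure_le]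
        rintro α ⟨Q, hRQ, g, hg, hgα⟩
        have hQS : Q ≤ S := hg.le
        have : Finite Q := finite_of_le hQS
        have hlt : Nat.card P < Nat.card Q := by
          rw [← hRcard]
          exact card_lt_card_of_lt hRQ
        exact (mem_autGroup_iff hRS α).2 (((IH Q g hg hlt).restrict hRQ.le).congr hgα)
    have h3 : Mor E R (χ' ∘ (f ∘ invOn P χ)) :=
      ((mem_autGroup_iff hRS _).1 (hautE (mkAut_mem h2 h2img))).congr (fun x hx => autFun_mkAut h2 h2img hx)
    -- reassemble `f`
    have hχPE : Mor E P χ := hχE.restrict hPN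
    have hχ'P'E : Mor E (imgS P f) χ' := hχ'E.restrict hP'N
    have h4 : Mor E P ((χ' ∘ (f ∘ invOn P χ)) ∘ χ) := by
      refine hχPE.comp h3 (fun x hx => ?_)
      rw [← hχimg]
      exact hχP.mem_imgS_of_mem hx
    have hinv'E : Mor E R (invOn (imgS P f) χ') := by
      have := hχ'P'E.inv
      rwa [hχ'img] at this
    have h5 : Mor E P (invOn (imgS P f) χ' ∘ ((χ' ∘ (f ∘ invOn P χ)) ∘ χ)) := by
      refine h4.comp hinv'E (fun x hx => ?_)
      show χ' (f (invOn P χ (χ x))) ∈ R
      rw [← hχ'img]
      exact hχ'P'.mem_imgS_of_mem (hf.mem_imgS_of_mem (hinvmem _ (by rw [← hχimg]; exact hχP.mem_imgS_of_mem hx)))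
    refine h5.congr (fun x hx => ?_)
    show invOn (imgS P f) χ' (χ' (f (invOn P χ (χ x)))) = f x
    rw [invOn_apply hχP.injOn hx, invOn_apply hχ'P'.injOn (hf.mem_imgS_of_mem hx)]



end Cfsg.Agent.H90
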