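import Cfsg.Agent.H90.SmallFix

set_option autoImplicit false

namespace Cfsg.Agent.H90

open Cfsg Cfsg.Agent.H89

theorem Small.mul_of_commute {p : ℕ} {U : Type*} [Group U] {x y : U} (hx : Small p x)
    (hy : Small p y) (h : Commute x y) : Small p (x * y) := by
  by_cases hp2 : p = 2
  · subst hp2
    exact Or.inr ⟨rfl, by rw [h.mul_pow, hx.pow_four, hy.pow_four, one_mul]⟩
  · exact Or.inl (by rw [h.mul_pow, hx.pow_p hp2, hy.pow_p hp2, one_mul])

theorem Small.conj {p : ℕ} {U : Type*} [Group U] {x : U} (hx : Small p x) (u : U) :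
    Small p (u * x * u⁻¹) := hx.aut (MulAut.conj u)

/-- **Small abelian subgroups detect automorphisms of order prime to `p`.** Let `β` be an
automorphism of order prime to `p` of the finite `p`-group `U` which fixes pointwise every abelian
normal subgroup of `U` contained in `X₀` all of whose elements are small. Then `β` fixes pointwise
every `β`-invariant normal subgroup `X ≤ X₀` of `U`. -/
theorem fix_of_fix_small_abelian {U : Type*} [Group U] [Finite U] {p : ℕ} [hp : Fact p.Prime]
    (hU : IsPGroup p U) (β : MulAut U) (m : ℕ) (hm : m.Coprime p) (hβm : β ^ m = 1)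
    (X₀ : Subgroup U)
    (hfixA : ∀ A : Subgroup U, A ≤ X₀ → (∀ u : U, ∀ a ∈ A, u * a * u⁻¹ ∈ A) →
      (∀ a ∈ A, ∀ b ∈ A, a * b = b * a) → (∀ a ∈ A, Small p a) → ∀ a ∈ A, β a = a) :
    ∀ (N : ℕ) (X : Subgroup U), Nat.card X ≤ N → X ≤ X₀ → (∀ x ∈ X, β x ∈ X) →
      (∀ u : U, ∀ x ∈ X, u * x * u⁻¹ ∈ X) → ∀ x ∈ X, β x = x := by
  intro N
  induction N with
  | zero =>
    intro X hcard _ _ _ _ _
    have : 0 < Nat.card X := Nat.card_pos
    omega
  | succ N ih =>
    intro X hcard hXX₀ hinv hnorm
    have hcop : ∀ v : U, v ^ m = 1 → v = 1 := fun v hv => eq_one_of_pow_coprime hU hm v hv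
    have hsmall : ∀ W : Subgroup U, W ≤ X → W ≠ X → (∀ w ∈ W, β w ∈ W) →
        (∀ u : U, ∀ w ∈ W, u * w * u⁻¹ ∈ W) → ∀ w ∈ W, β w = w := by
      intro W hWX hWne hWinv hWnorm
      have hlt : Nat.card W < Nat.card X := by
        by_contra hge
        exact hWne (Subgroup.eq_of_le_of_card_ge hWX (not_lt.1 hge))
      exact ih W (by omega) (hWX.trans hXX₀) hWinv hWnorm
    let R : Subgroup U := Subgroup.closure {y | ∃ u : U, ∃ x ∈ X, y = u * (x⁻¹ * β x) * u⁻¹}
    have hRX : R ≤ X := by
      rw [Subgroup.closure_le]
      rintro _ ⟨u, x, hx, rfl⟩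
      exact hnorm u _ (X.mul_mem (X.inv_mem hx) (hinv x hx))
    have hRinv : ∀ r ∈ R, β r ∈ R := by
      intro r hr
      induction hr using Subgroup.closure_induction with
      | mem y hy =>
        obtain ⟨u, x, hx, rfl⟩ := hy
        apply Subgroup.subset_closure
        exact ⟨β u, β x, hinv x hx, by simp only [map_mul, map_inv]⟩
      | one => rw [map_one]; exact Subgroup.one_mem _
      | mul a b _ _ iha ihb => rw [map_mul]; exact Subgroup.mul_mem _ iha ihb
      | inv a _ iha => rw [map_inv]; exact Subgroup.inv_mem _ iha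
    have hRnorm : ∀ v : U, ∀ r ∈ R, v * r * v⁻¹ ∈ R := by
      intro v r hr
      induction hr using Subgroup.closure_induction with
      | mem y hy =>
        obtain ⟨u, x, hx, rfl⟩ := hy
        apply Subgroup.subset_closure
        exact ⟨v * u, x, hx, by group⟩
      | one => simp
      | mul a b _ _ iha ihb =>
        have : v * (a * b) * v⁻¹ = (v * a * v⁻¹) * (v * b * v⁻¹) := by group
        rw [this]; exact Subgroup.mul_mem _ iha ihb
      | inv a _ iha =>
        have : v * a⁻¹ * v⁻¹ = (v * a * v⁻¹)⁻¹ := by group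
        rw [this]; exact Subgroup.inv_mem _ iha
    have hgenR : ∀ x ∈ X, x⁻¹ * β x ∈ R := fun x hx =>
      Subgroup.subset_closure ⟨1, x, hx, by group⟩
    by_cases hR : R = X
    · by_cases hbot : X = ⊥
      · intro x hx
        rw [hbot, Subgroup.mem_bot] at hx
        rw [hx, map_one]
      obtain ⟨M, hMX, hMne, hMpow, hMcomm⟩ := exists_proper_pow_comm X (hU.to_subgroup X) hbot
      let Nn : Subgroup U := Subgroup.closure ({u | ∃ v ∈ X, u = v ^ p} ∪
        {u | ∃ v ∈ X, ∃ w ∈ X, u = v * w * v⁻¹ * w⁻¹})
      have hNM : Nn ≤ M := by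
        rw [Subgroup.closure_le]
        rintro _ (⟨v, hv, rfl⟩ | ⟨v, hv, w, hw, rfl⟩)
        · exact hMpow v hv
        · exact hMcomm v hv w hw
      have hNX : Nn ≤ X := hNM.trans hMX
      have hNne : Nn ≠ X := fun h => hMne (le_antisymm hMX (h ▸ hNM))
      have hNinv : ∀ z ∈ Nn, β z ∈ Nn := by
        intro z hz
        induction hz using Subgroup.closure_induction with
        | mem u hu =>
          apply Subgroup.subset_closure
          rcases hu with ⟨v, hv, rfl⟩ | ⟨v, hv, w, hw, rfl⟩
          · exact Or.inl ⟨β v, hinv v hv, by rw [map_pow]⟩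
          · exact Or.inr ⟨β v, hinv v hv, β w, hinv w hw, by simp only [map_mul, map_inv]⟩
        | one => rw [map_one]; exact Subgroup.one_mem _
        | mul a b _ _ iha ihb => rw [map_mul]; exact Subgroup.mul_mem _ iha ihb
        | inv a _ iha => rw [map_inv]; exact Subgroup.inv_mem _ iha
      have hNconj : ∀ x : U, ∀ z ∈ Nn, x * z * x⁻¹ ∈ Nn := by
        intro x z hz
        induction hz using Subgroup.closure_induction with
        | mem u hu =>
          apply Subgroup.subset_closure
          rcases hu with ⟨v, hv, rfl⟩ | ⟨v, hv, w, hw, rfl⟩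
          · refine Or.inl ⟨x * v * x⁻¹, hnorm x v hv, ?_⟩
            rw [conj_pow]
          · refine Or.inr ⟨x * v * x⁻¹, hnorm x v hv, x * w * x⁻¹, hnorm x w hw, ?_⟩
            group
        | one => simp
        | mul a b _ _ iha ihb =>
          have : x * (a * b) * x⁻¹ = (x * a * x⁻¹) * (x * b * x⁻¹) := by group
          rw [this]; exact Subgroup.mul_mem _ iha ihb
        | inv a _ iha =>
          have : x * a⁻¹ * x⁻¹ = (x * a * x⁻¹)⁻¹ := by group
          rw [this]; exact Subgroup.inv_mem _ iha
      have hNfix : ∀ z ∈ Nn, β z = z := hsmall Nn hNX hNne hNinv hNconj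
      have hpowN : ∀ v ∈ X, v ^ p ∈ Nn := fun v hv => Subgroup.subset_closure (Or.inl ⟨v, hv, rfl⟩)
      have hcommN : ∀ v ∈ X, ∀ w ∈ X, v * w * v⁻¹ * w⁻¹ ∈ Nn :=
        fun v hv w hw => Subgroup.subset_closure (Or.inr ⟨v, hv, w, hw, rfl⟩)
      -- each x⁻¹ β(x) centralizes Nn
      have hwcent : ∀ x ∈ X, ∀ y ∈ Nn, y * (x⁻¹ * β x) = x⁻¹ * β x * y := by
        intro x hx y hy
        have h1 := hNfix _ (hNconj x y hy)
        rw [map_mul, map_mul, map_inv, hNfix y hy] at h1
        calc y * (x⁻¹ * β x) = x⁻¹ * (x * y * x⁻¹) * β x := by group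
          _ = x⁻¹ * (β x * y * (β x)⁻¹) * β x := by rw [h1]
          _ = x⁻¹ * β x * y := by group
      -- Nn is central in X
      have hcentral : ∀ z ∈ Nn, ∀ v ∈ X, v * z = z * v := by
        intro z hz
        have hle : R ≤ Subgroup.centralizer {z} := by
          rw [Subgroup.closure_le]
          rintro _ ⟨u, x, hx, rfl⟩
          rw [SetLike.mem_coe, Subgroup.mem_centralizer_iff]
          intro y hy
          rw [Set.mem_singleton_iff] at hy
          subst hy
          have hz' : u⁻¹ * y * u⁻¹⁻¹ ∈ Nn := hNconj u⁻¹ y hz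
          rw [inv_inv] at hz'
          have h2 := hwcent x hx _ hz'
          calc y * (u * (x⁻¹ * β x) * u⁻¹) = u * ((u⁻¹ * y * u) * (x⁻¹ * β x)) * u⁻¹ := by group
            _ = u * (x⁻¹ * β x * (u⁻¹ * y * u)) * u⁻¹ := by rw [h2]
            _ = u * (x⁻¹ * β x) * u⁻¹ * y := by group
        intro v hv
        have hvR : v ∈ R := hR ▸ hv
        have := Subgroup.mem_centralizer_iff.1 (hle hvR) z (Set.mem_singleton z)
        exact this.symm
      have hcomm_data : ∀ x ∈ X, ∀ y ∈ X, ∃ c : U, c ∈ Nn ∧ y * x = c * x * y ∧ Commute c x ∧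
          Commute c y := by
        intro x hx y hy
        refine ⟨y * x * y⁻¹ * x⁻¹, hcommN y hy x hx, by group, ?_, ?_⟩
        · exact (hcentral _ (hcommN y hy x hx) x hx).symm
        · exact (hcentral _ (hcommN y hy x hx) y hy).symm
      have hmul_small : ∀ x ∈ X, ∀ y ∈ X, Small p x → Small p y → Small p (x * y) := by
        intro x hx y hy hsx hsy
        obtain ⟨c, hcN, hrel, hcx, hcy⟩ := hcomm_data x hx y hy
        by_cases hp2 : p = 2
        · refine Or.inr ⟨hp2, ?_⟩
          subst hp2
          have hx4 := hsx.pow_four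
          have hy4 := hsy.pow_four
          have hc2 : c ^ 2 = 1 := by
            have h1 := pow_mul_of_comm x y c hrel hcy 2
            have h2 : y ^ 2 * x = x * y ^ 2 := hcentral _ (hpowN y hy) x hx |>.symm
            rw [h2] at h1
            have h3 : c ^ 2 * (x * y ^ 2) = x * y ^ 2 := by rw [← mul_assoc]; exact h1.symm
            exact mul_eq_right.1 h3
          rw [mul_pow_of_comm x y c hrel hcx hcy 4, hx4, hy4, one_mul, one_mul]
          have : (4 : ℕ).choose 2 = 2 * 3 := by decide
          rw [this, pow_mul, hc2, one_pow]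
        · refine Or.inl ?_
          have hxp := hsx.pow_p hp2
          have hyp := hsy.pow_p hp2
          have hcp : c ^ p = 1 := by
            have h1 := pow_mul_of_comm x y c hrel hcy p
            rw [hyp, one_mul, mul_one] at h1
            exact (mul_eq_right.1 h1.symm)
          have hchoose : c ^ (p.choose 2) = 1 := by
            have h2lt : 2 < p := lt_of_le_of_ne hp.out.two_le (Ne.symm hp2)
            obtain ⟨t, ht⟩ := Nat.Prime.dvd_choose_self hp.out (by norm_num : (2 : ℕ) ≠ 0) h2lt
            rw [ht, pow_mul, hcp, one_pow]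
          rw [mul_pow_of_comm x y c hrel hcx hcy p, hxp, hyp, hchoose, one_mul, one_mul]
      have hgen_small : ∀ x ∈ X, Small p (x⁻¹ * β x) := by
        intro x hx
        have hδx : β x ∈ X := hinv x hx
        obtain ⟨c, hcN, hrel, hcx, hcy⟩ := hcomm_data x⁻¹ (X.inv_mem hx) (β x) hδx
        have hcp : c ^ p = 1 := by
          have h1 := pow_mul_of_comm x⁻¹ (β x) c hrel hcy p
          have h2 : (β x) ^ p * x⁻¹ = x⁻¹ * (β x) ^ p :=
            (hcentral _ (hpowN _ hδx) x⁻¹ (X.inv_mem hx)).symm
          rw [h2] at h1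
          have h3 : c ^ p * (x⁻¹ * β x ^ p) = x⁻¹ * β x ^ p := by rw [← mul_assoc]; exact h1.symm
          exact mul_eq_right.1 h3
        have hpow : (x⁻¹ * β x) ^ p = c ^ (p.choose 2) := by
          rw [mul_pow_of_comm x⁻¹ (β x) c hrel hcx hcy p, inv_pow, ← map_pow,
            hNfix _ (hpowN x hx), inv_mul_cancel, one_mul]
        by_cases hp2 : p = 2
        · refine Or.inr ⟨hp2, ?_⟩
          subst hp2
          have h4 : (x⁻¹ * β x) ^ 4 = ((x⁻¹ * β x) ^ 2) ^ 2 := by rw [← pow_mul]
          have : (2 : ℕ).choose 2 = 1 := by decide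
          rw [h4, hpow, this, pow_one, hcp]
        · refine Or.inl ?_
          have h2lt : 2 < p := lt_of_le_of_ne hp.out.two_le (Ne.symm hp2)
          obtain ⟨t, ht⟩ := Nat.Prime.dvd_choose_self hp.out (by norm_num : (2 : ℕ) ≠ 0) h2lt
          rw [hpow, ht, pow_mul, hcp, one_pow]
      have hall_small : ∀ x ∈ X, Small p x := by
        intro x hx
        have hxR : x ∈ R := hR ▸ hx
        induction hxR using Subgroup.closure_induction with
        | mem y hy =>
          obtain ⟨u, z, hz, rfl⟩ := hy
          exact (hgen_small z hz).conj u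
        | one => exact small_one p
        | mul a b ha' hb' iha ihb =>
          have haX : a ∈ X := hRX ha'
          have hbX : b ∈ X := hRX hb'
          exact hmul_small a haX b hbX (iha haX) (ihb hbX)
        | inv a ha' iha => exact (iha (hRX ha')).inv
      -- a maximal abelian normal subgroup of U inside X
      let 𝒜 : Set (Subgroup U) := {A | A ≤ X ∧ (∀ u : U, ∀ a ∈ A, u * a * u⁻¹ ∈ A) ∧
        ∀ a ∈ A, ∀ b ∈ A, a * b = b * a}
      have hne : 𝒜.Nonempty := by
        refine ⟨⊥, bot_le, fun u a ha => ?_, fun a ha b hb => ?_⟩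
        · rw [Subgroup.mem_bot] at ha ⊢
          rw [ha]; group
        · rw [Subgroup.mem_bot] at ha hb
          rw [ha, hb]
      obtain ⟨A, hAmax⟩ := (Set.toFinite 𝒜).exists_maximal hne
      obtain ⟨hAX, hAnorm, hAcomm⟩ := hAmax.prop
      have hAfix : ∀ a ∈ A, β a = a :=
        hfixA A (hAX.trans hXX₀) hAnorm hAcomm (fun a ha => hall_small a (hAX ha))
      -- C_X(A) = A
      have hCA : ∀ j : ℕ, ∀ c ∈ X, (∀ a ∈ A, c * a = a * c) → c ∈ Subgroup.upperCentralSeries U j →
          c ∈ A := by
        intro j
        induction j with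
        | zero =>
          intro c _ _ hc
          rw [Subgroup.upperCentralSeries_zero, Subgroup.mem_bot] at hc
          rw [hc]; exact A.one_mem
        | succ j ihj =>
          intro c hcX hcA hcZ
          let B : Subgroup U := Subgroup.closure ((A : Set U) ∪ {c})
          have hAB : A ≤ B := fun a ha => Subgroup.subset_closure (Or.inl ha)
          have hcB : c ∈ B := Subgroup.subset_closure (Or.inr rfl)
          have hBX : B ≤ X := by
            rw [Subgroup.closure_le]
            rintro y (hy | hy)
            · exact hAX hy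
            · rw [Set.mem_singleton_iff] at hy; rw [hy]; exact hcX
          have hBnorm : ∀ u : U, ∀ b ∈ B, u * b * u⁻¹ ∈ B := by
            intro u b hb
            induction hb using Subgroup.closure_induction with
            | mem y hy =>
              rcases hy with hy | hy
              · exact hAB (hAnorm u y hy)
              · rw [Set.mem_singleton_iff] at hy
                subst hy
                have h1 : u * y * u⁻¹ * y⁻¹ ∈ A := by
                  apply ihj
                  · exact X.mul_mem (hnorm u y hcX) (X.inv_mem hcX)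
                  · intro a ha
                    have h2 : u⁻¹ * a * u⁻¹⁻¹ ∈ A := hAnorm u⁻¹ a ha
                    rw [inv_inv] at h2
                    have h3 := hcA _ h2
                    have h4 : y⁻¹ * a = a * y⁻¹ := by
                      have := hcA a ha
                      calc y⁻¹ * a = y⁻¹ * (a * y) * y⁻¹ := by group
                        _ = y⁻¹ * (y * a) * y⁻¹ := by rw [this]
                        _ = a * y⁻¹ := by group
                    calc u * y * u⁻¹ * y⁻¹ * a = u * y * u⁻¹ * (y⁻¹ * a) := by group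
                      _ = u * y * u⁻¹ * (a * y⁻¹) := by rw [h4]
                      _ = u * (y * (u⁻¹ * a * u)) * u⁻¹ * y⁻¹ := by group
                      _ = u * ((u⁻¹ * a * u) * y) * u⁻¹ * y⁻¹ := by rw [h3]
                      _ = a * (u * y * u⁻¹ * y⁻¹) := by group
                  · have h5 := Subgroup.mem_upperCentralSeries_succ_iff.1 hcZ u
                    have h6 : u * y * u⁻¹ * y⁻¹ = (y * u * y⁻¹ * u⁻¹)⁻¹ := by group
                    rw [h6]
                    exact Subgroup.inv_mem _ h5
                have h7 : u * y * u⁻¹ = (u * y * u⁻¹ * y⁻¹) * y := by group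
                rw [h7]
                exact B.mul_mem (hAB h1) hcB
            | one => simp
            | mul a b _ _ iha ihb =>
              have : u * (a * b) * u⁻¹ = (u * a * u⁻¹) * (u * b * u⁻¹) := by group
              rw [this]; exact Subgroup.mul_mem _ iha ihb
            | inv a _ iha =>
              have : u * a⁻¹ * u⁻¹ = (u * a * u⁻¹)⁻¹ := by group
              rw [this]; exact Subgroup.inv_mem _ iha
          have hgen : ∀ y ∈ ((A : Set U) ∪ {c}), ∀ z ∈ ((A : Set U) ∪ {c}), y * z = z * y := by
            rintro y (hy | hy) z (hz | hz)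
            · exact hAcomm y hy z hz
            · rw [Set.mem_singleton_iff] at hz; rw [hz]; exact (hcA y hy).symm
            · rw [Set.mem_singleton_iff] at hy; rw [hy]; exact hcA z hz
            · rw [Set.mem_singleton_iff] at hy hz; rw [hy, hz]
          have hBcomm : ∀ a ∈ B, ∀ b ∈ B, a * b = b * a := by
            have h1 : ∀ b ∈ B, ∀ z ∈ ((A : Set U) ∪ {c}), z * b = b * z := by
              intro b hb z hz
              have hle : B ≤ Subgroup.centralizer {z} := by
                rw [Subgroup.closure_le]
                intro y hy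
                rw [SetLike.mem_coe, Subgroup.mem_centralizer_iff]
                intro w hw
                rw [Set.mem_singleton_iff] at hw
                rw [hw]
                exact hgen z hz y hy
              exact Subgroup.mem_centralizer_iff.1 (hle hb) z (Set.mem_singleton z)
            intro a ha b hb
            have hle : B ≤ Subgroup.centralizer {b} := by
              rw [Subgroup.closure_le]
              intro y hy
              rw [SetLike.mem_coe, Subgroup.mem_centralizer_iff]
              intro w hw
              rw [Set.mem_singleton_iff] at hw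
              rw [hw]
              exact (h1 b hb y hy).symm
            exact (Subgroup.mem_centralizer_iff.1 (hle ha) b (Set.mem_singleton b)).symm
          have hBA : B = A := hAmax.eq_of_ge ⟨hBX, hBnorm, hBcomm⟩ hAB
          rw [← hBA]
          exact hcB
      haveI := hU.isNilpotent
      have hCA' : ∀ c ∈ X, (∀ a ∈ A, c * a = a * c) → c ∈ A := fun c hc hcA =>
        hCA (Group.nilpotencyClass U) c hc hcA
          (by rw [Subgroup.upperCentralSeries_nilpotencyClass]; exact Subgroup.mem_top c)
      apply fix_of_fix_comm β m hβm X (fun v _ hv => hcop v hv)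
      intro v hv
      have hw : v⁻¹ * β v ∈ X := X.mul_mem (X.inv_mem hv) (hinv v hv)
      refine ⟨hw, hAfix _ (hCA' _ hw ?_)⟩
      intro a ha
      have h1 := hAfix _ (hAnorm v a ha)
      rw [map_mul, map_mul, map_inv, hAfix a ha] at h1
      calc v⁻¹ * β v * a = v⁻¹ * (β v * a * (β v)⁻¹) * β v := by group
        _ = v⁻¹ * (v * a * v⁻¹) * β v := by rw [h1]
        _ = a * (v⁻¹ * β v) := by group
    · have hRfix := hsmall R hRX hR hRinv hRnorm
      apply fix_of_fix_comm β m hβm X (fun v _ hv => hcop v hv)
      intro v hv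
      exact ⟨hRX (hgenR v hv), hRfix _ (hgenR v hv)⟩

end Cfsg.Agent.H90
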