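import Cfsg.Agent.H90.SmallFix
import Cfsg.Agent.H89.OmegaSeries
import Cfsg.Agent.H87.Hyp

set_option autoImplicit false

namespace Cfsg.Agent.H90

open Cfsg Cfsg.FusionSystem Cfsg.Agent.H86 Cfsg.Agent.H89

variable {Ω : Type*} [Group Ω] {S : Subgroup Ω}

/-! ### The upper central series of `S`, inside `Ω` -/

/-- The `j`-th term of the upper central series of `S`, as a subgroup of `Ω`. -/
def ucs (S : Subgroup Ω) (j : ℕ) : Subgroup Ω := (Subgroup.upperCentralSeries S j).map S.subtype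

theorem mem_ucs_iff {j : ℕ} {x : Ω} :
    x ∈ ucs S j ↔ ∃ h : x ∈ S, (⟨x, h⟩ : S) ∈ Subgroup.upperCentralSeries S j := by
  constructor
  · rintro ⟨y, hy, rfl⟩
    exact ⟨y.2, hy⟩
  · rintro ⟨h, hx⟩
    exact ⟨⟨x, h⟩, hx, rfl⟩

theorem ucs_le (S : Subgroup Ω) (j : ℕ) : ucs S j ≤ S := fun _ hx => (mem_ucs_iff.1 hx).1

theorem ucs_zero (S : Subgroup Ω) : ucs S 0 = ⊥ := by
  unfold ucs
  rw [Subgroup.upperCentralSeries_zero, Subgroup.map_bot]

theorem ucs_conj_mem {j : ℕ} {x s : Ω} (hx : x ∈ ucs S j) (hs : s ∈ S) : s * x * s⁻¹ ∈ ucs S j := by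
  obtain ⟨h, hx'⟩ := mem_ucs_iff.1 hx
  refine mem_ucs_iff.2 ⟨S.mul_mem (S.mul_mem hs h) (S.inv_mem hs), ?_⟩
  have hn : (Subgroup.upperCentralSeries S j).Normal := inferInstance
  exact hn.conj_mem _ hx' ⟨s, hs⟩

theorem comm_mem_ucs {j : ℕ} {x s : Ω} (hx : x ∈ ucs S (j + 1)) (hs : s ∈ S) :
    x * s * x⁻¹ * s⁻¹ ∈ ucs S j := by
  obtain ⟨h, hx'⟩ := mem_ucs_iff.1 hx
  have h1 := Subgroup.mem_upperCentralSeries_succ_iff.1 hx' ⟨s, hs⟩
  exact mem_ucs_iff.2 ⟨S.mul_mem (S.mul_mem (S.mul_mem h hs) (S.inv_mem h)) (S.inv_mem hs), h1⟩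

theorem exists_ucs_eq [Finite S] {p : ℕ} [Fact p.Prime] (hS : IsPGroup p S) : ∃ n, ucs S n = S := by
  haveI := hS.isNilpotent
  refine ⟨Group.nilpotencyClass S, ?_⟩
  unfold ucs
  rw [Subgroup.upperCentralSeries_nilpotencyClass, ← MonoidHom.range_eq_map, Subgroup.range_subtype]

/-- Maps of the system defined on all of `S` preserve the upper central series of `S`. -/
theorem ucs_mor_mem [Finite S] {F : FusionSystem S} {f : Ω → Ω} (hf : Mor F S f) {j : ℕ} {x : Ω}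
    (hx : x ∈ ucs S j) : f x ∈ ucs S j := by
  have himg : imgS S f = S := imgS_eq_of_maps hf (fun x hx => hf.mem hx)
  obtain ⟨h, hx'⟩ := mem_ucs_iff.1 hx
  have h1 : mkAut hf himg ⟨x, h⟩ ∈ Subgroup.upperCentralSeries S j := by
    have h2 := Subgroup.comap_upperCentralSeries (mkAut hf himg).symm j
    rw [← h2, Subgroup.mem_comap]
    show (mkAut hf himg).symm (mkAut hf himg ⟨x, h⟩) ∈ _
    rw [MulEquiv.symm_apply_apply]
    exact hx'
  exact mem_ucs_iff.2 ⟨hf.mem h, h1⟩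

/-! ### Elements of small order -/

theorem small_coe_iff {p : ℕ} {U : Subgroup Ω} {x : U} : Small p (x : Ω) ↔ Small p x := by
  constructor
  · rintro (h | ⟨h2, h⟩)
    · exact Or.inl (Subtype.ext (by rw [Subgroup.coe_pow, h]; rfl))
    · exact Or.inr ⟨h2, Subtype.ext (by rw [Subgroup.coe_pow, h]; rfl)⟩
  · intro h
    exact h.map U.subtype

theorem card_zpowers_of_small {p : ℕ} [hp : Fact p.Prime] {x : Ω} (hx : Small p x) (hx1 : x ≠ 1) :
    Nat.card (Subgroup.zpowers x) = p ∨ Nat.card (Subgroup.zpowers x) = 4 := by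
  rw [Nat.card_zpowers]
  rcases hx with h | ⟨h2, h⟩
  · left
    rcases (Nat.dvd_prime hp.out).1 (orderOf_dvd_of_pow_eq_one h) with h1 | h1
    · exact absurd (orderOf_eq_one_iff.1 h1) hx1
    · exact h1
  · have h4 : orderOf x ∣ 2 ^ 2 := orderOf_dvd_of_pow_eq_one h
    obtain ⟨k, hk, hkk⟩ := (Nat.dvd_prime_pow Nat.prime_two).1 h4
    interval_cases k
    · exact absurd (orderOf_eq_one_iff.1 (by simpa using hkk)) hx1
    · left; rw [hkk, h2]; rfl
    · right; rw [hkk]; rfl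

/-- The restriction of an automorphism of the system to a cyclic subgroup. -/
theorem exists_hom_zpowers {F : FusionSystem S} {U : Subgroup Ω} (hUS : U ≤ S) {γ : MulAut U}
    (hγ : γ ∈ F.autGroup U) (x : U) :
    ∃ φ : Subgroup.zpowers (x : Ω) →* Ω,
      φ ∈ F.homSet (Subgroup.zpowers (x : Ω)) (Subgroup.zpowers ((γ x : U) : Ω)) ∧
      φ ⟨x, Subgroup.mem_zpowers _⟩ = ((γ x : U) : Ω) := by
  have hγM := (Cfsg.Agent.H86.mem_autGroup_iff hUS γ).1 hγ
  have hle : Subgroup.zpowers (x : Ω) ≤ U := (Subgroup.zpowers_le).2 x.2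
  obtain ⟨φ, hφ, hφf⟩ := hγM.restrict hle
  refine ⟨φ, ⟨hφ, fun y => ?_⟩, ?_⟩
  · obtain ⟨k, hk⟩ := Subgroup.mem_zpowers_iff.1 y.2
    have h1 : (y : Ω) = ((x ^ k : U) : Ω) := by rw [← hk, Subgroup.coe_zpow]
    rw [hφf y, h1, autFun_apply, map_zpow, Subgroup.coe_zpow]
    exact Subgroup.zpow_mem_zpowers _ k
  · rw [hφf]
    exact autFun_apply γ x

/-! ### Automorphisms of order prime to `p` -/

theorem inv_mul_aut_mem_hyperfocal {F : FusionSystem S} {p : ℕ} {U : Subgroup Ω} (hUS : U ≤ S)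
    {β : MulAut U} (hβ : β ∈ F.autGroup U) {m : ℕ} (hm : m.Coprime p) (hβm : β ^ m = 1) (v : U) :
    ((v⁻¹ * β v : U) : Ω) ∈ F.hyperfocalSubgroup p := by
  apply Subgroup.subset_closure
  refine ⟨U, ⟨β, hβ⟩, v, hUS, ?_, rfl⟩
  apply Subgroup.subset_closure
  show Nat.Coprime (orderOf (⟨β, hβ⟩ : F.autGroup U)) p
  have h1 : orderOf (⟨β, hβ⟩ : F.autGroup U) ∣ m := orderOf_dvd_of_pow_eq_one (Subtype.ext hβm)
  exact Nat.Coprime.coprime_dvd_left h1 hm

theorem inv_mul_aut_mem_focal {F : FusionSystem S} {U : Subgroup Ω} (hUS : U ≤ S)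
    {β : MulAut U} (hβ : β ∈ F.autGroup U) (v : U) :
    ((v⁻¹ * β v : U) : Ω) ∈ F.focalSubgroup := by
  apply Subgroup.subset_closure
  exact ⟨U, U.subtype.comp β.toMonoidHom, v, (Cfsg.Agent.H89.mem_autGroup_iff F hUS β).1 hβ, rfl⟩

/-- The focal subgroup is invariant under the automorphisms of the system. -/
theorem aut_mem_focal {F : FusionSystem S} {U : Subgroup Ω} (hUS : U ≤ S)
    {β : MulAut U} (hβ : β ∈ F.autGroup U) {x : U} (hx : x ∈ F.focalSubgroup.subgroupOf U) :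
    β x ∈ F.focalSubgroup.subgroupOf U := by
  rw [Subgroup.mem_subgroupOf] at hx ⊢
  have h1 := inv_mul_aut_mem_focal hUS hβ x
  have h2 := F.focalSubgroup.mul_mem hx h1
  rw [Subgroup.coe_mul, Subgroup.coe_inv, mul_inv_cancel_left] at h2
  exact h2

/-- The hyperfocal subgroup is invariant under the automorphisms of the system. -/
theorem aut_mem_hyperfocal [Finite S] {p : ℕ} [Fact p.Prime] (hS : IsPGroup p S) {F : FusionSystem S}
    (hF : F.IsSaturated p) {U : Subgroup Ω} (hUS : U ≤ S) {β : MulAut U} (hβ : β ∈ F.autGroup U)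
    {x : U} (hx : x ∈ (F.hyperfocalSubgroup p).subgroupOf U) :
    β x ∈ (F.hyperfocalSubgroup p).subgroupOf U := by
  rw [Subgroup.mem_subgroupOf] at hx ⊢
  have hβM := (Cfsg.Agent.H86.mem_autGroup_iff hUS β).1 hβ
  obtain ⟨s, hs, h⟩ := Cfsg.Agent.H87.mor_mod_hyperfocal hS hF hβM
  have h1 := h x x.2
  have h2 := Cfsg.Agent.H87.hyperfocal_conj_mem F p hs x hx
  have h3 := (F.hyperfocalSubgroup p).mul_mem h2 h1
  rw [mul_inv_cancel_left, autFun_apply] at h3
  exact h3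

theorem aut_eq_one_of_fix_hyperfocal [Finite S] {p : ℕ} [Fact p.Prime] (hS : IsPGroup p S)
    {F : FusionSystem S} {U : Subgroup Ω} (hUS : U ≤ S) {β : MulAut U} (hβ : β ∈ F.autGroup U)
    {m : ℕ} (hm : m.Coprime p) (hβm : β ^ m = 1)
    (hfix : ∀ x ∈ (F.hyperfocalSubgroup p).subgroupOf U, β x = x) : β = 1 := by
  have hUp : IsPGroup p U := hS.to_le hUS
  have hfixU := fix_of_fix_comm β m hβm ⊤ (fun v _ hv => eq_one_of_pow_coprime hUp hm v hv)
    (fun v _ => ⟨Subgroup.mem_top _,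
      hfix _ (Subgroup.mem_subgroupOf.2 (inv_mul_aut_mem_hyperfocal hUS hβ hm hβm v))⟩)
  ext u
  rw [hfixU u (Subgroup.mem_top u)]
  rfl

theorem aut_eq_one_of_fix_focal [Finite S] {p : ℕ} [Fact p.Prime] (hS : IsPGroup p S)
    {F : FusionSystem S} {U : Subgroup Ω} (hUS : U ≤ S) {β : MulAut U} (hβ : β ∈ F.autGroup U)
    {m : ℕ} (hm : m.Coprime p) (hβm : β ^ m = 1)
    (hfix : ∀ x ∈ F.focalSubgroup.subgroupOf U, β x = x) : β = 1 := by
  have hUp : IsPGroup p U := hS.to_le hUS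
  have hfixU := fix_of_fix_comm β m hβm ⊤ (fun v _ hv => eq_one_of_pow_coprime hUp hm v hv)
    (fun v _ => ⟨Subgroup.mem_top _,
      hfix _ (Subgroup.mem_subgroupOf.2 (inv_mul_aut_mem_focal hUS hβ v))⟩)
  ext u
  rw [hfixU u (Subgroup.mem_top u)]
  rfl

/-- If, for every `d ∈ S` normalizing the centric radical subgroup `U`, the conjugates of `c_d` in
`Aut_F(U)` generate a subgroup without nontrivial elements of order prime to `p`, then `U = S`. -/
theorem top_le_centric_radical [Finite S] {p : ℕ} [Fact p.Prime] (hS : IsPGroup p S)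
    {F : FusionSystem S} {U : Subgroup Ω} (hUc : F.IsCentric U) (hUr : F.IsRadical p U)
    (h : ∀ d ∈ S, ∀ α : MulAut U, (∀ x : U, ((α x : U) : Ω) = d * x * d⁻¹) → α ∈ F.autGroup U →
      ∀ β ∈ conjClosure (F.autGroup U) α, ∀ m : ℕ, m.Coprime p → β ^ m = 1 → β = 1) : S ≤ U := by
  have hUS : U ≤ S := hUc.1
  haveI : Finite U := finite_of_le hUS
  have hC : centralizerIn S U ≤ U := hUc.2 U (isConj_refl F hUS)
  by_contra hSU
  obtain ⟨d, hdS, hdN, hdU⟩ := exists_mem_normalizer_not_mem hS hUS le_rfl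
    (fun s hs d hd => S.mul_mem (S.mul_mem hs hd) (S.inv_mem hs)) hSU
  obtain ⟨α, hα⟩ := exists_conjAut hdN
  have hαA : α ∈ F.autGroup U :=
    autInducedBy_le_autGroup F hUS ((mem_autInducedBy_iff S U α).2 ⟨d, hdS, hα⟩)
  have hYp : IsPGroup p (conjClosure (F.autGroup U) α) :=
    isPGroup_of_coprime_trivial _ (fun β hβ m hm hβm => h d hdS α hα hαA β hβ m hm hβm)
  have hcore := mem_pCore_map_of p (conjClosure_le hαA)
    (fun γ hγ δ hδ => conjClosure_conj_mem hγ hδ) hYp (mem_conjClosure_self _ α)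
  rw [hUr.2] at hcore
  exact hdU (mem_of_induces_inner hUS hC hdS hα hcore)

/-- **Engine for cyclic subgroups of the hyperfocal subgroup.** Suppose every automorphism of `U` in the
system acts on each small element of `U ∩ hyp(F)` like some map of the system defined on all of `S`,
and `τ ∈ Aut_F(U)` acts on each such element like conjugation by an element of `S`. Then the subgroup
generated by the `Aut_F(U)`-conjugates of `τ` has no nontrivial element of order prime to `p`. -/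
theorem conjClosure_trivial_of_cyclic [Finite S] {p : ℕ} [Fact p.Prime] (hS : IsPGroup p S)
    {F : FusionSystem S} (hF : F.IsSaturated p) {U : Subgroup Ω} (hUS : U ≤ S)
    (hcyc : ∀ x : U, (x : Ω) ∈ F.hyperfocalSubgroup p → Small p (x : Ω) → ∀ γ ∈ F.autGroup U,
      ∃ f, Mor F S f ∧ f x = ((γ x : U) : Ω))
    (τ : MulAut U) (hτ : τ ∈ F.autGroup U)
    (hτs : ∀ x : U, (x : Ω) ∈ F.hyperfocalSubgroup p → Small p (x : Ω) →
      ∃ s ∈ S, ((τ x : U) : Ω) = s * x * s⁻¹) :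
    ∀ β ∈ conjClosure (F.autGroup U) τ, ∀ m : ℕ, m.Coprime p → β ^ m = 1 → β = 1 := by
  intro β hβ m hm hβm
  haveI : Finite U := finite_of_le hUS
  have hβA : β ∈ F.autGroup U := conjClosure_le hτ hβ
  apply aut_eq_one_of_fix_hyperfocal hS hUS hβA hm hβm
  obtain ⟨n, hn⟩ := exists_ucs_eq (S := S) hS
  have hsm : ∀ x : U, Small p x → Small p (x : Ω) := fun x hx => hx.map U.subtype
  refine fix_of_conjClosure (hS.to_le hUS) (F.autGroup U) τ hτ (fun j => (ucs S j).subgroupOf U) n ?_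
    ((F.hyperfocalSubgroup p).subgroupOf U) ?_ ?_ ?_ _ _ le_rfl le_rfl
    (fun γ hγ x hx => aut_mem_hyperfocal hS hF hUS hγ hx) β hβ m hm hβm
  · show (ucs S 0).subgroupOf U = ⊥
    rw [ucs_zero]
    exact Subgroup.bot_subgroupOf (H := U)
  · intro x _
    show x ∈ (ucs S n).subgroupOf U
    rw [Subgroup.mem_subgroupOf, hn]
    exact hUS x.2
  · intro j _ x hx hxZ hxs γ hγ
    obtain ⟨f, hf, hfx⟩ := hcyc x (Subgroup.mem_subgroupOf.1 hx) (hsm x hxs) γ hγ
    show γ x ∈ (ucs S j).subgroupOf U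
    rw [Subgroup.mem_subgroupOf, ← hfx]
    exact ucs_mor_mem hf (Subgroup.mem_subgroupOf.1 hxZ)
  · intro j _ x hx hxZ hxs
    obtain ⟨s, hs, hsx⟩ := hτs x (Subgroup.mem_subgroupOf.1 hx) (hsm x hxs)
    show x⁻¹ * τ x ∈ (ucs S j).subgroupOf U
    rw [Subgroup.mem_subgroupOf, Subgroup.coe_mul, Subgroup.coe_inv, hsx]
    have hxZ' : (x : Ω) ∈ ucs S (j + 1) := Subgroup.mem_subgroupOf.1 hxZ
    have h1 := comm_mem_ucs ((ucs S (j + 1)).inv_mem hxZ') hs
    rw [inv_inv] at h1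
    have h2 : (x : Ω)⁻¹ * (s * x * s⁻¹) = (x : Ω)⁻¹ * s * x * s⁻¹ := by group
    rw [h2]
    exact h1

end Cfsg.Agent.H90
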