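import Cfsg.Agent.H90.NKSys
import Cfsg.Agent.H90.SmallAbel
import Cfsg.Agent.H90.SmallFus
import Cfsg.Agent.H88.PPower
import Cfsg.Agent.H88.Basic
import Cfsg.Agent.H40.Resid
import Cfsg.Agent.H86.FusAlperin

set_option autoImplicit false

/-!
Small-exponent abelian subgroups of the hyperfocal subgroup control fusion
(Benson–Grodal–Henke).
-/

namespace Cfsg.Agent.H90

open Cfsg Cfsg.FusionSystem Cfsg.Agent.H86 Cfsg.Agent.H87 Cfsg.Agent.H88 Cfsg.Agent.H89

variable {Ω : Type*} [Group Ω] {S : Subgroup Ω}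

/-- Abelian with all elements small. -/
def SmallAb (p : ℕ) (A : Subgroup Ω) : Prop :=
  (∀ a ∈ A, ∀ b ∈ A, a * b = b * a) ∧ ∀ a ∈ A, Small p a

theorem smallAb_sup {p : ℕ} {B A : Subgroup Ω} (hB : SmallAb p B) (hA : SmallAb p A)
    (hc : ∀ b ∈ B, ∀ a ∈ A, b * a = a * b) : SmallAb p (B ⊔ A) := by
  let M : Subgroup Ω :=
    { carrier := {x | ∃ b ∈ B, ∃ a ∈ A, x = b * a}
      mul_mem' := by
        rintro _ _ ⟨b, hb, a, ha, rfl⟩ ⟨b', hb', a', ha', rfl⟩
        refine ⟨b * b', B.mul_mem hb hb', a * a', A.mul_mem ha ha', ?_⟩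
        calc b * a * (b' * a') = b * (a * b') * a' := by group
          _ = b * (b' * a) * a' := by rw [hc b' hb' a ha]
          _ = b * b' * (a * a') := by group
      one_mem' := ⟨1, B.one_mem, 1, A.one_mem, by simp⟩
      inv_mem' := by
        rintro _ ⟨b, hb, a, ha, rfl⟩
        refine ⟨b⁻¹, B.inv_mem hb, a⁻¹, A.inv_mem ha, ?_⟩
        rw [mul_inv_rev, hc b⁻¹ (B.inv_mem hb) a⁻¹ (A.inv_mem ha)] }
  have hle : B ⊔ A ≤ M := sup_le (fun b hb => ⟨b, hb, 1, A.one_mem, by simp⟩)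
    (fun a ha => ⟨1, B.one_mem, a, ha, by simp⟩)
  refine ⟨fun x hx y hy => ?_, fun x hx => ?_⟩
  · obtain ⟨b, hb, a, ha, rfl⟩ := hle hx
    obtain ⟨b', hb', a', ha', rfl⟩ := hle hy
    calc b * a * (b' * a') = b * (a * b') * a' := by group
      _ = b * (b' * a) * a' := by rw [hc b' hb' a ha]
      _ = (b * b') * (a * a') := by group
      _ = (b' * b) * (a' * a) := by rw [hB.1 b hb b' hb', hA.1 a ha a' ha']
      _ = b' * (b * a') * a := by group
      _ = b' * (a' * b) * a := by rw [hc b hb a' ha']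
      _ = b' * a' * (b * a) := by group
  · obtain ⟨b, hb, a, ha, rfl⟩ := hle hx
    exact (hB.2 b hb).mul_of_commute (hA.2 a ha) (hc b hb a ha)

theorem SmallAb.img {p : ℕ} {F : FusionSystem S} {A : Subgroup Ω} {f : Ω → Ω} (hA : SmallAb p A)
    (hf : Mor F A f) : SmallAb p (imgS A f) := by
  refine ⟨fun x hx y hy => ?_, fun x hx => ?_⟩
  · obtain ⟨a, ha, rfl⟩ := hf.mem_imgS.1 hx
    obtain ⟨b, hb, rfl⟩ := hf.mem_imgS.1 hy
    rw [← hf.map_mul ha hb, ← hf.map_mul hb ha, hA.1 a ha b hb]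
  · obtain ⟨a, ha, rfl⟩ := hf.mem_imgS.1 hx
    obtain ⟨φ, -, hφf⟩ := hf
    rw [← hφf ⟨a, ha⟩]
    exact (small_coe_iff.1 (hA.2 a ha)).map φ

/-- The hyperfocal subgroup is strongly closed. -/
theorem mor_mem_hyperfocal [Finite S] {p : ℕ} [Fact p.Prime] (hS : IsPGroup p S)
    {F : FusionSystem S} (hF : F.IsSaturated p) {P : Subgroup Ω} {f : Ω → Ω} (hf : Mor F P f)
    {x : Ω} (hx : x ∈ P) (hxh : x ∈ F.hyperfocalSubgroup p) : f x ∈ F.hyperfocalSubgroup p := by
  obtain ⟨s, hs, h⟩ := mor_mod_hyperfocal hS hF hf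
  have h1 := hyperfocal_conj_mem F p hs x hxh
  have h2 := (F.hyperfocalSubgroup p).mul_mem h1 (h x hx)
  rwa [mul_inv_cancel_left] at h2

/-- The automorphisms `α` of `P` with `x⁻¹ α(x) ∈ T` for all `x ∈ P`. -/
def commSub (P T : Subgroup Ω) : Subgroup (MulAut P) where
  carrier := {α | ∀ x : P, (x : Ω)⁻¹ * ((α x : P) : Ω) ∈ T}
  mul_mem' := by
    intro α β hα hβ x
    have h : (x : Ω)⁻¹ * (((α * β) x : P) : Ω) =
        ((x : Ω)⁻¹ * ((β x : P) : Ω)) * (((β x : P) : Ω)⁻¹ * ((α (β x) : P) : Ω)) := by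
      rw [MulAut.mul_apply]
      group
    rw [h]
    exact T.mul_mem (hβ x) (hα (β x))
  one_mem' := by
    intro x
    rw [MulAut.one_apply, inv_mul_cancel]
    exact T.one_mem
  inv_mem' := by
    intro α hα x
    have h1 := hα (α⁻¹ x)
    rw [MulAut.apply_inv_self] at h1
    have h2 := T.inv_mem h1
    rwa [mul_inv_rev, inv_inv] at h2

theorem mem_commSub {P T : Subgroup Ω} {α : MulAut P} :
    α ∈ commSub P T ↔ ∀ x : P, (x : Ω)⁻¹ * ((α x : P) : Ω) ∈ T := Iff.rfl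

lemma exists_pow_split {G H : Type*} [Group G] [Group H] {p : ℕ} (α : G) (κ : H)
    (k : ℕ) (hκ : κ ^ p ^ k = 1) (hα : (orderOf α).Coprime p) : ∃ j, α ^ j = α ∧ κ ^ j = 1 := by
  have hco : (p ^ k).Coprime (orderOf α) := Nat.Coprime.pow_left k hα.symm
  obtain ⟨j, hj0, hj1⟩ := Nat.chineseRemainder hco 0 1
  refine ⟨j, ?_, ?_⟩
  · have := (pow_eq_pow_iff_modEq (x := α)).2 hj1
    rwa [pow_one] at this
  · obtain ⟨c, rfl⟩ := (Nat.modEq_zero_iff_dvd.1 hj0)
    rw [pow_mul, hκ, one_pow]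

/-- The hyperfocal subgroup of the `K`-normalizer system of `A`, for a `p`-group `K`, lies in the
hyperfocal subgroup of `F` and centralizes `A`. -/
theorem hyperfocal_nkSys_le {p : ℕ} [Fact p.Prime] {F : FusionSystem S}
    {A : Subgroup Ω} (hAS : A ≤ S) {K : Subgroup (MulAut A)} (hKp : IsPGroup p K) :
    (nkSys F A hAS K).hyperfocalSubgroup p ≤
      F.hyperfocalSubgroup p ⊓ Subgroup.centralizer (A : Set Ω) := by
  have hD := nkSys_data F A hAS K
  apply (Subgroup.closure_le _).2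
  rintro y ⟨P, α, x, hP, hα, rfl⟩
  have hPS : P ≤ S := hP.trans (nkSub_le _ _ _)
  have hnorm : ∀ y ∈ P, ∀ b ∈ A, y * b * y⁻¹ ∈ A := fun y hy b hb =>
    conj_mem_of_mem_normalizer (hD.le_normalizer (hP hy)) hb
  have hle : pResidual p ((nkSys F A hAS K).autGroup P) ≤
      (commSub P (F.hyperfocalSubgroup p ⊓ Subgroup.centralizer (A : Set Ω))).comap
        ((nkSys F A hAS K).autGroup P).subtype := by
    apply (Subgroup.closure_le _).2
    intro β hβ
    have hβ' : Nat.Coprime (orderOf β) p := hβ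
    show (β : MulAut P) ∈ commSub P _
    rw [mem_commSub]
    intro v
    have hβM : Mor (nkSys F A hAS K) P (autFun P (β : MulAut P)) := (mem_autGroup_iff hP _).1 β.2
    obtain ⟨-, -, f', hf', hf'β, κ, hκ, hf'κ⟩ := (hD.hE P _).1 hβM
    have hβF : (β : MulAut P) ∈ F.autGroup P :=
      (mem_autGroup_iff hPS _).2 ((hf'.restrict le_sup_left).congr hf'β)
    have hβm : (β : MulAut P) ^ orderOf β = 1 := by
      rw [← Subgroup.coe_pow, pow_orderOf_eq_one]
      rfl
    refine ⟨?_, ?_⟩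
    · have h1 := inv_mul_aut_mem_hyperfocal hPS hβF hβ' hβm v
      rwa [Subgroup.coe_mul, Subgroup.coe_inv] at h1
    · refine Subgroup.mem_centralizer_iff.2 ?_
      intro b hb
      obtain ⟨k, hk⟩ := hKp ⟨κ, hκ⟩
      have hκk : κ ^ p ^ k = 1 := by
        have := congrArg Subtype.val hk
        simpa using this
      obtain ⟨j, hj1, hj2⟩ := exists_pow_split β κ k hκk hβ'
      have hβj : (β : MulAut P) ^ j = β := by rw [← Subgroup.coe_pow, hj1]
      have star : ∀ y ∈ P, ∀ b ∈ A, autFun A κ (y * b * y⁻¹) =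
          autFun P (β : MulAut P) y * autFun A κ b * (autFun P (β : MulAut P) y)⁻¹ := by
        intro y hy b hb
        have hyR : y ∈ P ⊔ A := Subgroup.mem_sup_left hy
        have hbR : b ∈ P ⊔ A := Subgroup.mem_sup_right hb
        rw [← hf'κ _ (hnorm y hy b hb), hf'.map_mul ((P ⊔ A).mul_mem hyR hbR) ((P ⊔ A).inv_mem hyR),
          hf'.map_mul hyR hbR, hf'.map_inv hyR, hf'β y hy, hf'κ b hb]
      have pw : ∀ j : ℕ, ∀ y ∈ P, ∀ b ∈ A, autFun A (κ ^ j) (y * b * y⁻¹) =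
          autFun P ((β : MulAut P) ^ j) y * autFun A (κ ^ j) b *
            (autFun P ((β : MulAut P) ^ j) y)⁻¹ := by
        intro j
        induction j with
        | zero =>
          intro y hy b hb
          rw [pow_zero, pow_zero, autFun_one (hnorm y hy b hb), autFun_one hy, autFun_one hb]
        | succ j ih =>
          intro y hy b hb
          rw [pow_succ', pow_succ', autFun_mul _ _ (hnorm y hy b hb), ih y hy b hb,
            star _ (autFun_mem _ hy) _ (autFun_mem _ hb), ← autFun_mul _ _ hy, ← autFun_mul _ _ hb]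
      have h := pw j v v.2 b hb
      rw [hj2, hβj, autFun_one (hnorm v v.2 b hb), autFun_one hb, autFun_apply] at h
      calc b * ((v : Ω)⁻¹ * (((β : MulAut P) v : P) : Ω))
          = (v : Ω)⁻¹ * ((v : Ω) * b * (v : Ω)⁻¹) * (((β : MulAut P) v : P) : Ω) := by group
        _ = (v : Ω)⁻¹ * ((((β : MulAut P) v : P) : Ω) * b * (((β : MulAut P) v : P) : Ω)⁻¹) *
              (((β : MulAut P) v : P) : Ω) := by rw [h]
        _ = (v : Ω)⁻¹ * (((β : MulAut P) v : P) : Ω) * b := by group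
  exact hle hα x

/-! ### The measure -/

/-- The sum of the orders of the automorphism groups of a fusion system. -/
noncomputable def autMeasure (S : Subgroup Ω) [Finite S] (F : FusionSystem S) : ℕ :=
  ∑ P ∈ (finite_subgroups_le S).toFinset, Nat.card (F.autGroup P)

theorem autMeasure_lt {S₀ S : Subgroup Ω} [Finite S] [Finite S₀] (h : S₀ ≤ S) (F : FusionSystem S)
    (𝒦 : FusionSystem S₀) (hle : ∀ P, P ≤ S₀ → 𝒦.autGroup P ≤ F.autGroup P) {U : Subgroup Ω}
    (hU : U ≤ S₀) (hlt : ¬ F.autGroup U ≤ 𝒦.autGroup U) :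
    autMeasure S₀ 𝒦 < autMeasure S F := by
  classical
  unfold autMeasure
  have hsub : (finite_subgroups_le S₀).toFinset ⊆ (finite_subgroups_le S).toFinset := by
    intro P hP
    rw [Set.Finite.mem_toFinset] at hP ⊢
    exact le_trans hP h
  have hfin : ∀ P, P ≤ S₀ → Finite (F.autGroup P) := by
    intro P hP
    haveI : Finite P := finite_of_le (hP.trans h)
    infer_instance
  refine lt_of_lt_of_le (Finset.sum_lt_sum (fun P hP => ?_) ⟨U, ?_, ?_⟩)
    (Finset.sum_le_sum_of_subset hsub)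
  · rw [Set.Finite.mem_toFinset] at hP
    haveI := hfin P hP
    exact Subgroup.card_le_of_le (hle P hP)
  · rw [Set.Finite.mem_toFinset]
    exact hU
  · haveI := hfin U hU
    exact card_lt_card_of_lt (lt_of_le_not_ge (hle U hU) hlt)

/-! ### Fully `K`-normalized conjugates -/

theorem conj_mem_imgS_of {F : FusionSystem S} {U A : Subgroup Ω} (hAU : A ≤ U)
    (hn : ∀ u ∈ U, ∀ a ∈ A, u * a * u⁻¹ ∈ A) {φ : Ω → Ω} (hφ : Mor F U φ) :
    ∀ u ∈ imgS U φ, ∀ a ∈ imgS A φ, u * a * u⁻¹ ∈ imgS A φ := by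
  have hφA : Mor F A φ := hφ.restrict hAU
  intro u hu a ha
  obtain ⟨u', hu', rfl⟩ := hφ.mem_imgS.1 hu
  obtain ⟨a', ha', rfl⟩ := hφA.mem_imgS.1 ha
  rw [← hφ.map_inv hu', ← hφ.map_mul hu' (hAU ha'),
    ← hφ.map_mul (U.mul_mem hu' (hAU ha')) (U.inv_mem hu')]
  exact hφA.mem_imgS_of_mem (hn u' hu' a' ha')

/-- Some conjugate of the pair `(U, A)` under a map of `E` is fully `Aut_U(A)`-normalized in
`F` and in `E`, provided `E` and `F` have the same maps on `A`. -/
theorem exists_fullyK [Finite S] {p : ℕ} [Fact p.Prime] (hS : IsPGroup p S) {F E : FusionSystem S}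
    (hE : E.IsSaturated p) (hEF : ∀ P f, Mor E P f → Mor F P f)
    {U A : Subgroup Ω} (hUS : U ≤ S) (hAU : A ≤ U) (hn : ∀ u ∈ U, ∀ a ∈ A, u * a * u⁻¹ ∈ A)
    (hA : ∀ f, Mor F A f → Mor E A f) :
    ∃ φ, Mor E U φ ∧ FullyK F (imgS A φ) (autInducedBy (imgS U φ) (imgS A φ)) ∧
      FullyK E (imgS A φ) (autInducedBy (imgS U φ) (imgS A φ)) := by
  have hAS : A ≤ S := hAU.trans hUS
  obtain ⟨θ, hθ, hmax⟩ : ∃ θ, Mor F A θ ∧ ∀ f, Mor F A f →
      Nat.card (nkSub S A (autInducedBy U A) f) ≤ Nat.card (nkSub S A (autInducedBy U A) θ) := by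
    let s : Set ℕ := {n | ∃ f, Mor F A f ∧ Nat.card (nkSub S A (autInducedBy U A) f) = n}
    have hne : s.Nonempty := ⟨_, fun x => x, Mor.id F hAS, rfl⟩
    have hbdd : BddAbove s := ⟨Nat.card S, by
      rintro n ⟨f, hf, rfl⟩
      exact Subgroup.card_le_of_le (nkSub_le _ _ _)⟩
    obtain ⟨f₁, hf₁, hcard⟩ := Nat.sSup_mem hne hbdd
    exact ⟨f₁, hf₁, fun f hf => by rw [hcard]; exact le_csSup hbdd ⟨f, hf, rfl⟩⟩
  have hθE : Mor E A θ := hA θ hθ
  have hfull₁ : FullyK E (imgS A θ)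
      ((autInducedBy U A).map (MulAut.congr (isoEquiv hθ rfl)).toMonoidHom) := by
    refine ⟨hθ.imgS_le, fun f hf => ?_⟩
    rw [nkSub_map_congr hθ rfl (autInducedBy U A) f,
      nkSub_map_congr hθ rfl (autInducedBy U A) (fun x => x)]
    have h1 : Mor F A (f ∘ θ) := hθ.comp (hEF _ _ hf) (fun x hx => hθ.mem_imgS_of_mem hx)
    exact hmax _ h1
  obtain ⟨χ, hχ, h', hh', hh'χ⟩ := hfull₁.extend hS hE hθE.inv
  have hnk : nkSub S (imgS A θ) ((autInducedBy U A).map (MulAut.congr (isoEquiv hθ rfl)).toMonoidHom)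
      (invOn A θ) = nkSub S A (autInducedBy U A) (fun x => x) := by
    rw [nkSub_map_congr hθ rfl (autInducedBy U A) (invOn A θ)]
    exact nkSub_congr _ (fun x hx => invOn_apply hθ.injOn hx)
  have hU : U ≤ nkSub S A (autInducedBy U A) (fun x => x) := by
    intro u hu
    rw [mem_nkSub_autInducedBy hn]
    exact ⟨hUS hu, u, hu, fun x hx => rfl⟩
  have hh'U : Mor E U h' := hh'.restrict (by rw [hnk]; exact hU.trans le_sup_right)
  obtain ⟨κ, hκ, hκχ⟩ := hχ.2
  obtain ⟨v, hv, hκv⟩ := (mem_autInducedBy_iff U A κ).1 hκ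
  have hh'A : ∀ x ∈ A, h' x = θ (v * x * v⁻¹) := by
    intro x hx
    have h1 := hh'χ (θ x) (hθ.mem_imgS_of_mem hx)
    rw [invOn_apply hθ.injOn hx] at h1
    rw [h1, ← hκχ]
    show autFun (imgS A θ) (MulAut.congr (isoEquiv hθ rfl) κ) (θ x) = _
    rw [autFun_congr_isoEquiv hθ rfl κ hx, autFun_of_mem κ hx, hκv]
  have hcv : Mor E U (fun x => v⁻¹ * x * v⁻¹⁻¹) := Mor.conj E hUS (S.inv_mem (hUS hv))
  have hφ : Mor E U (h' ∘ (fun x => v⁻¹ * x * v⁻¹⁻¹)) :=
    hcv.comp hh'U (fun x hx => U.mul_mem (U.mul_mem (U.inv_mem hv) hx) (U.inv_mem (U.inv_mem hv)))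
  have hφA : ∀ x ∈ A, (h' ∘ (fun x => v⁻¹ * x * v⁻¹⁻¹)) x = θ x := by
    intro x hx
    show h' (v⁻¹ * x * v⁻¹⁻¹) = θ x
    have hx' : v⁻¹ * x * v⁻¹⁻¹ ∈ A := hn v⁻¹ (U.inv_mem hv) x hx
    rw [hh'A _ hx']
    congr 1
    group
  have hφF : Mor F U (h' ∘ (fun x => v⁻¹ * x * v⁻¹⁻¹)) := hEF _ _ hφ
  have key : ∀ f, Mor F (imgS A (h' ∘ (fun x => v⁻¹ * x * v⁻¹⁻¹))) f →
      Nat.card (nkSub S (imgS A (h' ∘ (fun x => v⁻¹ * x * v⁻¹⁻¹)))
        (autInducedBy (imgS U (h' ∘ (fun x => v⁻¹ * x * v⁻¹⁻¹)))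
          (imgS A (h' ∘ (fun x => v⁻¹ * x * v⁻¹⁻¹)))) f) ≤
      Nat.card (nkSub S (imgS A (h' ∘ (fun x => v⁻¹ * x * v⁻¹⁻¹)))
        (autInducedBy (imgS U (h' ∘ (fun x => v⁻¹ * x * v⁻¹⁻¹)))
          (imgS A (h' ∘ (fun x => v⁻¹ * x * v⁻¹⁻¹)))) (fun x => x)) := by
    intro f hf
    rw [nkSub_autInducedBy_img hAU hn hφF f, nkSub_autInducedBy_img hAU hn hφF (fun x => x)]
    have h1 : Mor F A (f ∘ (h' ∘ (fun x => v⁻¹ * x * v⁻¹⁻¹))) :=
      (hφF.restrict hAU).comp hf (fun x hx => (hφF.restrict hAU).mem_imgS_of_mem hx)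
    have h2 : nkSub S A (autInducedBy U A) ((fun x => x) ∘ (h' ∘ (fun x => v⁻¹ * x * v⁻¹⁻¹))) =
        nkSub S A (autInducedBy U A) θ := nkSub_congr _ hφA
    rw [h2]
    exact hmax _ h1
  exact ⟨_, hφ, ⟨(hφF.restrict hAU).imgS_le, key⟩,
    ⟨(hφF.restrict hAU).imgS_le, fun f hf => key f (hEF _ _ hf)⟩⟩

/-! ### The key step -/

/-- The hypothesis: `E` and `F` have the same maps on the small abelian subgroups of the
hyperfocal subgroup of `F`. -/
def BHyp (p : ℕ) (F E : FusionSystem S) : Prop :=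
  ∀ A : Subgroup Ω, A ≤ F.hyperfocalSubgroup p → SmallAb p A → ∀ f, Mor F A f → Mor E A f

/-- The induction hypothesis: the theorem for all systems of smaller measure. -/
def BIH (p : ℕ) (Ω : Type*) [Group Ω] (n : ℕ) : Prop :=
  ∀ (S' : Subgroup Ω) [Finite S'], IsPGroup p S' → ∀ (F' E' : FusionSystem S'),
    autMeasure S' F' < n → F'.IsSaturated p → E'.IsSaturated p →
    (∀ P f, Mor E' P f → Mor F' P f) → BHyp p F' E' → ∀ P f, Mor F' P f → Mor E' P f

theorem key_full [Finite S] {p : ℕ} [Fact p.Prime] (hS : IsPGroup p S) {F E : FusionSystem S}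
    (hF : F.IsSaturated p) (hE : E.IsSaturated p) (hEF : ∀ P f, Mor E P f → Mor F P f)
    (hB : BHyp p F E) (ih : BIH p Ω (autMeasure S F))
    {U A : Subgroup Ω} (hUS : U ≤ S) (hAU : A ≤ U) (hn : ∀ u ∈ U, ∀ a ∈ A, u * a * u⁻¹ ∈ A)
    (hAh : A ≤ F.hyperfocalSubgroup p) (hAs : SmallAb p A)
    (hfF : FullyK F A (autInducedBy U A)) (hfE : FullyK E A (autInducedBy U A))
    {β : MulAut U} (hβ : β ∈ F.autGroup U) {m : ℕ} (hm : m.Coprime p) (hβm : β ^ m = 1) :
    β ∈ E.autGroup U ∨ ∀ a ∈ A, autFun U β a = a := by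
  have hAS : A ≤ S := hAU.trans hUS
  have hKp : IsPGroup p (autInducedBy U A) := autInducedBy_isPGroup (hS.to_le hUS) A
  have hDF := nkSys_data F A hAS (autInducedBy U A)
  have hDE := nkSys_data E A hAS (autInducedBy U A)
  have hS₀ : nkSub S A (autInducedBy U A) (fun x => x) ≤ S := nkSub_le _ _ _
  haveI : Finite (nkSub S A (autInducedBy U A) (fun x => x)) := finite_of_le hS₀
  have hUS₀ : U ≤ nkSub S A (autInducedBy U A) (fun x => x) := by
    intro u hu
    rw [mem_nkSub_autInducedBy hn]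
    exact ⟨hUS hu, u, hu, fun x hx => rfl⟩
  have hsupU : U ⊔ A = U := sup_eq_left.2 hAU
  have hKF : ∀ P f, Mor (nkSys F A hAS (autInducedBy U A)) P f → Mor F P f := by
    intro P f hf
    obtain ⟨-, -, f', hf', hf'f, -⟩ := (hDF.hE P f).1 hf
    exact (hf'.restrict le_sup_left).congr hf'f
  by_cases hcase : F.autGroup U ≤ (nkSys F A hAS (autInducedBy U A)).autGroup U
  · right
    have h1 : Mor (nkSys F A hAS (autInducedBy U A)) U (autFun U β) :=
      (mem_autGroup_iff hUS₀ β).1 (hcase hβ)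
    obtain ⟨-, -, f', hf', hf'β, κ, hκ, hf'κ⟩ := (hDF.hE U _).1 h1
    have hβκ : ∀ x ∈ A, autFun U β x = autFun A κ x := fun x hx => by
      rw [← hf'β x (hAU hx), hf'κ x hx]
    have hpow : ∀ j : ℕ, ∀ x ∈ A, autFun A (κ ^ j) x = autFun U (β ^ j) x := by
      intro j
      induction j with
      | zero =>
        intro x hx
        rw [pow_zero, pow_zero, autFun_one hx, autFun_one (hAU hx)]
      | succ j ih =>
        intro x hx
        rw [pow_succ, pow_succ, autFun_mul _ _ hx, autFun_mul _ _ (hAU hx), hβκ x hx,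
          ih _ (autFun_mem κ hx)]
    have hκm : κ ^ m = 1 := by
      apply autFun_ext
      intro x hx
      rw [hpow m x hx, hβm, autFun_one (hAU hx), autFun_one hx]
    have hκ1 : κ = 1 := by
      have h2 := eq_one_of_pow_coprime hKp hm (⟨κ, hκ⟩ : autInducedBy U A) (Subtype.ext (by
        rw [Subgroup.coe_pow]
        exact hκm))
      exact congrArg Subtype.val h2
    intro a ha
    rw [hβκ a ha, hκ1, autFun_one ha]
  · left
    have hlt : autMeasure _ (nkSys F A hAS (autInducedBy U A)) < autMeasure S F := by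
      refine autMeasure_lt hS₀ F _ (fun P hP α hα => ?_) hUS₀ hcase
      rw [mem_autGroup_iff (hP.trans hS₀)]
      exact hKF _ _ ((mem_autGroup_iff hP α).1 hα)
    have hsatF := hDF.saturated hS hF hfF
    have hsatE := hDE.saturated hS hE hfE
    have hKEF : ∀ P f, Mor (nkSys E A hAS (autInducedBy U A)) P f →
        Mor (nkSys F A hAS (autInducedBy U A)) P f := by
      intro P f hf
      obtain ⟨h1, h2, f', hf', hf'f, κ, hκ, hf'κ⟩ := (hDE.hE P f).1 hf
      exact (hDF.hE P f).2 ⟨h1, h2, f', hEF _ _ hf', hf'f, κ, hκ, hf'κ⟩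
    have hBK : BHyp p (nkSys F A hAS (autInducedBy U A)) (nkSys E A hAS (autInducedBy U A)) := by
      intro B hBh hBs f hf
      obtain ⟨h1, h2, f', hf', hf'f, κ, hκ, hf'κ⟩ := (hDF.hE B f).1 hf
      refine (hDE.hE B f).2 ⟨h1, h2, f', ?_, hf'f, κ, hκ, hf'κ⟩
      have hle := hyperfocal_nkSys_le (F := F) hAS hKp
      refine hB (B ⊔ A) (sup_le (hBh.trans (hle.trans inf_le_left)) hAh) ?_ f' hf'
      exact smallAb_sup hBs hAs (fun b hb a ha =>
        (Subgroup.mem_centralizer_iff.1 (hle (hBh hb)).2 a ha).symm)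
    have IH := ih _ (hS.to_le hS₀) _ _ hlt hsatF hsatE hKEF hBK
    have hγ : Mor F U (autFun U β) := (mem_autGroup_iff hUS β).1 hβ
    have hγA : Mor E A (autFun U β) := hB A hAh hAs _ (hγ.restrict hAU)
    obtain ⟨χ, hχ, h', hh', hh'χ⟩ := hfE.extend hS hE hγA
    have hUγ : U ≤ nkSub S A (autInducedBy U A) (autFun U β) := by
      intro u hu
      rw [mem_nkSub_autInducedBy hn]
      have hu' : autFun U β⁻¹ u ∈ U := autFun_mem _ hu
      refine ⟨hUS hu, autFun U β⁻¹ u, hu', fun x hx => ?_⟩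
      rw [hγ.map_mul (U.mul_mem hu' (hAU hx)) (U.inv_mem hu'), hγ.map_mul hu' (hAU hx),
        hγ.map_inv hu', autFun_apply_inv β hu]
    have hh'U : Mor E U h' := hh'.restrict (hUγ.trans le_sup_right)
    have hρF : Mor F U (h' ∘ autFun U β) :=
      hγ.comp (hEF _ _ hh'U) (fun x hx => autFun_mem β hx)
    have hρA : ∀ x ∈ A, (h' ∘ autFun U β) x = autFun A χ x := fun x hx => hh'χ x hx
    have hρK : Mor (nkSys F A hAS (autInducedBy U A)) U (h' ∘ autFun U β) := by
      refine (hDF.hE U _).2 ⟨hUS₀, fun u hu => ?_, h' ∘ autFun U β, by rw [hsupU]; exact hρF,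
        fun x _ => rfl, χ, hχ.2, hρA⟩
      have hun : u ∈ Subgroup.normalizer (A : Set Ω) :=
        mem_normalizer_of_forall_conj_mem (fun a ha => hn u hu a ha) (fun a ha => by
          have := hn u⁻¹ (U.inv_mem hu) a ha
          rwa [inv_inv] at this)
      obtain ⟨κu, hκu⟩ := exists_conjAut hun
      have hκuK : κu ∈ autInducedBy U A := (mem_autInducedBy_iff U A κu).2 ⟨u, hu, hκu⟩
      refine ⟨hρF.mem hu, χ * κu * χ⁻¹, (autInducedBy U A).mul_mem
        ((autInducedBy U A).mul_mem hχ.2 hκuK) ((autInducedBy U A).inv_mem hχ.2), fun x hx => ?_⟩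
      have hx' : autFun A χ⁻¹ x ∈ A := autFun_mem _ hx
      have e1 : (h' ∘ autFun U β) (autFun A χ⁻¹ x) = x := by
        rw [hρA _ hx', autFun_apply_inv χ hx]
      show (h' ∘ autFun U β) u * x * ((h' ∘ autFun U β) u)⁻¹ = autFun A (χ * κu * χ⁻¹) x
      conv_lhs => rw [← e1]
      rw [← hρF.map_inv hu, ← hρF.map_mul hu (hAU hx'),
        ← hρF.map_mul (U.mul_mem hu (hAU hx')) (U.inv_mem hu), hρA _ (hn u hu _ hx'),
        autFun_mul _ _ hx, autFun_mul _ _ hx', autFun_of_mem κu hx', hκu]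
    have hρE' : Mor (nkSys E A hAS (autInducedBy U A)) U (h' ∘ autFun U β) := IH U _ hρK
    have hρE : Mor E U (h' ∘ autFun U β) := by
      obtain ⟨-, -, f', hf', hf'f, -⟩ := (hDE.hE U _).1 hρE'
      exact (hf'.restrict le_sup_left).congr hf'f
    rw [mem_autGroup_iff hUS]
    have hinv : Mor E (imgS U h') (invOn U h') := hh'U.inv
    have h3 : Mor E U (invOn U h' ∘ (h' ∘ autFun U β)) :=
      hρE.comp hinv (fun x hx => hh'U.mem_imgS_of_mem (autFun_mem β hx))
    exact h3.congr (fun x hx => invOn_apply hh'U.injOn (autFun_mem β hx))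

theorem key_step [Finite S] {p : ℕ} [Fact p.Prime] (hS : IsPGroup p S) {F E : FusionSystem S}
    (hF : F.IsSaturated p) (hE : E.IsSaturated p) (hEF : ∀ P f, Mor E P f → Mor F P f)
    (hB : BHyp p F E) (ih : BIH p Ω (autMeasure S F))
    {U A : Subgroup Ω} (hUS : U ≤ S) (hAU : A ≤ U) (hn : ∀ u ∈ U, ∀ a ∈ A, u * a * u⁻¹ ∈ A)
    (hAh : A ≤ F.hyperfocalSubgroup p) (hAs : SmallAb p A)
    {β : MulAut U} (hβ : β ∈ F.autGroup U) {m : ℕ} (hm : m.Coprime p) (hβm : β ^ m = 1) :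
    β ∈ E.autGroup U ∨ ∀ a ∈ A, autFun U β a = a := by
  obtain ⟨φ, hφ, hfF, hfE⟩ := exists_fullyK hS hE hEF hUS hAU hn (fun f hf => hB A hAh hAs f hf)
  have hφF : Mor F U φ := hEF _ _ hφ
  have hφA : Mor F A φ := hφF.restrict hAU
  have hA₁h : imgS A φ ≤ F.hyperfocalSubgroup p := by
    intro y hy
    obtain ⟨x, hx, rfl⟩ := hφA.mem_imgS.1 hy
    exact mor_mem_hyperfocal hS hF hφA hx (hAh hx)
  have hδ : MulAut.congr (isoEquiv hφF rfl) β ∈ F.autGroup (imgS U φ) :=
    congr_mem_autGroup hφF rfl _ (isoEquiv_apply hφF rfl) hβ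
  have hδm : (MulAut.congr (isoEquiv hφF rfl) β) ^ m = 1 := by
    rw [← map_pow, hβm, map_one]
  rcases key_full hS hF hE hEF hB ih hφF.imgS_le (hφF.imgS_mono hAU)
    (conj_mem_imgS_of hAU hn hφF) hA₁h (hAs.img hφA) hfF hfE hδ hm hδm with h | h
  · left
    rw [mem_autGroup_iff hUS]
    have hδM : Mor E (imgS U φ) (autFun (imgS U φ) (MulAut.congr (isoEquiv hφF rfl) β)) :=
      (mem_autGroup_iff hφF.imgS_le _).1 h
    have h1 : Mor E U (autFun (imgS U φ) (MulAut.congr (isoEquiv hφF rfl) β) ∘ φ) :=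
      hφ.comp hδM (fun x hx => hφ.mem_imgS_of_mem hx)
    have h2 : Mor E U (invOn U φ ∘ (autFun (imgS U φ) (MulAut.congr (isoEquiv hφF rfl) β) ∘ φ)) :=
      h1.comp hφ.inv (fun x hx => autFun_mem _ (hφ.mem_imgS_of_mem hx))
    refine h2.congr (fun x hx => ?_)
    show invOn U φ (autFun (imgS U φ) (MulAut.congr (isoEquiv hφF rfl) β) (φ x)) = autFun U β x
    rw [autFun_congr_isoEquiv hφF rfl β hx, invOn_apply hφ.injOn (autFun_mem β hx)]
  · right
    intro a ha
    have h1 := h (φ a) (hφA.mem_imgS_of_mem ha)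
    rw [autFun_congr_isoEquiv hφF rfl β (hAU ha)] at h1
    exact hφF.injOn (autFun_mem β (hAU ha)) (hAU ha) h1

/-- Automorphisms of order prime to `p` in `F` belong to `E`. -/
theorem pprime_aut_mem [Finite S] {p : ℕ} [Fact p.Prime] (hS : IsPGroup p S) {F E : FusionSystem S}
    (hF : F.IsSaturated p) (hE : E.IsSaturated p) (hEF : ∀ P f, Mor E P f → Mor F P f)
    (hB : BHyp p F E) (ih : BIH p Ω (autMeasure S F))
    {U : Subgroup Ω} (hUS : U ≤ S) {β : MulAut U} (hβ : β ∈ F.autGroup U) {m : ℕ}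
    (hm : m.Coprime p) (hβm : β ^ m = 1) : β ∈ E.autGroup U := by
  haveI : Finite U := finite_of_le hUS
  by_contra hβE
  have hUp : IsPGroup p U := hS.to_le hUS
  have hfixA : ∀ A : Subgroup U, A ≤ (F.hyperfocalSubgroup p).subgroupOf U →
      (∀ u : U, ∀ a ∈ A, u * a * u⁻¹ ∈ A) → (∀ a ∈ A, ∀ b ∈ A, a * b = b * a) →
      (∀ a ∈ A, Small p a) → ∀ a ∈ A, β a = a := by
    intro A hAX hAn hAc hAs a ha
    have hAU : A.map U.subtype ≤ U := by
      rintro _ ⟨x, -, rfl⟩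
      exact x.2
    have hn : ∀ u ∈ U, ∀ a ∈ A.map U.subtype, u * a * u⁻¹ ∈ A.map U.subtype := by
      rintro u hu _ ⟨x, hx, rfl⟩
      exact ⟨⟨u, hu⟩ * x * ⟨u, hu⟩⁻¹, hAn ⟨u, hu⟩ x hx, rfl⟩
    have hAh : A.map U.subtype ≤ F.hyperfocalSubgroup p := by
      rintro _ ⟨x, hx, rfl⟩
      exact Subgroup.mem_subgroupOf.1 (hAX hx)
    have hAs' : SmallAb p (A.map U.subtype) := by
      refine ⟨?_, ?_⟩
      · rintro _ ⟨x, hx, rfl⟩ _ ⟨y, hy, rfl⟩
        have := hAc x hx y hy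
        exact congrArg Subtype.val this
      · rintro _ ⟨x, hx, rfl⟩
        exact small_coe_iff.2 (hAs x hx)
    rcases key_step hS hF hE hEF hB ih hUS hAU hn hAh hAs' hβ hm hβm with h | h
    · exact absurd h hβE
    · have h1 := h a ⟨a, ha, rfl⟩
      have h2 : autFun U β (a : Ω) = ((β a : U) : Ω) := autFun_apply β a
      exact Subtype.ext (h2.symm.trans h1)
  have hfix := fix_of_fix_small_abelian hUp β m hm hβm ((F.hyperfocalSubgroup p).subgroupOf U)
    hfixA (Nat.card ((F.hyperfocalSubgroup p).subgroupOf U))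
    ((F.hyperfocalSubgroup p).subgroupOf U) le_rfl le_rfl
    (fun x hx => aut_mem_hyperfocal hS hF hUS hβ hx)
    (fun u x hx => by
      rw [Subgroup.mem_subgroupOf] at hx ⊢
      exact hyperfocal_conj_mem F p (hUS u.2) _ hx)
  have h1 : β = 1 := aut_eq_one_of_fix_hyperfocal hS hUS hβ hm hβm hfix
  exact hβE (h1 ▸ (E.autGroup U).one_mem)

/-- **Benson–Grodal–Henke**, inductive form. -/
theorem bgh_aux (p : ℕ) [Fact p.Prime] (n : ℕ) :
    ∀ (S : Subgroup Ω) [Finite S], IsPGroup p S → ∀ (F E : FusionSystem S),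
      autMeasure S F ≤ n → F.IsSaturated p → E.IsSaturated p →
      (∀ P f, Mor E P f → Mor F P f) → BHyp p F E → ∀ P f, Mor F P f → Mor E P f := by
  induction n using Nat.strong_induction_on with
  | _ n ih =>
    intro S _ hS F E hn hF hE hEF hB
    have ih' : BIH p Ω (autMeasure S F) := by
      intro S' _ hS' F' E' hlt
      exact ih (autMeasure S' F') (lt_of_lt_of_le hlt hn) S' hS' F' E' le_rfl
    apply alperin hS hF E
    intro U hU α hα
    have hUn : F.IsFullyNormalized U := by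
      rcases hU with rfl | hess
      · exact fullyNormalized_self F
      · exact hess.2.1
    have hUS : U ≤ S := hUn.1
    haveI : Finite U := finite_of_le hUS
    obtain ⟨-, hUa⟩ := saturated_fullyNormalized hS hF hUn
    obtain ⟨R, hR⟩ := hUa.2
    obtain ⟨t, ht, u, hu, htu⟩ :=
      Cfsg.Agent.H40.exists_mul_sylow_pResidual R (⟨α, hα⟩ : ↥(F.autGroup U))
    have ht' : (t : MulAut U) ∈ autInducedBy S U := by
      have h1 : t ∈ (R : Subgroup ↥(F.autGroup U)) := ht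
      rw [hR] at h1
      exact Subgroup.mem_subgroupOf.mp h1
    have htE : (t : MulAut U) ∈ E.autGroup U := autInducedBy_le_autGroup E hUS ht'
    have huE : (u : MulAut U) ∈ E.autGroup U := by
      have hle : pResidual p (F.autGroup U) ≤ (E.autGroup U).comap (F.autGroup U).subtype := by
        apply (Subgroup.closure_le _).2
        intro β hβ
        have hβ' : Nat.Coprime (orderOf β) p := hβ
        show (β : MulAut U) ∈ E.autGroup U
        refine pprime_aut_mem hS hF hE hEF hB ih' hUS β.2 hβ' ?_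
        rw [← Subgroup.coe_pow, pow_orderOf_eq_one]
        rfl
      exact hle hu
    have h1 : α = (t : MulAut U) * (u : MulAut U) := congrArg Subtype.val htu
    rw [h1]
    exact (E.autGroup U).mul_mem htE huE

/-- **Benson–Grodal–Henke**: a saturated subsystem `E` of a saturated fusion system `F` over the
same `p`-group having the same maps as `F` on the small abelian subgroups of the hyperfocal
subgroup of `F` is all of `F`. -/
theorem bgh [Finite S] {p : ℕ} [Fact p.Prime] (hS : IsPGroup p S) {F E : FusionSystem S}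
    (hF : F.IsSaturated p) (hE : E.IsSaturated p) (hEF : ∀ P f, Mor E P f → Mor F P f)
    (hB : BHyp p F E) : ∀ P f, Mor F P f → Mor E P f :=
  bgh_aux p (autMeasure S F) S hS F E le_rfl hF hE hEF hB

theorem isMulCommutative_of_smallAb {p : ℕ} {A : Subgroup Ω} (hA : SmallAb p A) :
    IsMulCommutative ↥A :=
  ⟨⟨fun a b => Subtype.ext (hA.1 a a.2 b b.2)⟩⟩

/-- **Benson–Grodal–Henke**, in terms of the sets of maps. -/
theorem bgh_hom [Finite S] {p : ℕ} [Fact p.Prime] (hS : IsPGroup p S) (E F : FusionSystem S)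
    (hE : E.IsSaturated p) (hF : F.IsSaturated p) (hEF : E.IsSubsystemOf F)
    (hodd : p ≠ 2 → ∀ A B : Subgroup Ω, A ≤ F.hyperfocalSubgroup p →
      B ≤ F.hyperfocalSubgroup p → Cfsg.IsElementaryAbelian p A → Cfsg.IsElementaryAbelian p B →
      E.homSet A B = F.homSet A B)
    (htwo : p = 2 → ∀ A B : Subgroup Ω, A ≤ F.hyperfocalSubgroup p →
      B ≤ F.hyperfocalSubgroup p → IsMulCommutative ↥A → IsMulCommutative ↥B →
      (∀ a ∈ A, a ^ 4 = 1) → (∀ b ∈ B, b ^ 4 = 1) → E.homSet A B = F.homSet A B) :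
    ∀ P : Subgroup Ω, E.Hom P = F.Hom P := by
  have hEF' : ∀ P f, Mor E P f → Mor F P f := by
    rintro P f ⟨φ, hφ, h⟩
    exact ⟨φ, hEF P hφ, h⟩
  have hB : BHyp p F E := by
    intro A hAh hAs f hf
    have hBh : imgS A f ≤ F.hyperfocalSubgroup p := by
      intro y hy
      obtain ⟨x, hx, rfl⟩ := hf.mem_imgS.1 hy
      exact mor_mem_hyperfocal hS hF hf hx (hAh hx)
    have hBs : SmallAb p (imgS A f) := hAs.img hf
    have hmem : ∀ x ∈ A, f x ∈ imgS A f := fun x hx => hf.mem_imgS_of_mem hx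
    obtain ⟨φ, hφ, hφf⟩ := hf
    have hφF : φ ∈ F.homSet A (imgS A f) := ⟨hφ, fun x => by rw [hφf]; exact hmem x x.2⟩
    have heq : E.homSet A (imgS A f) = F.homSet A (imgS A f) := by
      by_cases hp2 : p = 2
      · refine htwo hp2 A (imgS A f) hAh hBh (isMulCommutative_of_smallAb hAs)
          (isMulCommutative_of_smallAb hBs) (fun a ha => ?_) (fun b hb => ?_)
        · have h1 := hAs.2 a ha
          rw [hp2] at h1
          exact h1.pow_four
        · have h1 := hBs.2 b hb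
          rw [hp2] at h1
          exact h1.pow_four
      · refine hodd hp2 A (imgS A f) hAh hBh ⟨isMulCommutative_of_smallAb hAs, fun a ha => ?_⟩
          ⟨isMulCommutative_of_smallAb hBs, fun b hb => ?_⟩
        · rcases hAs.2 a ha with h1 | ⟨h1, -⟩
          · exact h1
          · exact absurd h1 hp2
        · rcases hBs.2 b hb with h1 | ⟨h1, -⟩
          · exact h1
          · exact absurd h1 hp2
    rw [← heq] at hφF
    exact ⟨φ, hφF.1, hφf⟩
  have hmain := bgh hS hF hE hEF' hB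
  intro P
  refine Set.Subset.antisymm (hEF P) (fun φ hφ => ?_)
  obtain ⟨φ', hφ', h⟩ := hmain P _ (mor_extFun hφ)
  have : φ' = φ := by
    ext x
    rw [h x, extFun_apply]
  rw [← this]
  exact hφ'

end Cfsg.Agent.H90
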