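import Mathlib
import Cfsg.Prelude.Def_FusionSystem
import Cfsg.Agent.H86.WPlaced
import Cfsg.Agent.H86.FusSylow
import Cfsg.Agent.H88.NormModel
import Cfsg.Agent.H89.Normalizer

set_option autoImplicit false
set_option maxHeartbeats 800000

/-!
Control of transfer in fusion systems: the focal subgroup of a normalizer system, described inside
the ambient system.
-/

namespace Cfsg.Agent.H90

open Cfsg Cfsg.FusionSystem Cfsg.Agent.H86

universe u

variable {Ω : Type u} [Group Ω] {S : Subgroup Ω}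

/-- A map of the normalizer system of `V`, defined on a subgroup containing `V`. -/
def NMor (F : FusionSystem S) (V D : Subgroup Ω) (f : Ω → Ω) : Prop :=
  V ≤ D ∧ D ≤ normalizerIn S V ∧ Mor F D f ∧ imgS V f = V

/-- The focal subgroup of the normalizer system of `V`. -/
def nfoc (F : FusionSystem S) (V : Subgroup Ω) : Subgroup Ω :=
  Subgroup.closure {y | ∃ (D : Subgroup Ω) (f : Ω → Ω) (x : Ω), NMor F V D f ∧ x ∈ D ∧ y = x⁻¹ * f x}

lemma mem_nfoc {F : FusionSystem S} {V D : Subgroup Ω} {f : Ω → Ω} {x : Ω} (h : NMor F V D f)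
    (hx : x ∈ D) : x⁻¹ * f x ∈ nfoc F V :=
  Subgroup.subset_closure ⟨D, f, x, h, hx, rfl⟩

lemma focal_mem {F : FusionSystem S} {P : Subgroup Ω} {f : Ω → Ω} {x : Ω} (hf : Mor F P f)
    (hx : x ∈ P) : x⁻¹ * f x ∈ F.focalSubgroup := by
  obtain ⟨φ, hφ, hφf⟩ := hf
  refine Subgroup.subset_closure ⟨P, φ, ⟨x, hx⟩, hφ, ?_⟩
  rw [hφf ⟨x, hx⟩]

lemma focal_le_iff {F : FusionSystem S} {K : Subgroup Ω} :
    F.focalSubgroup ≤ K ↔ ∀ (P : Subgroup Ω) (f : Ω → Ω), Mor F P f → ∀ x ∈ P, x⁻¹ * f x ∈ K := by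
  constructor
  · intro h P f hf x hx
    exact h (focal_mem hf hx)
  · intro h
    unfold focalSubgroup
    rw [Subgroup.closure_le]
    rintro _ ⟨P, φ, x, hφ, rfl⟩
    have := h P (extFun P φ) (mor_extFun hφ) x x.2
    rwa [extFun_apply] at this

lemma nfoc_le_iff {F : FusionSystem S} {V K : Subgroup Ω} :
    nfoc F V ≤ K ↔ ∀ (D : Subgroup Ω) (f : Ω → Ω), NMor F V D f → ∀ x ∈ D, x⁻¹ * f x ∈ K := by
  constructor
  · intro h D f hf x hx
    exact h (mem_nfoc hf hx)
  · intro h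
    unfold nfoc
    rw [Subgroup.closure_le]
    rintro _ ⟨D, f, x, hf, hx, rfl⟩
    exact h D f hf x hx

lemma nfoc_le_focal (F : FusionSystem S) (V : Subgroup Ω) : nfoc F V ≤ F.focalSubgroup :=
  nfoc_le_iff.2 (fun _ _ hf _ hx => focal_mem hf.2.2.1 hx)

lemma focal_le_top' (F : FusionSystem S) : F.focalSubgroup ≤ S :=
  focal_le_iff.2 (fun _ _ hf _ hx => S.mul_mem (S.inv_mem (hf.le hx)) (hf.mem hx))

/-- A map of `N_F(V)` on a subgroup containing `V` maps into `N_S(V)`. -/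
lemma NMor.mem_normalizerIn {F : FusionSystem S} {V D : Subgroup Ω} {f : Ω → Ω} (h : NMor F V D f)
    {x : Ω} (hx : x ∈ D) : f x ∈ normalizerIn S V := by
  obtain ⟨hVD, hDN, hf, himg⟩ := h
  have key : ∀ z ∈ D, ∀ v ∈ V, f z * v * (f z)⁻¹ ∈ V := by
    intro z hz v hv
    have hv' : v ∈ imgS V f := by rw [himg]; exact hv
    obtain ⟨v₀, hv₀, rfl⟩ := (hf.restrict hVD).mem_imgS.1 hv'
    have hzN := (mem_normalizerIn_iff.1 (hDN hz)).2
    have h1 : z * v₀ * z⁻¹ ∈ V := conj_mem_of_mem_normalizer hzN hv₀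
    have h2 : f (z * v₀ * z⁻¹) = f z * f v₀ * (f z)⁻¹ := by
      rw [hf.map_mul (D.mul_mem hz (hVD hv₀)) (D.inv_mem hz), hf.map_mul hz (hVD hv₀), hf.map_inv hz]
    rw [← h2, ← himg]
    exact (hf.restrict hVD).mem_imgS_of_mem h1
  rw [mem_normalizerIn_iff]
  refine ⟨hf.mem hx, mem_normalizer_of_forall_conj_mem (fun v hv => key x hx v hv) (fun v hv => ?_)⟩
  have := key x⁻¹ (D.inv_mem hx) v hv
  rw [hf.map_inv hx, inv_inv] at this
  exact this

/-- The focal subgroup of the normalizer system. -/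
lemma focal_normalizerSystem {F : FusionSystem S} {V : Subgroup Ω} (hV : V ≤ S)
    {E : FusionSystem (normalizerIn S V)} (hE : F.IsNormalizerSystem V E) :
    E.focalSubgroup = nfoc F V := by
  apply le_antisymm
  · rw [focal_le_iff]
    intro P f hf x hx
    obtain ⟨hPN, -, f', hf', hf'f, himg⟩ := (Cfsg.Agent.H88.mor_normalizerSystem_iff hE).1 hf
    have hN : NMor F V (P ⊔ V) f' :=
      ⟨le_sup_right, sup_le hPN (le_normalizerIn hV), hf', himg⟩
    have := mem_nfoc hN (Subgroup.mem_sup_left hx : x ∈ P ⊔ V)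
    rwa [hf'f x hx] at this
  · rw [nfoc_le_iff]
    intro D f hf x hx
    have hfE : Mor E D f := by
      rw [Cfsg.Agent.H88.mor_normalizerSystem_iff hE]
      refine ⟨hf.2.1, fun z hz => hf.mem_normalizerIn hz, f, ?_, fun _ _ => rfl, hf.2.2.2⟩
      rw [sup_eq_left.2 hf.1]
      exact hf.2.2.1
    exact focal_mem hfE hx

/-- Maps of the normalizer system of `V` inside a normalizer system `N_F(U)` are maps of the
normalizer system of `V` in `F`. -/
lemma nfoc_normalizerSystem_le {F : FusionSystem S} {U V : Subgroup Ω}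
    {E : FusionSystem (normalizerIn S U)} (hE : F.IsNormalizerSystem U E) :
    nfoc E V ≤ nfoc F V := by
  rw [nfoc_le_iff]
  rintro D f ⟨hVD, hDN, hf, himg⟩ x hx
  obtain ⟨-, -, f', hf', hf'f, -⟩ := (Cfsg.Agent.H88.mor_normalizerSystem_iff hE).1 hf
  have hfF : Mor F D f := (hf'.restrict le_sup_left).congr hf'f
  have hDN' : D ≤ normalizerIn S V := by
    intro z hz
    have h1 := hDN hz
    rw [mem_normalizerIn_iff] at h1 ⊢
    exact ⟨(mem_normalizerIn_iff.1 h1.1).1, h1.2⟩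
  have himg' : imgS V f = V := himg
  exact mem_nfoc (F := F) ⟨hVD, hDN', hfF, himg'⟩ hx

/-- Commutators of `S` lie in the focal subgroup of the normalizer system of a subgroup normalized
by `S`. -/
lemma comm_mem_nfoc {F : FusionSystem S} {V : Subgroup Ω} (hV : V ≤ S)
    (hVn : ∀ s ∈ S, ∀ y ∈ V, s * y * s⁻¹ ∈ V) {a b : Ω} (ha : a ∈ S) (hb : b ∈ S) :
    a⁻¹ * (b * a * b⁻¹) ∈ nfoc F V := by
  have hNS : normalizerIn S V = S := by
    apply le_antisymm inf_le_left
    intro s hs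
    refine ⟨hs, mem_normalizer_of_forall_conj_mem (fun y hy => hVn s hs y hy) (fun y hy => ?_)⟩
    have h := hVn s⁻¹ (S.inv_mem hs) y hy
    simpa using h
  have hm : Mor F S (fun x => b * x * b⁻¹) := Mor.conj F le_rfl hb
  have himg : imgS V (fun x => b * x * b⁻¹) = V := by
    rw [Mor.imgS_conj]
    ext y
    constructor
    · rintro ⟨v, hv, rfl⟩
      exact hVn b hb v hv
    · intro hy
      refine ⟨b⁻¹ * y * b, ?_, ?_⟩
      · have := hVn b⁻¹ (S.inv_mem hb) y hy
        simpa using this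
      · show b * (b⁻¹ * y * b) * b⁻¹ = y
        group
  exact mem_nfoc (F := F) (V := V) (D := S) ⟨hV, by rw [hNS], hm, himg⟩ ha

end Cfsg.Agent.H90
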