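import Mathlib
import Cfsg.Prelude.Def_FusionSystem
import Cfsg.Agent.H86.WPlaced
import Cfsg.Agent.H86.GrpLemmas
import Cfsg.Agent.H86.FusExt
import Cfsg.Agent.H88.NormModel
import Cfsg.Agent.H88.NormSat
import Cfsg.Agent.H89.Normalizer
import Cfsg.Agent.H90.Model
import Cfsg.Agent.H90.CTBasic
import Cfsg.Agent.H39.Transfer

set_option autoImplicit false
set_option maxHeartbeats 1600000

/-!
Control of transfer in fusion systems, the model step: for a fully normalized centric subgroup `R`,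
the model of `N_F(R)`, the local hypothesis on `W` and the focal subgroup theorem put the commutators
`[R, Aut_F(R)]` into the focal subgroup of the normalizer system of `W(N_S(R))`.
-/

namespace Cfsg.Agent.H90

open Cfsg Cfsg.FusionSystem Cfsg.Agent.H86
open scoped commutatorElement

universe u

variable {Ω : Type u} [Group Ω] {S : Subgroup Ω}

/-- The local hypothesis of control of transfer. -/
def CTHyp (p : ℕ) [Fact p.Prime] (W : ∀ (Q : Type u) [Group Q], Subgroup Q) : Prop :=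
  ∀ (G : Type u) [Group G] [Finite G] (P : Sylow p G),
    Subgroup.centralizer ((Cfsg.pCore p G : Subgroup G) : Set G) ≤ Cfsg.pCore p G →
    Cfsg.pCore p G ⊓ commutator G = Cfsg.pCore p G ⊓
      (commutator ↥(Subgroup.normalizer (((W ↥(P : Subgroup G)).map (P : Subgroup G).subtype :
        Subgroup G) : Set G))).map
        (Subgroup.normalizer (((W ↥(P : Subgroup G)).map (P : Subgroup G).subtype :
          Subgroup G) : Set G)).subtype

/-- The model step. -/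
theorem comm_mem_nfoc_of_model [Finite S] {p : ℕ} [Fact p.Prime] (hS : IsPGroup p S)
    {W : ∀ (Q : Type u) [Group Q], Subgroup Q}
    (hW2 : ∀ (Q R : Type u) [Group Q] [Group R] [Finite Q], IsPGroup p Q →
      ∀ φ : Q ≃* R, (W Q).map φ.toMonoidHom = W R)
    (hT : CTHyp p W)
    {F : FusionSystem S} (hF : F.IsSaturated p) {R : Subgroup Ω} (hRn : F.IsFullyNormalized R)
    (hRc : F.IsCentric R) :
    ∀ f, Mor F R f → imgS R f = R → ∀ y ∈ R, y⁻¹ * f y ∈ nfoc F (WS W (normalizerIn S R)) := by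
  classical
  have hRS : R ≤ S := hRn.1
  have hP₁S : normalizerIn S R ≤ S := inf_le_left
  have hRP₁ : R ≤ normalizerIn S R := le_normalizerIn hRS
  haveI hfinP₁ : Finite (normalizerIn S R) := finite_of_le hP₁S
  have hP₁p : IsPGroup p (normalizerIn S R) := hS.to_le hP₁S
  have hE : F.IsNormalizerSystem R (Cfsg.Agent.H89.normalizerSystem F R hRS) :=
    Cfsg.Agent.H89.normalizerSystem_isNormalizerSystem F R hRS
  have hEsat := Cfsg.Agent.H88.normalizerSystem_saturated hS hF hRn _ hE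
  have hEn := Cfsg.Agent.H88.normalizerSystem_isNormal hRS hE
  have hEc := Cfsg.Agent.H88.normalizerSystem_isCentric hRc hE
  obtain ⟨G, _, ι, hmodel, hιRn, -⟩ := Cfsg.Agent.H90.exists_model hP₁p hEsat hEn hEc
  obtain ⟨hfinG, ⟨hinj, hreal⟩, ⟨T, hTr⟩, hcen⟩ := hmodel
  -- the isomorphism of `N_S(R)` with the Sylow subgroup
  let e : ↥(normalizerIn S R) ≃* ↥(T : Subgroup G) :=
    (MonoidHom.ofInjective hinj).trans (MulEquiv.subgroupCongr hTr.symm)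
  have he : ∀ z : ↥(normalizerIn S R), ((e z : ↥(T : Subgroup G)) : G) = ι z := fun z => rfl
  have hmemT := fun (y : G) => mem_WS_equiv hW2 hP₁p e (y := y)
  have hWP₁ : WS W (normalizerIn S R) ≤ normalizerIn S R := WS_le W _
  have hP₁NW : normalizerIn S R ≤ normalizerIn S (WS W (normalizerIn S R)) :=
    le_normalizerIn_WS hW2 hP₁p hP₁S
  -- the group hypothesis
  have hgrp := hT G T hcen
  obtain ⟨N, hNdef⟩ : ∃ N : Subgroup G,
      N = Subgroup.normalizer ((WS W (T : Subgroup G) : Subgroup G) : Set G) := ⟨_, rfl⟩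
  have hgrp' : pCore p G ⊓ commutator G = pCore p G ⊓ (commutator ↥N).map N.subtype := by
    rw [hNdef]
    exact hgrp
  have hTp : IsPGroup p (T : Subgroup G) := T.isPGroup'
  haveI : Finite (T : Subgroup G) := inferInstance
  have hTN : (T : Subgroup G) ≤ N := by
    rw [hNdef]
    exact Subgroup.le_normalizer.trans (normalizer_le_normalizer_WS hW2 hTp)
  -- the target subgroup
  obtain ⟨K₁, hK₁⟩ : ∃ K₁ : Subgroup Ω, K₁ = nfoc F (WS W (normalizerIn S R)) := ⟨_, rfl⟩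
  obtain ⟨L₀, hL₀⟩ : ∃ L₀ : Subgroup ↥N,
      L₀ = ((K₁.subgroupOf (normalizerIn S R)).map ι).subgroupOf N := ⟨_, rfl⟩
  -- the focal subgroup theorem in `N`
  have hfocal : ((T.subtype hTN : Sylow p ↥N) : Subgroup ↥N) ⊓ ⁅(⊤ : Subgroup ↥N), ⊤⁆ ≤ L₀ := by
    apply Cfsg.Agent.H39.sylow_inf_commutator_le
    intro x hx u hux
    have hxT : (x : G) ∈ (T : Subgroup G) := Subgroup.mem_subgroupOf.1 hx
    have huxT : (u : G) * (x : G) * (u : G)⁻¹ ∈ (T : Subgroup G) := by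
      have := Subgroup.mem_subgroupOf.1 hux
      simpa using this
    have huN : (u : G) ∈ Subgroup.normalizer ((WS W (T : Subgroup G) : Subgroup G) : Set G) := by
      rw [← hNdef]; exact u.2
    -- the domain of conjugation by `u`
    obtain ⟨D', hD'⟩ : ∃ D' : Subgroup ↥(normalizerIn S R), ∀ s : ↥(normalizerIn S R),
        s ∈ D' ↔ (u : G) * ι s * (u : G)⁻¹ ∈ (T : Subgroup G) :=
      ⟨(T : Subgroup G).comap ((MulAut.conj (u : G)).toMonoidHom.comp ι), fun s => by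
        rw [Subgroup.mem_comap]; rfl⟩
    obtain ⟨D₀, hD₀⟩ : ∃ D₀ : Subgroup Ω, D₀ = D'.map (normalizerIn S R).subtype := ⟨_, rfl⟩
    have hD₀P₁ : D₀ ≤ normalizerIn S R := by
      rw [hD₀]
      rintro _ ⟨s, -, rfl⟩
      exact s.2
    have hD₀mem : ∀ (z : Ω) (hz : z ∈ D₀),
        (u : G) * ι ⟨z, hD₀P₁ hz⟩ * (u : G)⁻¹ ∈ (T : Subgroup G) := by
      intro z hz
      have hz' := hz
      rw [hD₀] at hz'
      obtain ⟨s, hs, hsz⟩ := hz'
      have : (⟨z, hD₀P₁ hz⟩ : ↥(normalizerIn S R)) = s := Subtype.ext hsz.symm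
      rw [this]
      exact (hD' s).1 hs
    have hmemD₀ : ∀ s : ↥(normalizerIn S R), (u : G) * ι s * (u : G)⁻¹ ∈ (T : Subgroup G) →
        (s : Ω) ∈ D₀ := by
      intro s hs
      rw [hD₀]
      exact ⟨s, (hD' s).2 hs, rfl⟩
    have hval : ∀ y : ↥D₀,
        (MulAut.conj (u : G)).toMonoidHom.comp (ι.comp (Subgroup.inclusion hD₀P₁)) y ∈
          (T : Subgroup G) := fun y => hD₀mem y y.2
    let φ : ↥D₀ →* Ω :=
      (normalizerIn S R).subtype.comp (e.symm.toMonoidHom.comp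
        (((MulAut.conj (u : G)).toMonoidHom.comp (ι.comp (Subgroup.inclusion hD₀P₁))).codRestrict
          (T : Subgroup G) hval))
    have hφval : ∀ y : ↥D₀, φ y ∈ normalizerIn S R := fun y =>
      (e.symm ((((MulAut.conj (u : G)).toMonoidHom.comp (ι.comp (Subgroup.inclusion hD₀P₁))).codRestrict
          (T : Subgroup G) hval) y)).2
    have hφι : ∀ y : ↥D₀, ι ⟨φ y, hφval y⟩ = (u : G) * ι ⟨y, hD₀P₁ y.2⟩ * (u : G)⁻¹ := by
      intro y
      have h1 : ι ⟨φ y, hφval y⟩ = ((e ⟨φ y, hφval y⟩ : ↥(T : Subgroup G)) : G) := (he _).symm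
      rw [h1]
      have h2 : (⟨φ y, hφval y⟩ : ↥(normalizerIn S R)) =
          e.symm ((((MulAut.conj (u : G)).toMonoidHom.comp
            (ι.comp (Subgroup.inclusion hD₀P₁))).codRestrict (T : Subgroup G) hval) y) := rfl
      rw [h2, MulEquiv.apply_symm_apply]
      rfl
    have hφE : φ ∈ (Cfsg.Agent.H89.normalizerSystem F R hRS).Hom D₀ :=
      (hreal _ hD₀P₁ φ hφval).2 ⟨(u : G), hφι⟩
    have hφF : φ ∈ F.Hom D₀ := by
      rw [hE] at hφE
      exact hφE.1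
    have hφM : Mor F D₀ (extFun _ φ) := mor_extFun hφF
    -- `W(N_S(R)) ≤ D₀`
    have hVD₀ : WS W (normalizerIn S R) ≤ D₀ := by
      intro v hv
      have h1 : ι ⟨v, hWP₁ hv⟩ ∈ WS W (T : Subgroup G) := (hmemT _).2 ⟨⟨v, hWP₁ hv⟩, hv, rfl⟩
      have h2 : (u : G) * ι ⟨v, hWP₁ hv⟩ * (u : G)⁻¹ ∈ WS W (T : Subgroup G) :=
        (Subgroup.mem_normalizer_iff.1 huN _).1 h1
      exact hmemD₀ ⟨v, hWP₁ hv⟩ (WS_le W _ h2)
    haveI hfinW : Finite (WS W (normalizerIn S R)) := finite_of_le (hWP₁.trans hP₁S)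
    have himg : imgS (WS W (normalizerIn S R)) (extFun _ φ) = WS W (normalizerIn S R) := by
      refine imgS_eq_of_maps (hφM.restrict hVD₀) (fun y hy => ?_)
      rw [extFun_of_mem _ φ (hVD₀ hy)]
      have h1 : ι ⟨y, hWP₁ hy⟩ ∈ WS W (T : Subgroup G) := (hmemT _).2 ⟨⟨y, hWP₁ hy⟩, hy, rfl⟩
      have h2 : (u : G) * ι ⟨y, hWP₁ hy⟩ * (u : G)⁻¹ ∈ WS W (T : Subgroup G) :=
        (Subgroup.mem_normalizer_iff.1 huN _).1 h1
      obtain ⟨z, hz, hze⟩ := (hmemT _).1 h2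
      have h3 : ι ⟨φ ⟨y, hVD₀ hy⟩, hφval ⟨y, hVD₀ hy⟩⟩ = ι z := by
        rw [hφι ⟨y, hVD₀ hy⟩]
        exact hze.symm
      have h4 := hinj h3
      have h5 : φ ⟨y, hVD₀ hy⟩ = (z : Ω) := congrArg Subtype.val h4
      rw [h5]
      exact hz
    have hNM : NMor F (WS W (normalizerIn S R)) D₀ (extFun _ φ) :=
      ⟨hVD₀, hD₀P₁.trans hP₁NW, hφM, himg⟩
    -- the element `x`
    rw [hTr] at hxT
    obtain ⟨a, ha⟩ := hxT
    have haD₀ : (a : Ω) ∈ D₀ := hmemD₀ a (by rw [ha]; exact huxT)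
    have hainv : ((a : Ω))⁻¹ ∈ D₀ := D₀.inv_mem haD₀
    have hk := mem_nfoc hNM hainv
    rw [extFun_of_mem _ φ hainv, inv_inv] at hk
    rw [hL₀, Subgroup.mem_subgroupOf]
    have hkP₁ : (a : Ω) * φ ⟨(a : Ω)⁻¹, hainv⟩ ∈ normalizerIn S R :=
      (normalizerIn S R).mul_mem a.2 (hφval _)
    refine ⟨⟨(a : Ω) * φ ⟨(a : Ω)⁻¹, hainv⟩, hkP₁⟩, ?_, ?_⟩
    · rw [SetLike.mem_coe, Subgroup.mem_subgroupOf, hK₁]
      exact hk
    · have h1 : (⟨(a : Ω) * φ ⟨(a : Ω)⁻¹, hainv⟩, hkP₁⟩ : ↥(normalizerIn S R)) =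
          a * ⟨φ ⟨(a : Ω)⁻¹, hainv⟩, hφval _⟩ := rfl
      rw [h1, map_mul, hφι ⟨(a : Ω)⁻¹, hainv⟩]
      have h2 : (⟨((a : Ω))⁻¹, hD₀P₁ hainv⟩ : ↥(normalizerIn S R)) = a⁻¹ := rfl
      rw [h2, map_inv, ha]
      show (x : G) * ((u : G) * (x : G)⁻¹ * (u : G)⁻¹) = ((⁅x, u⁆ : ↥N) : G)
      rw [commutatorElement_def]
      simp [mul_assoc]
  -- conclusion
  intro f hf himg y hy
  have hfE : Mor (Cfsg.Agent.H89.normalizerSystem F R hRS) R f := by
    rw [Cfsg.Agent.H88.mor_normalizerSystem_iff hE]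
    refine ⟨hRP₁, fun z hz => hRP₁ ?_, f, ?_, fun _ _ => rfl, himg⟩
    · have := hf.mem_imgS_of_mem hz
      rwa [himg] at this
    · rw [sup_idem]
      exact hf
  obtain ⟨φ', hφ', hφ'f⟩ := hfE
  have hφ'val : ∀ z : R, φ' z ∈ normalizerIn S R :=
    ((Cfsg.Agent.H89.normalizerSystem F R hRS).le_of_mem hφ').2
  obtain ⟨g, hg⟩ := (hreal R hRP₁ φ' hφ'val).1 hφ'
  have hfyR : f y ∈ R := by
    have := hf.mem_imgS_of_mem hy
    rwa [himg] at this
  have hwR : y⁻¹ * f y ∈ R := R.mul_mem (R.inv_mem hy) hfyR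
  have hwP₁ : y⁻¹ * f y ∈ normalizerIn S R := hRP₁ hwR
  have h1 := hg ⟨y, hy⟩
  have hφ'y : φ' ⟨y, hy⟩ = f y := hφ'f ⟨y, hy⟩
  have hw : ι ⟨y⁻¹ * f y, hwP₁⟩ = (ι ⟨y, hRP₁ hy⟩)⁻¹ * (g * ι ⟨y, hRP₁ hy⟩ * g⁻¹) := by
    have h2 : (⟨y⁻¹ * f y, hwP₁⟩ : ↥(normalizerIn S R)) =
        (⟨y, hRP₁ hy⟩ : ↥(normalizerIn S R))⁻¹ * ⟨φ' ⟨y, hy⟩, hφ'val ⟨y, hy⟩⟩ :=
      Subtype.ext (by simp [hφ'y])
    rw [h2, map_mul, map_inv, h1]
  -- in the commutator subgroup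
  have hwcomm : ι ⟨y⁻¹ * f y, hwP₁⟩ ∈ commutator G := by
    rw [hw, commutator_def]
    have h3 : (ι ⟨y, hRP₁ hy⟩)⁻¹ * (g * ι ⟨y, hRP₁ hy⟩ * g⁻¹) = ⁅(ι ⟨y, hRP₁ hy⟩)⁻¹, g⁆ := by
      rw [commutatorElement_def]; group
    rw [h3]
    exact Subgroup.commutator_mem_commutator (Subgroup.mem_top _) (Subgroup.mem_top _)
  -- in `O_p(G)`
  have hwcore : ι ⟨y⁻¹ * f y, hwP₁⟩ ∈ pCore p G := by
    have hp : IsPGroup p ((R.subgroupOf (normalizerIn S R)).map ι) :=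
      (hP₁p.to_subgroup (R.subgroupOf (normalizerIn S R))).map ι
    refine le_pCore hιRn hp ?_
    exact ⟨⟨y⁻¹ * f y, hwP₁⟩, Subgroup.mem_subgroupOf.2 hwR, rfl⟩
  have hwN : ι ⟨y⁻¹ * f y, hwP₁⟩ ∈ (commutator ↥N).map N.subtype := by
    have : ι ⟨y⁻¹ * f y, hwP₁⟩ ∈ pCore p G ⊓ commutator G := ⟨hwcore, hwcomm⟩
    rw [hgrp'] at this
    exact this.2
  obtain ⟨c, hc, hcw⟩ := hwN
  have hcT : c ∈ ((T.subtype hTN : Sylow p ↥N) : Subgroup ↥N) := by
    rw [Sylow.coe_subtype, Subgroup.mem_subgroupOf]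
    have : ((c : ↥N) : G) = ι ⟨y⁻¹ * f y, hwP₁⟩ := hcw
    rw [this, hTr]
    exact ⟨_, rfl⟩
  have hcL : c ∈ L₀ := hfocal ⟨hcT, by rw [← commutator_def]; exact hc⟩
  rw [hL₀, Subgroup.mem_subgroupOf] at hcL
  obtain ⟨k, hk, hkc⟩ := hcL
  have hkw : ι k = ι ⟨y⁻¹ * f y, hwP₁⟩ := hkc.trans hcw
  have h5 := hinj hkw
  have h6 : (k : Ω) = y⁻¹ * f y := congrArg Subtype.val h5
  rw [← h6, ← hK₁]
  exact Subgroup.mem_subgroupOf.1 hk

end Cfsg.Agent.H90
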