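import Mathlib
import Cfsg.Prelude.Def_FusionSystem
import Cfsg.Agent.H86.MaxClassEss
import Cfsg.Agent.H86.FusExt
import Cfsg.Agent.H86.FusNormal
import Cfsg.Agent.H87.CharTransfer
import Cfsg.Agent.H88.FactorSat
import Cfsg.Agent.H89.Series
import Cfsg.Agent.H90.CTModel

set_option autoImplicit false
set_option maxHeartbeats 1600000

/-!
Control of transfer in fusion systems, normal subgroups: the part of the focal subgroup inside a
subgroup normal in the system.
-/

namespace Cfsg.Agent.H90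

open Cfsg Cfsg.FusionSystem Cfsg.Agent.H86 Cfsg.Agent.H88
open scoped commutatorElement

universe u

variable {Ω : Type u} [Group Ω] {S : Subgroup Ω}

/-- For a subgroup `Q` normal in `S`, the commutators `[Q, Aut_F(Q)]` lie in the focal subgroup of the
normalizer system of `W(S)`. -/
theorem comm_mem_nfoc_of_normal [Finite S] {p : ℕ} [Fact p.Prime] (hS : IsPGroup p S)
    {W : ∀ (Q : Type u) [Group Q], Subgroup Q}
    (hW2 : ∀ (Q R : Type u) [Group Q] [Group R] [Finite Q], IsPGroup p Q →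
      ∀ φ : Q ≃* R, (W Q).map φ.toMonoidHom = W R)
    (hT : CTHyp p W)
    {F : FusionSystem S} (hF : F.IsSaturated p) {U : Subgroup Ω} (hUS : U ≤ S)
    (hUn : ∀ s ∈ S, ∀ y ∈ U, s * y * s⁻¹ ∈ U) :
    ∀ f, Mor F U f → imgS U f = U → ∀ y ∈ U, y⁻¹ * f y ∈ nfoc F (WS W S) := by
  intro f hf himg y hyU
  have hCS : centralizerIn S U ≤ S := inf_le_left
  have hDS : U ⊔ centralizerIn S U ≤ S := sup_le hUS hCS
  have hCn : ∀ s ∈ S, ∀ c ∈ centralizerIn S U, s * c * s⁻¹ ∈ centralizerIn S U := by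
    intro s hs c hc
    obtain ⟨hcS, hcU⟩ := mem_centralizerIn_iff.1 hc
    rw [mem_centralizerIn_iff]
    refine ⟨S.mul_mem (S.mul_mem hs hcS) (S.inv_mem hs), fun u hu => ?_⟩
    have h1 : s⁻¹ * u * s ∈ U := by
      have := hUn s⁻¹ (S.inv_mem hs) u hu
      simpa using this
    have h2 := hcU _ h1
    calc u * (s * c * s⁻¹) = s * ((s⁻¹ * u * s) * c) * s⁻¹ := by group
      _ = s * (c * (s⁻¹ * u * s)) * s⁻¹ := by rw [h2]
      _ = s * c * s⁻¹ * u := by group
  have hDn : ∀ s ∈ S, ∀ y ∈ U ⊔ centralizerIn S U, s * y * s⁻¹ ∈ U ⊔ centralizerIn S U := by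
    intro s hs y hy
    have h1 : (MulAut.conj s).toMonoidHom y ∈ (U ⊔ centralizerIn S U).map (MulAut.conj s).toMonoidHom :=
      Subgroup.mem_map_of_mem _ hy
    rw [Subgroup.map_sup] at h1
    have h2 : U.map (MulAut.conj s).toMonoidHom ⊔ (centralizerIn S U).map (MulAut.conj s).toMonoidHom ≤
        U ⊔ centralizerIn S U := by
      refine sup_le_sup ?_ ?_
      · rintro _ ⟨u, hu, rfl⟩
        exact hUn s hs u hu
      · rintro _ ⟨c, hc, rfl⟩
        exact hCn s hs c hc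
    exact h2 h1
  have hDfn : F.IsFullyNormalized (U ⊔ centralizerIn S U) := fullyNormalized_of_normal F hDS hDn
  have hDr : F.IsReceptive (U ⊔ centralizerIn S U) :=
    saturated_receptive_of_fullyCentralized hS hF (saturated_fullyNormalized hS hF hDfn).1
  have hDc : F.IsCentric (U ⊔ centralizerIn S U) := by
    refine centric_of_receptive hDr ?_
    intro c hc
    obtain ⟨hcS, hcD⟩ := mem_centralizerIn_iff.1 hc
    refine Subgroup.mem_sup_right ?_
    rw [mem_centralizerIn_iff]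
    exact ⟨hcS, fun u hu => hcD u (Subgroup.mem_sup_left hu)⟩
  have hND : normalizerIn S (U ⊔ centralizerIn S U) = S := by
    apply le_antisymm inf_le_left
    intro s hs
    refine ⟨hs, mem_normalizer_of_forall_conj_mem (fun y hy => hDn s hs y hy) (fun y hy => ?_)⟩
    have h := hDn s⁻¹ (S.inv_mem hs) y hy
    simpa using h
  have hUfn : F.IsFullyNormalized U := fullyNormalized_of_normal F hUS hUn
  have hUr : F.IsReceptive U :=
    saturated_receptive_of_fullyCentralized hS hF (saturated_fullyNormalized hS hF hUfn).1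
  obtain ⟨f', hf', hf'f⟩ := receptive_extend' hUr hf himg
  have hDle : U ⊔ centralizerIn S U ≤ extSub S U f := sup_le (le_extSub hf) (centralizerIn_le_extSub hf)
  have hf'D : Mor F (U ⊔ centralizerIn S U) f' := hf'.restrict hDle
  have hf'U : Mor F U f' := hf'D.restrict le_sup_left
  have himgU : imgS U f' = U := (Mor.imgS_congr hf'U hf'f).trans himg
  have hf'C : Mor F (centralizerIn S U) f' := hf'D.restrict le_sup_right
  have himgC : imgS (centralizerIn S U) f' ≤ centralizerIn S U := by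
    intro y hy
    obtain ⟨c, hc, rfl⟩ := hf'C.mem_imgS.1 hy
    obtain ⟨hcS, hcU⟩ := mem_centralizerIn_iff.1 hc
    rw [mem_centralizerIn_iff]
    refine ⟨hf'C.mem hc, fun u hu => ?_⟩
    rw [← himgU] at hu
    obtain ⟨u₀, hu₀, rfl⟩ := hf'U.mem_imgS.1 hu
    rw [← hf'D.map_mul (Subgroup.mem_sup_left hu₀) (Subgroup.mem_sup_right hc),
      ← hf'D.map_mul (Subgroup.mem_sup_right hc) (Subgroup.mem_sup_left hu₀), hcU u₀ hu₀]
  haveI : Finite (U ⊔ centralizerIn S U : Subgroup Ω) := finite_of_le hDS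
  have himgD : imgS (U ⊔ centralizerIn S U) f' = U ⊔ centralizerIn S U := by
    refine imgS_eq_of_maps hf'D (fun y hy => ?_)
    have h1 := hf'D.mem_imgS_of_mem hy
    rw [hf'D.imgS_sup, himgU] at h1
    exact (sup_le_sup le_rfl himgC) h1
  have key := comm_mem_nfoc_of_model hS hW2 hT hF hDfn hDc f' hf'D himgD y (Subgroup.mem_sup_left hyU)
  rw [hND, hf'f y hyU] at key
  exact key

/-- The image of the focal subgroup in a factor system lies in the focal subgroup. -/
theorem tot_mem_focal [Finite S] {p : ℕ} [Fact p.Prime] (hS : IsPGroup p S) {F : FusionSystem S}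
    (hF : F.IsSaturated p) {T : Subgroup Ω} (hT : F.StronglyClosed T)
    {Ω' : Type*} [Group Ω'] {S' : Subgroup Ω'} {θ : S →* Ω'} {E : FusionSystem S'}
    (hE : F.IsFactorSystem T θ E) :
    ∀ z ∈ F.focalSubgroup, z ∈ S ∧ tot θ z ∈ E.focalSubgroup := by
  intro z hz
  unfold focalSubgroup at hz
  induction hz using Subgroup.closure_induction with
  | mem z hz =>
    obtain ⟨P, φ, x, hφ, rfl⟩ := hz
    have hf : Mor F P (extFun P φ) := mor_extFun hφ
    have hxS : (x : Ω) ∈ S := hf.le x.2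
    have hfxS : φ x ∈ S := by
      have := hf.mem x.2
      rwa [extFun_apply] at this
    refine ⟨S.mul_mem (S.inv_mem hxS) hfxS, ?_⟩
    obtain ⟨f', hf', H⟩ := factor_induced_any hS hF hT hE hf
    rw [tot_mul θ (S.inv_mem hxS) hfxS, tot_inv θ hxS]
    have h1 := H x x.2
    rw [extFun_apply] at h1
    rw [← h1]
    exact focal_mem hf' (tot_mem_imageAlong hf.le x.2)
  | one => exact ⟨S.one_mem, by rw [tot_one]; exact Subgroup.one_mem _⟩
  | mul a b _ _ ha hb =>
    exact ⟨S.mul_mem ha.1 hb.1, by rw [tot_mul θ ha.1 hb.1]; exact Subgroup.mul_mem _ ha.2 hb.2⟩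
  | inv a _ ha =>
    exact ⟨S.inv_mem ha.1, by rw [tot_inv θ ha.1]; exact Subgroup.inv_mem _ ha.2⟩

/-- **Transfer into a normal subgroup.** If `Q` is normal in the saturated system `F` and `K ≥ [S, S]`
contains the commutators `[Q, Aut_F(Q)]`, then `K` contains the part of the focal subgroup inside `Q`. -/
theorem normal_inf_focal_le [Finite S] {p : ℕ} [Fact p.Prime] (hS : IsPGroup p S)
    {F : FusionSystem S} (hF : F.IsSaturated p) {Q : Subgroup Ω} (hQ : F.IsNormal Q)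
    {K : Subgroup Ω} (hKS : K ≤ S) (hcomm : ∀ a ∈ S, ∀ b ∈ S, a⁻¹ * (b * a * b⁻¹) ∈ K)
    (hQK : ∀ f, Mor F Q f → imgS Q f = Q → ∀ y ∈ Q, y⁻¹ * f y ∈ K) :
    ∀ z ∈ Q, z ∈ F.focalSubgroup → z ∈ K := by
  classical
  have hQS : Q ≤ S := hQ.1
  have hQn := isNormal_iff.1 hQ
  -- maps defined inside `Q`
  have hmove : ∀ (R : Subgroup Ω) (f : Ω → Ω), R ≤ Q → Mor F R f → ∀ x ∈ R,
      f x ∈ Q ∧ x⁻¹ * f x ∈ K := by
    intro R f hR hf x hx
    obtain ⟨f', hf', hf'f, himg⟩ := hQn.2 R f hf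
    have hf'Q : Mor F Q f' := hf'.restrict le_sup_right
    have h1 : f' x ∈ Q := by
      have := hf'Q.mem_imgS_of_mem (hR hx)
      rwa [himg] at this
    have h2 := hQK f' hf'Q himg x (hR hx)
    rw [hf'f x hx] at h1 h2
    exact ⟨h1, h2⟩
  -- `Q ⊓ K` is strongly closed
  have hcl : F.StronglyClosed (Q ⊓ K) := by
    rw [stronglyClosed_iff]
    refine ⟨inf_le_left.trans hQS, fun R f hR hf x hx => ?_⟩
    obtain ⟨h1, h2⟩ := hmove R f (hR.trans inf_le_left) hf x hx
    refine ⟨h1, ?_⟩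
    have h3 := K.mul_mem (hR hx).2 h2
    rwa [mul_inv_cancel_left] at h3
  haveI hnorm : ((Q ⊓ K).subgroupOf S).Normal := by
    refine ⟨fun n hn g => ?_⟩
    rw [Subgroup.mem_subgroupOf] at hn ⊢
    exact Cfsg.Agent.H89.stronglyClosed_conj_mem hcl g.2 hn
  obtain ⟨E, hE⟩ := exists_factorSystem F (Q ⊓ K) hcl
  have hEsat : E.IsSaturated p := factor_saturated hS hF hcl hE
  have hS'p : IsPGroup p (⊤ : Subgroup (S ⧸ (Q ⊓ K).subgroupOf S)) :=
    (hS.to_quotient _).to_subgroup ⊤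
  haveI : Finite (⊤ : Subgroup (S ⧸ (Q ⊓ K).subgroupOf S)) := inferInstance
  -- the image of `Q` is central
  have hcent : E.IsCentral (imageAlong (QuotientGroup.mk' ((Q ⊓ K).subgroupOf S)) Q) := by
    rw [isCentral_iff_conjElt hS'p hEsat]
    refine ⟨imageAlong_le hE Q, fun x hx y hxy => ?_⟩
    obtain ⟨q, hq, rfl⟩ := (mem_imageAlong_iff hQS).1 hx
    obtain ⟨f', hf', rfl⟩ := isConjElt_iff.1 hxy
    obtain ⟨f, hf, H⟩ := factor_lift hE hf'
    have hqpre : q ∈ preimageAlong (QuotientGroup.mk' ((Q ⊓ K).subgroupOf S))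
        (Subgroup.zpowers (tot (QuotientGroup.mk' ((Q ⊓ K).subgroupOf S)) q)) :=
      mem_preimageAlong_iff.2 ⟨hQS hq, Subgroup.mem_zpowers _⟩
    rw [H q hqpre]
    have hzle : Subgroup.zpowers q ≤ preimageAlong (QuotientGroup.mk' ((Q ⊓ K).subgroupOf S))
        (Subgroup.zpowers (tot (QuotientGroup.mk' ((Q ⊓ K).subgroupOf S)) q)) := by
      rw [Subgroup.zpowers_le]; exact hqpre
    have hzQ : Subgroup.zpowers q ≤ Q := by
      rw [Subgroup.zpowers_le]; exact hq
    obtain ⟨h1, h2⟩ := hmove _ f hzQ (hf.restrict hzle) q (Subgroup.mem_zpowers q)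
    exact ((tot_eq_iff hE (hQS hq) (hQS h1)).2 ⟨Q.mul_mem (Q.inv_mem hq) h1, h2⟩).symm
  -- the transfer
  intro z hzQ hzf
  have hzS : z ∈ S := hQS hzQ
  have h1 := (tot_mem_focal hS hF hcl hE z hzf).2
  have h2 : tot (QuotientGroup.mk' ((Q ⊓ K).subgroupOf S)) z ∈ E.center :=
    (le_sSup hcent : _ ≤ E.center) (tot_mem_imageAlong hQS hzQ)
  have h3 := Cfsg.Agent.H87.focal_inf_center_le hS'p hEsat h1 h2
  -- commutators of the quotient come from `K`
  have hle : ⁅(⊤ : Subgroup (S ⧸ (Q ⊓ K).subgroupOf S)), ⊤⁆ ≤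
      (K.subgroupOf S).map (QuotientGroup.mk' ((Q ⊓ K).subgroupOf S)) := by
    rw [Subgroup.commutator_le]
    intro a _ b _
    obtain ⟨a₀, rfl⟩ := QuotientGroup.mk'_surjective _ a
    obtain ⟨b₀, rfl⟩ := QuotientGroup.mk'_surjective _ b
    refine ⟨⁅a₀, b₀⁆, ?_, by rw [map_commutatorElement]⟩
    rw [SetLike.mem_coe, Subgroup.mem_subgroupOf]
    have h := hcomm (a₀⁻¹ : S) (S.inv_mem a₀.2) b₀ b₀.2
    have e : ((⁅a₀, b₀⁆ : S) : Ω) = ((a₀⁻¹ : S) : Ω)⁻¹ * ((b₀ : Ω) * ((a₀⁻¹ : S) : Ω) * (b₀ : Ω)⁻¹) := by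
      rw [commutatorElement_def]
      simp [mul_assoc]
    rw [e]
    exact h
  obtain ⟨k, hk, hkz⟩ := hle h3
  rw [SetLike.mem_coe, Subgroup.mem_subgroupOf] at hk
  have h4 : tot (QuotientGroup.mk' ((Q ⊓ K).subgroupOf S)) (k : Ω) =
      tot (QuotientGroup.mk' ((Q ⊓ K).subgroupOf S)) z := by
    rw [tot_coe]; exact hkz
  have h5 := ((tot_eq_iff hE k.2 hzS).1 h4).2
  have h6 := K.mul_mem hk h5
  rwa [mul_inv_cancel_left] at h6

end Cfsg.Agent.H90
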