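import Cfsg.Agent.H86.FusChain
import Cfsg.Agent.H87.CentricExt
import Cfsg.Agent.H88.Basic

set_option autoImplicit false
set_option maxHeartbeats 2000000

/-!
A saturated subsystem, over a strongly closed subgroup, of a constrained fusion system is constrained.
-/

namespace Cfsg.Agent.H90

open Cfsg Cfsg.FusionSystem Cfsg.Agent.H86
open scoped commutatorElement

variable {Ω : Type*} [Group Ω] {S : Subgroup Ω}

lemma stronglyClosed_inf {F : FusionSystem S} {A B : Subgroup Ω} (hA : F.StronglyClosed A)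
    (hB : F.StronglyClosed B) : F.StronglyClosed (A ⊓ B) := by
  rw [stronglyClosed_iff] at hA hB ⊢
  exact ⟨inf_le_left.trans hA.1, fun P f hP hf x hx =>
    ⟨hA.2 P f (hP.trans inf_le_left) hf x hx, hB.2 P f (hP.trans inf_le_right) hf x hx⟩⟩

theorem constrained_of_subsystem [Finite S] {p : ℕ} [Fact p.Prime] (hS : IsPGroup p S)
    {F : FusionSystem S} (hF : F.IsConstrained p) {T : Subgroup Ω} (E : FusionSystem T)
    (hEsat : E.IsSaturated p) (hEF : E.IsSubsystemOf F) (hT : F.StronglyClosed T) :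
    E.IsConstrained p := by
  obtain ⟨hFsat, Q₀, hQ₀n, hQ₀c⟩ := hF
  have hQn : F.IsNormal F.core := H88.isNormal_core F
  have hQ₀Q : Q₀ ≤ F.core := le_sSup hQ₀n
  have hcore : ∀ C : Subgroup Ω, F.IsNormal C → C ≤ F.core := fun C hC => le_sSup hC
  generalize F.core = Q at hQn hQ₀Q hcore
  have hQS : Q ≤ S := hQn.1
  have hQc : F.IsCentric Q := H87.isCentric_of_le hQ₀c hQ₀Q hQS
  have hQC : centralizerIn S Q ≤ Q := H87.isCentric_self_le hQc
  have hTS : T ≤ S := hT.1
  haveI : Finite T := finite_of_le hTS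
  have hTp : IsPGroup p T := hS.to_le hTS
  haveI : Finite Q := finite_of_le hQS
  have hQp : IsPGroup p Q := hS.to_le hQS
  have hQsc := IsNormal.stronglyClosed hQn
  have hRsc : F.StronglyClosed (Q ⊓ T) := stronglyClosed_inf hQsc hT
  have hRS : Q ⊓ T ≤ S := inf_le_left.trans hQS
  haveI : Finite (Q ⊓ T : Subgroup Ω) := finite_of_le hRS
  have hEF' : ∀ (P : Subgroup Ω) (f : Ω → Ω), Mor E P f → Mor F P f := by
    rintro P f ⟨φ, hφ, hφf⟩
    exact ⟨φ, hEF P hφ, hφf⟩
  have hEsc : ∀ A : Subgroup Ω, F.StronglyClosed A → A ≤ T → E.StronglyClosed A := by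
    intro A hA hAT
    rw [stronglyClosed_iff] at hA ⊢
    exact ⟨hAT, fun P f hP hf x hx => hA.2 P f hP (hEF' P f hf) x hx⟩
  -- (i) `Q ⊓ T` is normal in `E`
  have hRnE : E.IsNormal (Q ⊓ T) := by
    haveI : Group.IsNilpotent Q := hQp.isNilpotent
    obtain ⟨n, hn⟩ := Group.IsNilpotent.nilpotent (G := Q)
    have htop : (⊤ : Subgroup Q).map Q.subtype = Q := by
      rw [← MonoidHom.range_eq_map, Subgroup.range_subtype]
    have hZsc : ∀ j, F.StronglyClosed ((Subgroup.upperCentralSeries Q j).map Q.subtype) := by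
      intro j
      apply IsNormal.stronglyClosed
      refine isNormal_of_characteristic hQn (Subgroup.map_subtype_le _) ?_
      have : ((Subgroup.upperCentralSeries Q j).map Q.subtype).subgroupOf Q = Subgroup.upperCentralSeries Q j :=
        Subgroup.comap_map_eq_self_of_injective Subtype.coe_injective _
      rw [this]
      infer_instance
    refine isNormal_of_chain hTp hEsat (hEsc _ hRsc inf_le_right)
      (fun j => (Subgroup.upperCentralSeries Q j).map Q.subtype ⊓ T) n ?_ ?_ ?_ ?_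
    · simp
    · exact fun a b hab => inf_le_inf_right T (Subgroup.map_mono (Subgroup.upperCentralSeries_mono Q hab))
    · show (Subgroup.upperCentralSeries Q n).map Q.subtype ⊓ T = Q ⊓ T
      rw [hn, htop]
    · intro j _
      refine ⟨hEsc _ (stronglyClosed_inf (hZsc (j + 1)) hT) inf_le_right, ?_⟩
      rw [Subgroup.commutator_le]
      intro g₁ hg₁ g₂ hg₂
      refine ⟨?_, T.mul_mem (T.mul_mem (T.mul_mem hg₁.2 hg₂.2) (T.inv_mem hg₁.2)) (T.inv_mem hg₂.2)⟩
      obtain ⟨z, hz, rfl⟩ := Subgroup.mem_map.1 hg₂.1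
      have h1 := Subgroup.mem_upperCentralSeries_succ_iff.1 hz ⟨g₁, hg₁.1⟩
      have h2 : (⟨g₁, hg₁.1⟩ : Q) * z * (⟨g₁, hg₁.1⟩ : Q)⁻¹ * z⁻¹ ∈ Subgroup.upperCentralSeries Q j := by
        have := inv_mem h1
        convert this using 1
        group
      exact Subgroup.mem_map.2 ⟨_, h2, rfl⟩
  -- (ii) `C_T(Q ⊓ T) ≤ Q ⊓ T`
  have hCle : centralizerIn T (Q ⊓ T) ≤ Q ⊓ T := by
    have hCT : centralizerIn T (Q ⊓ T) ≤ T := inf_le_left
    have hCS : centralizerIn T (Q ⊓ T) ≤ S := hCT.trans hTS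
    have hCsc : F.StronglyClosed (centralizerIn T (Q ⊓ T)) := by
      rw [stronglyClosed_iff]
      refine ⟨hCS, fun P f hP hf x hx => ?_⟩
      obtain ⟨f', hf', hf'f, hf'Q⟩ := (isNormal_iff.1 hQn).2 P f hf
      have hf'R : Mor F (Q ⊓ T) f' := hf'.restrict (inf_le_left.trans le_sup_right)
      have himgR : imgS (Q ⊓ T) f' = Q ⊓ T :=
        imgS_eq_of_maps hf'R (fun y hy => (stronglyClosed_iff.1 hRsc).2 _ f' le_rfl hf'R y hy)
      rw [mem_centralizerIn_iff]
      refine ⟨(stronglyClosed_iff.1 hT).2 P f (hP.trans hCT) hf x hx, fun r hr => ?_⟩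
      rw [← himgR] at hr
      obtain ⟨r₀, hr₀, rfl⟩ := hf'R.mem_imgS.1 hr
      have hxP : x ∈ P ⊔ Q := Subgroup.mem_sup_left hx
      have hr₀P : r₀ ∈ P ⊔ Q := Subgroup.mem_sup_right hr₀.1
      rw [← hf'f x hx, ← hf'.map_mul hr₀P hxP, ← hf'.map_mul hxP hr₀P,
        (mem_centralizerIn_iff.1 (hP hx)).2 r₀ hr₀]
    have hcomm : ∀ c ∈ centralizerIn T (Q ⊓ T), ∀ r ∈ Q ⊓ T, c * r = r * c :=
      fun c hc r hr => ((mem_centralizerIn_iff.1 hc).2 r hr).symm
    -- commutators `[c, q]` lie in `Q ⊓ T` and centralize it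
    have hε : ∀ c ∈ centralizerIn T (Q ⊓ T), ∀ q ∈ Q, c * q * c⁻¹ * q⁻¹ ∈ Q ⊓ T := by
      intro c hc q hq
      refine ⟨Q.mul_mem (stronglyClosed_conj_mem hQsc (hCS hc) hq) (Q.inv_mem hq), ?_⟩
      have h1 : q * c⁻¹ * q⁻¹ ∈ T := stronglyClosed_conj_mem hT (hQS hq) (T.inv_mem (hCT hc))
      have h2 : c * q * c⁻¹ * q⁻¹ = c * (q * c⁻¹ * q⁻¹) := by group
      rw [h2]
      exact T.mul_mem (hCT hc) h1
    have hε2 : ∀ c ∈ centralizerIn T (Q ⊓ T), ∀ q ∈ Q, ∀ r ∈ Q ⊓ T,
        (c * q * c⁻¹ * q⁻¹) * r = r * (c * q * c⁻¹ * q⁻¹) := by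
      intro c hc q hq r hr
      have hr' : q⁻¹ * r * q ∈ Q ⊓ T := by
        have := stronglyClosed_conj_mem hRsc (S.inv_mem (hQS hq)) hr
        rwa [inv_inv] at this
      have h1 := hcomm c hc _ hr'
      have h2 := hcomm c hc r hr
      have h3 : c * (q⁻¹ * r * q) * c⁻¹ = q⁻¹ * r * q := by rw [h1]; group
      have h4 : c * r * c⁻¹ = r := by rw [h2]; group
      calc (c * q * c⁻¹ * q⁻¹) * r = c * q * (c⁻¹ * (q⁻¹ * r * q) * c) * q⁻¹ * c⁻¹ * (c * q * c⁻¹ * q⁻¹) := by group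
        _ = c * q * (q⁻¹ * r * q) * q⁻¹ * c⁻¹ * (c * q * c⁻¹ * q⁻¹) := by
            have h5 : c⁻¹ * (q⁻¹ * r * q) * c = q⁻¹ * r * q := by
              calc c⁻¹ * (q⁻¹ * r * q) * c = c⁻¹ * (c * (q⁻¹ * r * q) * c⁻¹) * c := by rw [h3]
                _ = q⁻¹ * r * q := by group
            rw [h5]
        _ = (c * r * c⁻¹) * (c * q * c⁻¹ * q⁻¹) := by group
        _ = r * (c * q * c⁻¹ * q⁻¹) := by rw [h4]
    have hcc : ∀ c ∈ centralizerIn T (Q ⊓ T), ∀ c' ∈ centralizerIn T (Q ⊓ T), ∀ q ∈ Q,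
        c * (c' * q * c'⁻¹) * c⁻¹ = c' * (c * q * c⁻¹) * c'⁻¹ := by
      intro c hc c' hc' q hq
      have e1 := hε c hc q hq
      have e2 := hε c' hc' q hq
      have a1 : c * (c' * q * c'⁻¹ * q⁻¹) * c⁻¹ = c' * q * c'⁻¹ * q⁻¹ := by rw [hcomm c hc _ e2]; group
      have a2 : c' * (c * q * c⁻¹ * q⁻¹) * c'⁻¹ = c * q * c⁻¹ * q⁻¹ := by rw [hcomm c' hc' _ e1]; group
      have a3 := hε2 c hc q hq _ e2
      calc c * (c' * q * c'⁻¹) * c⁻¹ = (c * (c' * q * c'⁻¹ * q⁻¹) * c⁻¹) * (c * q * c⁻¹ * q⁻¹) * q := by group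
        _ = (c' * q * c'⁻¹ * q⁻¹) * (c * q * c⁻¹ * q⁻¹) * q := by rw [a1]
        _ = (c * q * c⁻¹ * q⁻¹) * (c' * q * c'⁻¹ * q⁻¹) * q := by rw [a3]
        _ = (c' * (c * q * c⁻¹ * q⁻¹) * c'⁻¹) * (c' * q * c'⁻¹ * q⁻¹) * q := by rw [a2]
        _ = c' * (c * q * c⁻¹) * c'⁻¹ := by group
    have hCn : F.IsNormal (centralizerIn T (Q ⊓ T)) := by
      refine isNormal_of_chain hS hFsat hCsc
        (fun j => if j = 0 then ⊥ else if j = 1 then centralizerIn T (Q ⊓ T) ⊓ (Q ⊓ T)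
          else centralizerIn T (Q ⊓ T)) 2 (by simp) ?_ (by simp) ?_
      · intro a b hab
        show (if a = 0 then (⊥ : Subgroup Ω) else if a = 1 then centralizerIn T (Q ⊓ T) ⊓ (Q ⊓ T)
            else centralizerIn T (Q ⊓ T)) ≤ (if b = 0 then (⊥ : Subgroup Ω) else if b = 1 then
            centralizerIn T (Q ⊓ T) ⊓ (Q ⊓ T) else centralizerIn T (Q ⊓ T))
        by_cases ha0 : a = 0
        · rw [if_pos ha0]; exact bot_le
        · have hb0 : b ≠ 0 := by omega
          rw [if_neg ha0, if_neg hb0]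
          by_cases ha1 : a = 1
          · rw [if_pos ha1]
            by_cases hb1 : b = 1
            · rw [if_pos hb1]
            · rw [if_neg hb1]; exact inf_le_left
          · have hb1 : b ≠ 1 := by omega
            rw [if_neg ha1, if_neg hb1]
      · intro j hj
        have hj' : j = 0 ∨ j = 1 := by omega
        rcases hj' with rfl | rfl
        · refine ⟨by simpa using stronglyClosed_inf hCsc hRsc, ?_⟩
          simp only [zero_add, one_ne_zero, if_false, if_true]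
          rw [Subgroup.commutator_le]
          intro c hc z hz
          rw [Subgroup.mem_bot, commutatorElement_eq_one_iff_mul_comm]
          exact hcomm c hc z hz.2
        · refine ⟨by simpa using hCsc, ?_⟩
          simp only [Nat.reduceAdd, OfNat.ofNat_ne_zero, OfNat.ofNat_ne_one, one_ne_zero, if_false, if_true]
          rw [Subgroup.commutator_le]
          intro c hc c' hc'
          have hmem : ⁅c, c'⁆ ∈ centralizerIn T (Q ⊓ T) :=
            Subgroup.commutator_mem_commutator hc hc' |> fun h =>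
              (Subgroup.commutator_le.2 (fun a ha b hb => by
                rw [commutatorElement_def]
                exact mul_mem (mul_mem (mul_mem ha hb) (inv_mem ha)) (inv_mem hb)) : 
                ⁅centralizerIn T (Q ⊓ T), centralizerIn T (Q ⊓ T)⁆ ≤ centralizerIn T (Q ⊓ T)) h
          refine ⟨hmem, ?_, hCT hmem⟩
          apply hQC
          rw [mem_centralizerIn_iff]
          refine ⟨hCS hmem, fun q hq => ?_⟩
          -- q₁ = c⁻¹ c'⁻¹ q c' c
          have hq1 : c⁻¹ * (c'⁻¹ * q * c') * c ∈ Q := by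
            have h1 : c'⁻¹ * q * c' ∈ Q := by
              have := stronglyClosed_conj_mem hQsc (S.inv_mem (hCS hc')) hq
              rwa [inv_inv] at this
            have := stronglyClosed_conj_mem hQsc (S.inv_mem (hCS hc)) h1
            rwa [inv_inv] at this
          have h := hcc c hc c' hc' _ hq1
          have h' : c * (c' * (c⁻¹ * (c'⁻¹ * q * c') * c) * c'⁻¹) * c⁻¹ = q := by
            rw [h]; group
          rw [commutatorElement_def]
          calc q * (c * c' * c⁻¹ * c'⁻¹)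
              = (c * (c' * (c⁻¹ * (c'⁻¹ * q * c') * c) * c'⁻¹) * c⁻¹) * (c * c' * c⁻¹ * c'⁻¹) := by rw [h']
            _ = c * c' * c⁻¹ * c'⁻¹ * q := by group
    exact le_inf (hcore _ hCn) hCT
  -- (iii) `Q ⊓ T` is centric in `E`
  refine ⟨hEsat, Q ⊓ T, hRnE, inf_le_right, fun R' hR' => ?_⟩
  have hR'eq : R' = Q ⊓ T := by
    obtain ⟨f, hf, rfl⟩ := isConj_iff.1 hR'
    exact imgS_eq_of_maps hf (fun y hy => (stronglyClosed_iff.1 hRsc).2 _ f le_rfl (hEF' _ f hf) y hy)
  rw [hR'eq]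
  exact hCle

end Cfsg.Agent.H90
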