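import Mathlib
import Cfsg.Agent.H58.FCDefs

set_option autoImplicit false

/-!
# A Frobenius pair of automorphisms acting in a prime manner (helper90)

`β` fixed-point-free with `β ^ r = 1` (`r` prime), `ε ^ n = 1`, `ε β ε⁻¹ = β ^ k` with `k` of
order `n` modulo `r` (helper58's `Frob`).  If `n = s * q` with `1 < s` and every fixed point of
`ε ^ s` is a fixed point of `ε`, then the group is trivial.  (Fourier inversion over `ℤ/r`; no
counting.)  This is what step (Z) of S1353 needs: a cyclic group acting faithfully on `⟨b⟩` and in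
a prime manner on `V ≠ 1` has prime order.
-/

namespace Cfsg.Agent.H90.FR

open Finset

universe u

section Ring

variable {A : Type u} [AddCommGroup A]

theorem modEq_one_of_dvd {r K : ℕ} (hr : 0 < r) (h : r ∣ r - 1 + K) : K ≡ 1 [MOD r] := by
  have h1 : K + (r - 1) ≡ 1 + (r - 1) [MOD r] := by
    have e1 : K + (r - 1) = r - 1 + K := by omega
    have e2 : 1 + (r - 1) = r := by omega
    rw [e1, e2]
    exact ((Nat.modEq_zero_iff_dvd).mpr h).trans ((Nat.modEq_zero_iff_dvd).mpr dvd_rfl).symm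
  exact Nat.ModEq.add_right_cancel' _ h1

/-- A power `b ^ m`, `r ∤ m`, of a fixed-point-free `b` with `b ^ r = 1` is fixed-point-free. -/
theorem fix_pow (b : AddMonoid.End A) (r : ℕ) (hr : r.Prime) (hb : b ^ r = 1)
    (hfix : ∀ a : A, b a = a → a = 0) (m : ℕ) (hm : ¬ r ∣ m) (a : A)
    (ha : (b ^ m) a = a) : a = 0 := by
  have hcop : Nat.Coprime m r := ((Nat.Prime.coprime_iff_not_dvd hr).mpr hm).symm
  obtain ⟨m', -, hm'⟩ := Nat.exists_mul_mod_eq_one_of_coprime hcop hr.one_lt
  apply hfix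
  have h1 : ∀ j : ℕ, ((b ^ m) ^ j) a = a := by
    intro j
    induction j with
    | zero => rfl
    | succ j ih =>
      rw [pow_succ]
      show ((b ^ m) ^ j) ((b ^ m) a) = a
      rw [ha, ih]
  have h2 : b ^ (m * m') = b := by
    have e : m * m' = r * (m * m' / r) + 1 := by
      have := Nat.div_add_mod (m * m') r
      omega
    rw [e, pow_add, pow_mul, hb, one_pow, one_mul, pow_one]
  have h3 := h1 m'
  rw [← pow_mul, h2] at h3
  exact h3

theorem geom_sum_zero (x : AddMonoid.End A) (r : ℕ) (hx : x ^ r = 1)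
    (hfix : ∀ a : A, x a = a → a = 0) : ∑ i ∈ range r, x ^ i = 0 := by
  have h1 : (x - 1) * ∑ i ∈ range r, x ^ i = 0 := by rw [mul_geom_sum, hx, sub_self]
  ext a
  have h2 : ((x - 1) * ∑ i ∈ range r, x ^ i) a = 0 := by rw [h1]; rfl
  have h3 : x ((∑ i ∈ range r, x ^ i) a) - (∑ i ∈ range r, x ^ i) a = 0 := h2
  exact hfix _ (sub_eq_zero.mp h3)

theorem comm_pow (b e : AddMonoid.End A) (k : ℕ) (hc : e * b = b ^ k * e) (m i : ℕ) :
    e ^ m * b ^ i = b ^ (i * k ^ m) * e ^ m := by
  have h1 : ∀ i : ℕ, e * b ^ i = b ^ (i * k) * e := by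
    intro i
    induction i with
    | zero => simp
    | succ i ih =>
      rw [pow_succ, ← mul_assoc, ih, mul_assoc, hc, ← mul_assoc, ← pow_add]
      congr 2
      ring
  induction m generalizing i with
  | zero => simp
  | succ m ih =>
    rw [pow_succ, mul_assoc, h1, ← mul_assoc, ih, mul_assoc, ← pow_succ]
    congr 2
    ring

/-- The ring-theoretic core. -/
theorem ring_kill (b e : AddMonoid.End A) (r n k s q : ℕ) (hr : r.Prime)
    (hb : b ^ r = 1) (hen : e ^ n = 1) (hc : e * b = b ^ k * e)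
    (hk : ∀ i : ℕ, 0 < i → i < n → ¬ (k ^ i ≡ 1 [MOD r]))
    (hfix : ∀ a : A, b a = a → a = 0)
    (hn : n = s * q) (hs : 1 < s) (hq : 0 < q)
    (hpa : ∀ a : A, (e ^ s) a = a → e a = a) (a : A) : r • a = 0 := by
  have hdq : (e ^ s) ^ q = 1 := by rw [← pow_mul, ← hn, hen]
  have hdN : e ^ s * ∑ j ∈ range q, (e ^ s) ^ j = ∑ j ∈ range q, (e ^ s) ^ j := by
    have := mul_geom_sum (e ^ s) q
    rw [hdq, sub_self, sub_mul, one_mul, sub_eq_zero] at this
    exact this
  have heN : e * ∑ j ∈ range q, (e ^ s) ^ j = ∑ j ∈ range q, (e ^ s) ^ j := by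
    ext x
    apply hpa
    show (e ^ s * ∑ j ∈ range q, (e ^ s) ^ j) x = (∑ j ∈ range q, (e ^ s) ^ j) x
    rw [hdN]
  have key : ∀ i : ℕ,
      ∑ j ∈ range q, (b ^ (r - 1 + k ^ (s * j + 1))) ^ i * e ^ (s * j + 1)
        = ∑ j ∈ range q, (b ^ (r - 1 + k ^ (s * j))) ^ i * e ^ (s * j) := by
    intro i
    have hL : b ^ ((r - 1) * i) * (e * (∑ j ∈ range q, (e ^ s) ^ j) * b ^ i)
        = ∑ j ∈ range q, (b ^ (r - 1 + k ^ (s * j + 1))) ^ i * e ^ (s * j + 1) := by
      rw [Finset.mul_sum, Finset.sum_mul, Finset.mul_sum]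
      apply Finset.sum_congr rfl
      intro j _
      rw [← pow_mul, ← pow_succ', comm_pow b e k hc, ← mul_assoc, ← pow_add, ← pow_mul]
      congr 2
      ring
    have hR : b ^ ((r - 1) * i) * ((∑ j ∈ range q, (e ^ s) ^ j) * b ^ i)
        = ∑ j ∈ range q, (b ^ (r - 1 + k ^ (s * j))) ^ i * e ^ (s * j) := by
      rw [Finset.sum_mul, Finset.mul_sum]
      apply Finset.sum_congr rfl
      intro j _
      rw [← pow_mul, comm_pow b e k hc, ← mul_assoc, ← pow_add, ← pow_mul]
      congr 2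
      ring
    rw [← hL, ← hR, heN]
  -- sum over `i < r`
  have hsum : ∑ i ∈ range r, ∑ j ∈ range q, (b ^ (r - 1 + k ^ (s * j + 1))) ^ i * e ^ (s * j + 1)
      = ∑ i ∈ range r, ∑ j ∈ range q, (b ^ (r - 1 + k ^ (s * j))) ^ i * e ^ (s * j) :=
    Finset.sum_congr rfl (fun i _ => key i)
  rw [Finset.sum_comm, Finset.sum_comm (s := range r)] at hsum
  have hpowr : ∀ m : ℕ, (b ^ m) ^ r = 1 := by
    intro m
    rw [← pow_mul, mul_comm, pow_mul, hb, one_pow]
  have hLz : ∑ j ∈ range q, ∑ i ∈ range r, (b ^ (r - 1 + k ^ (s * j + 1))) ^ i * e ^ (s * j + 1)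
      = 0 := by
    apply Finset.sum_eq_zero
    intro j hj
    rw [← Finset.sum_mul]
    have hjq : j < q := Finset.mem_range.mp hj
    have hlt : s * j + 1 < n := by
      have h1 := Nat.mul_le_mul_left s (show j + 1 ≤ q by omega)
      have h2 : s * (j + 1) = s * j + s := by ring
      rw [hn]
      omega
    have hnd : ¬ r ∣ r - 1 + k ^ (s * j + 1) := fun hd =>
      hk (s * j + 1) (by omega) hlt (modEq_one_of_dvd hr.pos hd)
    rw [geom_sum_zero _ r (hpowr _) (fix_pow b r hr hb hfix _ hnd), zero_mul]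
  have hRz : ∑ j ∈ range q, ∑ i ∈ range r, (b ^ (r - 1 + k ^ (s * j))) ^ i * e ^ (s * j)
      = (r : AddMonoid.End A) := by
    rw [Finset.sum_eq_single 0]
    · have e1 : r - 1 + k ^ (s * 0) = r := by
        have := hr.pos
        simp
        omega
      rw [← Finset.sum_mul, e1, hb]
      simp
    · intro j hj hj0
      rw [← Finset.sum_mul]
      have hjq : j < q := Finset.mem_range.mp hj
      have hlt : s * j < n := by
        rw [hn]
        exact Nat.mul_lt_mul_of_pos_left hjq (by omega)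
      have hpos : 0 < s * j := Nat.mul_pos (by omega) (Nat.pos_of_ne_zero hj0)
      have hnd : ¬ r ∣ r - 1 + k ^ (s * j) := fun hd =>
        hk (s * j) hpos hlt (modEq_one_of_dvd hr.pos hd)
      rw [geom_sum_zero _ r (hpowr _) (fix_pow b r hr hb hfix _ hnd), zero_mul]
    · intro h0
      exact absurd (Finset.mem_range.mpr hq) h0
  rw [hLz, hRz] at hsum
  have := congrArg (fun f : AddMonoid.End A => f a) hsum
  simp only [AddMonoid.End.natCast_apply] at this
  exact this.symm

end Ring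

section Aut

variable (T : Type u) [CommGroup T]

/-- `MulAut T` acting on `Additive T`. -/
def toEnd : MulAut T →* AddMonoid.End (Additive T) where
  toFun α := MonoidHom.toAdditive α.toMonoidHom
  map_one' := rfl
  map_mul' := fun _ _ => rfl

variable {T}

/-- **Prime action kills**: helper58's `Frob` data with `n = s * q`, `1 < s`, and every fixed point
of `ε ^ s` fixed by `ε`: the group is trivial. -/
theorem frob_prime [Finite T] (β ε : MulAut T) (r n k : ℕ)
    (h : Cfsg.Agent.H58.FC.Frob T β ε r n k) (s q : ℕ) (hn : n = s * q) (hs : 1 < s)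
    (hpa : ∀ t : T, (ε ^ s) t = t → ε t = t) : ∀ t : T, t = 1 := by
  have hq : 0 < q := by
    rcases Nat.eq_zero_or_pos q with h0 | h0
    · subst h0
      have := h.npos
      omega
    · exact h0
  have hrF : Fact r.Prime := ⟨h.rprime⟩
  -- `r ∤ |T|`
  have hcard : ¬ r ∣ Nat.card T := by
    have hP : IsPGroup r (Subgroup.zpowers β) := by
      rintro ⟨z, hz⟩
      refine ⟨1, ?_⟩
      obtain ⟨j, rfl⟩ := Subgroup.mem_zpowers_iff.mp hz
      apply Subtype.ext
      show (β ^ j) ^ r ^ 1 = 1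
      rw [pow_one, ← zpow_natCast, ← zpow_mul, mul_comm, zpow_mul, zpow_natCast, h.bpow, one_zpow]
    have h1 := hP.card_modEq_card_fixedPoints T
    have h2 : Nat.card (MulAction.fixedPoints (Subgroup.zpowers β) T) = 1 := by
      rw [Nat.card_eq_one_iff_unique]
      refine ⟨⟨?_⟩, ⟨⟨1, ?_⟩⟩⟩
      · rintro ⟨x, hx⟩ ⟨y, hy⟩
        have hx1 : x = 1 := h.fix x (hx ⟨β, Subgroup.mem_zpowers β⟩)
        have hy1 : y = 1 := h.fix y (hy ⟨β, Subgroup.mem_zpowers β⟩)
        exact Subtype.ext (hx1.trans hy1.symm)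
      · rintro ⟨z, hz⟩
        show z 1 = 1
        exact map_one z
    rw [h2] at h1
    intro hd
    have h3 : Nat.card T ≡ 0 [MOD r] := (Nat.modEq_zero_iff_dvd).mpr hd
    have h4 : (1 : ℕ) ≡ 0 [MOD r] := h1.symm.trans h3
    have h5 := (Nat.modEq_zero_iff_dvd).mp h4
    exact h.rprime.one_lt.ne' (Nat.dvd_one.mp h5)
  intro t
  have hb : (toEnd T β) ^ r = 1 := by rw [← map_pow, h.bpow, map_one]
  have hen : (toEnd T ε) ^ n = 1 := by rw [← map_pow, h.epow, map_one]
  have hc : toEnd T ε * toEnd T β = (toEnd T β) ^ k * toEnd T ε := by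
    rw [← map_mul, ← map_pow, ← map_mul, ← h.conj]
    congr 1
    group
  have hfix : ∀ a : Additive T, toEnd T β a = a → a = 0 := by
    intro a ha
    exact congrArg Additive.ofMul (h.fix (Additive.toMul a) (congrArg Additive.toMul ha))
  have hpa' : ∀ a : Additive T, ((toEnd T ε) ^ s) a = a → toEnd T ε a = a := by
    intro a ha
    rw [← map_pow] at ha
    exact congrArg Additive.ofMul (hpa (Additive.toMul a) (congrArg Additive.toMul ha))
  have hkill := ring_kill (toEnd T β) (toEnd T ε) r n k s q h.rprime hb hen hc h.kord hfix hn hs hq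
    hpa' (Additive.ofMul t)
  have htr : t ^ r = 1 := congrArg Additive.toMul hkill
  have ho : orderOf t ∣ r := orderOf_dvd_of_pow_eq_one htr
  have ho2 : orderOf t ∣ Nat.card T := orderOf_dvd_natCard t
  have : orderOf t = 1 := by
    rcases (Nat.dvd_prime h.rprime).mp ho with h1 | h1
    · exact h1
    · exact absurd (h1 ▸ ho2) hcard
  exact orderOf_eq_one_iff.mp this

end Aut

end Cfsg.Agent.H90.FR
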