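import Mathlib
import Cfsg.Agent.H90.FR

set_option autoImplicit false

/-!
# Prime action of a Frobenius-like group: subgroup form (helper90)

`V, B, D ≤ G`, `|B| = r` prime, `V` abelian, `B, D ≤ N(V)`, `D ≤ N(B)` cyclic with
`C_D(B) = 1`, `C_V(B) = 1`, `V ≠ 1`, and `D` acts on `V` in a prime manner
(`C_V(d) ≤ C(D)` for all `d ∈ D`, `d ≠ 1`).  Then `|D|` is `1` or a prime.
No counting formula (Vandermonde / Wielandt) is needed.
-/

namespace Cfsg.Agent.H90.FR

open Subgroup

universe u

variable {G : Type u} [Group G]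

/-- Conjugation by an element of `N_G(V)` as an automorphism of `V`. -/
def conjAut (V : Subgroup G) : ↥(normalizer (V : Set G)) →* MulAut ↥V where
  toFun g :=
    { toFun := fun v => ⟨(g : G) * v * (g : G)⁻¹, (mem_normalizer_iff.mp g.2 v).mp v.2⟩
      invFun := fun v => ⟨(g : G)⁻¹ * v * (g : G), by
        have := (mem_normalizer_iff.mp (inv_mem g.2) v).mp v.2
        simpa using this⟩
      left_inv := fun v => Subtype.ext (by simp [mul_assoc])
      right_inv := fun v => Subtype.ext (by simp [mul_assoc])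
      map_mul' := fun v w => Subtype.ext (by simp [mul_assoc]) }
  map_one' := by
    ext v
    simp
  map_mul' := fun g h => by
    ext v
    simp [mul_assoc]

theorem conjAut_apply (V : Subgroup G) (g : ↥(normalizer (V : Set G))) (v : V) :
    ((conjAut V g) v : G) = (g : G) * v * (g : G)⁻¹ := rfl

/-- **Prime action forces prime order.** -/
theorem card_prime_of_primeAction [Finite G] (V B D : Subgroup G) (r : ℕ) (hr : r.Prime)
    (hB : Nat.card B = r) (hV : ∀ x ∈ V, ∀ y ∈ V, x * y = y * x)
    (hBV : B ≤ normalizer (V : Set G)) (hDV : D ≤ normalizer (V : Set G))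
    (hDB : D ≤ normalizer (B : Set G))
    (hDC : D ⊓ centralizer (B : Set G) = ⊥) (hVB : V ⊓ centralizer (B : Set G) = ⊥)
    (hDcyc : IsCyclic D) (hV1 : V ≠ ⊥)
    (hpa : ∀ d ∈ D, d ≠ 1 → V ⊓ centralizer ({d} : Set G) ≤ centralizer (D : Set G)) :
    Nat.card D = 1 ∨ (Nat.card D).Prime := by
  have hrF : Fact r.Prime := ⟨hr⟩
  -- a generator `b` of `B`
  have hBc : IsCyclic B := isCyclic_of_prime_card hB
  obtain ⟨gb, hgb⟩ := hBc.exists_generator
  have hbo : orderOf (gb : G) = r := by
    rw [Subgroup.orderOf_coe, orderOf_eq_card_of_forall_mem_zpowers hgb, hB]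
  have hbB : ∀ x ∈ B, ∃ j : ℕ, x = (gb : G) ^ j := by
    intro x hx
    obtain ⟨z, hz⟩ := Subgroup.mem_zpowers_iff.mp (hgb ⟨x, hx⟩)
    have hz' : (gb : G) ^ z = x := by
      have := congrArg Subtype.val hz
      simpa using this
    refine ⟨(z % (r : ℤ)).toNat, ?_⟩
    rw [← hz', ← zpow_natCast, Int.toNat_of_nonneg (Int.emod_nonneg _ (by exact_mod_cast hr.ne_zero)),
      ← hbo, zpow_mod_orderOf]
  -- a generator `e` of `D`
  obtain ⟨ge, hge⟩ := hDcyc.exists_generator
  have heo : orderOf (ge : G) = Nat.card D := by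
    rw [Subgroup.orderOf_coe, orderOf_eq_card_of_forall_mem_zpowers hge]
  set n := Nat.card D with hn
  have hnpos : 0 < n := Nat.card_pos
  by_contra hcon
  push Not at hcon
  obtain ⟨hn1, hnp⟩ := hcon
  -- a proper factorization `n = s * q`
  obtain ⟨s, hsd, hs1, hsn⟩ : ∃ s, s ∣ n ∧ s ≠ 1 ∧ s ≠ n := by
    by_contra h
    push Not at h
    exact hnp (Nat.prime_def.mpr ⟨by omega, fun m hm => by
      by_contra hm'
      push Not at hm'
      exact hm'.2 (h m hm hm'.1)⟩)
  obtain ⟨q, hq⟩ := hsd
  have hspos : 0 < s := Nat.pos_of_ne_zero (fun h0 => by subst h0; simp at hq; omega)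
  have hs : 1 < s := by omega
  have hqpos : 0 < q := Nat.pos_of_ne_zero (fun h0 => by subst h0; simp at hq; omega)
  have hq1 : 1 < q := by
    rcases Nat.lt_or_ge 1 q with h | h
    · exact h
    · exfalso
      have : q = 1 := by omega
      subst this
      simp at hq
      exact hsn hq.symm
  have hslt : s < n := by
    rw [hq]
    nlinarith
  -- `e b e⁻¹ = b ^ k`
  have heNB := hDB ge.2
  obtain ⟨k, hk⟩ := hbB _ ((mem_normalizer_iff.mp heNB (gb : G)).mp gb.2)
  have hconjpow : ∀ i : ℕ, (ge : G) ^ i * (gb : G) * ((ge : G) ^ i)⁻¹ = (gb : G) ^ (k ^ i) := by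
    intro i
    induction i with
    | zero => simp
    | succ i ih =>
      have e1 : (ge : G) ^ (i + 1) * (gb : G) * ((ge : G) ^ (i + 1))⁻¹
          = (ge : G) * ((ge : G) ^ i * (gb : G) * ((ge : G) ^ i)⁻¹) * (ge : G)⁻¹ := by
        rw [pow_succ']; group
      rw [e1, ih]
      have e2 : (ge : G) * (gb : G) ^ (k ^ i) * (ge : G)⁻¹
          = ((ge : G) * (gb : G) * (ge : G)⁻¹) ^ (k ^ i) := by
        rw [conj_pow]
      rw [e2, hk, ← pow_mul, pow_succ, mul_comm]
  -- the commutative group structure on `V`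
  letI : CommGroup ↥V :=
    { (inferInstance : Group ↥V) with
      mul_comm := fun a b => Subtype.ext (hV a a.2 b b.2) }
  have hbN : (gb : G) ∈ normalizer (V : Set G) := hBV gb.2
  have heN : (ge : G) ∈ normalizer (V : Set G) := hDV ge.2
  have hfrob : Cfsg.Agent.H58.FC.Frob ↥V (conjAut V ⟨gb, hbN⟩) (conjAut V ⟨ge, heN⟩) r n k := by
    refine ⟨hr, hnpos, ?_, ?_, ?_, ?_, ?_⟩
    · rw [← map_pow]
      have : (⟨(gb : G), hbN⟩ : ↥(normalizer (V : Set G))) ^ r = 1 := by
        apply Subtype.ext
        show (gb : G) ^ r = 1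
        rw [← hbo, pow_orderOf_eq_one]
      rw [this, map_one]
    · rw [← map_pow]
      have : (⟨(ge : G), heN⟩ : ↥(normalizer (V : Set G))) ^ n = 1 := by
        apply Subtype.ext
        show (ge : G) ^ n = 1
        rw [← heo, pow_orderOf_eq_one]
      rw [this, map_one]
    · rw [← map_inv, ← map_mul, ← map_mul, ← map_pow]
      congr 1
      apply Subtype.ext
      show (ge : G) * (gb : G) * (ge : G)⁻¹ = (gb : G) ^ k
      exact hk
    · intro i hi hin hmod
      have h1 : (ge : G) ^ i * (gb : G) * ((ge : G) ^ i)⁻¹ = (gb : G) := by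
        rw [hconjpow i]
        have : (gb : G) ^ (k ^ i) = (gb : G) ^ 1 := by
          rw [pow_eq_pow_iff_modEq, hbo]
          exact hmod
        rw [this, pow_one]
      have h2 : (ge : G) ^ i ∈ D ⊓ centralizer (B : Set G) := by
        refine Subgroup.mem_inf.mpr ⟨pow_mem ge.2 i, ?_⟩
        rw [mem_centralizer_iff]
        intro x hx
        obtain ⟨j, rfl⟩ := hbB x hx
        have h3 : (ge : G) ^ i * (gb : G) = (gb : G) * (ge : G) ^ i := by
          have := congrArg (· * (ge : G) ^ i) h1
          simpa [mul_assoc] using this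
        exact ((Commute.pow_right (show Commute ((ge : G) ^ i) (gb : G) from h3) j).eq).symm
      rw [hDC, mem_bot] at h2
      have h4 : orderOf (ge : G) ∣ i := orderOf_dvd_of_pow_eq_one h2
      rw [heo] at h4
      exact absurd (Nat.le_of_dvd hi h4) (by omega)
    · intro t ht
      have h1 : (gb : G) * (t : G) * (gb : G)⁻¹ = t := congrArg Subtype.val ht
      have h2 : (t : G) ∈ V ⊓ centralizer (B : Set G) := by
        refine Subgroup.mem_inf.mpr ⟨t.2, ?_⟩
        rw [mem_centralizer_iff]
        intro x hx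
        obtain ⟨j, rfl⟩ := hbB x hx
        have h3 : (gb : G) * (t : G) = (t : G) * (gb : G) := by
          have := congrArg (· * (gb : G)) h1
          simpa [mul_assoc] using this
        exact (Commute.pow_left (show Commute (gb : G) (t : G) from h3) j).eq
      rw [hVB, mem_bot] at h2
      exact Subtype.ext h2
  have hkill := frob_prime (conjAut V ⟨gb, hbN⟩) (conjAut V ⟨ge, heN⟩) r n k hfrob s q hq hs ?_
  · apply hV1
    rw [Subgroup.eq_bot_iff_forall]
    intro x hx
    exact congrArg Subtype.val (hkill ⟨x, hx⟩)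
  · intro t ht
    rw [← map_pow] at ht
    have h1 : (ge : G) ^ s * (t : G) * ((ge : G) ^ s)⁻¹ = t := congrArg Subtype.val ht
    have hes : (ge : G) ^ s ≠ 1 := by
      intro h0
      have h4 : orderOf (ge : G) ∣ s := orderOf_dvd_of_pow_eq_one h0
      rw [heo] at h4
      exact absurd (Nat.le_of_dvd hspos h4) (by omega)
    have h2 : (t : G) ∈ V ⊓ centralizer ({(ge : G) ^ s} : Set G) := by
      refine Subgroup.mem_inf.mpr ⟨t.2, ?_⟩
      rw [mem_centralizer_iff]
      intro y hy
      rw [Set.mem_singleton_iff] at hy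
      rw [hy]
      have := congrArg (· * (ge : G) ^ s) h1
      simpa [mul_assoc] using this
    have h3 := hpa _ (pow_mem ge.2 s) hes h2
    have h4 : (ge : G) * (t : G) = (t : G) * (ge : G) := (mem_centralizer_iff.mp h3) ge ge.2
    apply Subtype.ext
    show (ge : G) * (t : G) * (ge : G)⁻¹ = t
    rw [h4]
    group

end Cfsg.Agent.H90.FR
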