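import Cfsg.Agent.H90.GTMain
import Cfsg.Agent.H88.Basic

set_option autoImplicit false

/-!
A saturated fusion system over `S` (with `p` odd) not all of whose automorphism groups are
`p`-groups contains a constrained saturated subsystem over `S` with the same property.
-/

namespace Cfsg.Agent.H90

open Cfsg Cfsg.FusionSystem Cfsg.Agent.H86

universe u

section GTSparse

variable {Ω : Type u} [Group Ω]

/-- Transport of a fusion system along an equality of the underlying subgroups. -/
def castSys {R S : Subgroup Ω} (h : R = S) (E : FusionSystem R) : FusionSystem S := h ▸ E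

lemma castSys_hom {R S : Subgroup Ω} (h : R = S) (E : FusionSystem R) (P : Subgroup Ω) :
    (castSys h E).Hom P = E.Hom P := by
  subst h
  rfl

lemma castSys_saturated {p : ℕ} {R S : Subgroup Ω} (h : R = S) (E : FusionSystem R) :
    (castSys h E).IsSaturated p ↔ E.IsSaturated p := by
  subst h
  rfl

lemma castSys_isNormal {R S : Subgroup Ω} (h : R = S) (E : FusionSystem R) (Q : Subgroup Ω) :
    (castSys h E).IsNormal Q ↔ E.IsNormal Q := by
  subst h
  rfl

lemma castSys_autP {p : ℕ} {R S : Subgroup Ω} (h : R = S) (E : FusionSystem R) :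
    AutP p (castSys h E) ↔ AutP p E := by
  subst h
  rfl

variable {S : Subgroup Ω}

lemma autP_of_hom_eq_inner {p : ℕ} (hS : IsPGroup p S) {E : FusionSystem S}
    (h : ∀ P : Subgroup Ω, E.Hom P = (innerFusionSystem S).Hom P) : AutP p E := by
  intro T hT α hα
  obtain ⟨φ, hφ, hφα⟩ := (Cfsg.Agent.H86.mem_autGroup_iff hT α).1 hα
  rw [h T] at hφ
  obtain ⟨-, g, hg, hgx⟩ := hφ
  obtain ⟨k, hk⟩ := hS ⟨g, hg⟩
  have hk' : g ^ p ^ k = 1 := by
    have := congrArg Subtype.val hk
    simpa using this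
  have H : ∀ x : T, ((α x : T) : Ω) = g * (x : Ω) * g⁻¹ := by
    intro x
    rw [← hgx x, hφα x, autFun_apply]
  refine ⟨k, ?_⟩
  ext x
  rw [autInducedBy_pow H, hk']
  simp

/-- The normalizer system of a subgroup normal in `S`, as a system over `S`. -/
theorem exists_normalizer_sub [Finite S] {p : ℕ} [Fact p.Prime] (hS : IsPGroup p S)
    {E : FusionSystem S} (hE : E.IsSaturated p) {M : Subgroup Ω} (hMS : M ≤ S)
    (hMN : S ≤ Subgroup.normalizer (M : Set Ω)) (hM : ¬ NAutP p E M) :
    ∃ E' : FusionSystem S, E' ≤ E ∧ E'.IsSaturated p ∧ ¬ AutP p E' ∧ E'.IsNormal M := by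
  have hNM : normalizerIn S M = S := le_antisymm inf_le_left (le_inf le_rfl hMN)
  have hMfn : E.IsFullyNormalized M := ⟨hMS, fun Q _ => by
    rw [hNM]
    exact Subgroup.card_le_of_le inf_le_left⟩
  have hEn := Cfsg.Agent.H89.normalizerSystem_isNormalizerSystem E M hMS
  refine ⟨castSys hNM (Cfsg.Agent.H89.normalizerSystem E M hMS), ?_, ?_, ?_, ?_⟩
  · intro P φ hφ
    rw [castSys_hom] at hφ
    exact hφ.1
  · rw [castSys_saturated]
    exact Cfsg.Agent.H88.normalizerSystem_saturated hS hE hMfn _ hEn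
  · rw [castSys_autP]
    exact fun h => hM (nautP_of_autP_normalizerSystem hMS hEn h)
  · rw [castSys_isNormal]
    exact Cfsg.Agent.H88.normalizerSystem_isNormal hMS hEn

/-- If the normal subgroup `Q` of the system does not contain its centralizer in `S`, some
strictly larger normal subgroup `M` of `S` has a normalizer system with an automorphism group
which is not a `p`-group. -/
theorem exists_bigger_normal [Finite S] {p : ℕ} [Fact p.Prime] (hp : p ≠ 2) (hS : IsPGroup p S)
    {E : FusionSystem S} (hE : E.IsSaturated p) (hnot : ¬ AutP p E) {Q : Subgroup Ω}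
    (hQn : E.IsNormal Q) (hc : ¬ centralizerIn S Q ≤ Q) :
    ∃ M : Subgroup Ω, Q < M ∧ M ≤ S ∧ S ≤ Subgroup.normalizer (M : Set Ω) ∧ ¬ NAutP p E M := by
  have hQsc := IsNormal.stronglyClosed hQn
  have hQS : Q ≤ S := hQn.1
  have hQneS : Q ≠ S := fun h => hc ((inf_le_left : centralizerIn S Q ≤ S).trans h.ge)
  haveI hnormal : (Q.subgroupOf S).Normal :=
    ⟨fun n hn g => Subgroup.mem_subgroupOf.2
      (Cfsg.Agent.H88.stronglyClosed_conj_mem hQsc g.2 (Subgroup.mem_subgroupOf.1 hn))⟩
  obtain ⟨E', hfs⟩ := Cfsg.Agent.H88.exists_factorSystem E Q hQsc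
  have hE'sat := Cfsg.Agent.H88.factor_saturated hS hE hQsc hfs
  by_cases hE'P : AutP p E'
  · refine ⟨Q ⊔ centralizerIn S Q,
      lt_of_le_of_ne le_sup_left (fun h => hc (le_sup_right.trans h.ge)),
      sup_le hQS inf_le_left,
      le_normalizer_sup_centralizerIn (Cfsg.Agent.H88.stronglyClosed_le_normalizer hQsc),
      fun h => hnot ?_⟩
    exact autP_of_noncentric hS hE hQn
      (fun D hPD hDS α hα => factor_trivial hfs hQsc hE'P hPD hDS hα) h
  · have hS'p : IsPGroup p ↥(⊤ : Subgroup (S ⧸ Q.subgroupOf S)) :=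
      (hS.to_quotient (Q.subgroupOf S)).to_subgroup ⊤
    have hS'ne : (⊤ : Subgroup (S ⧸ Q.subgroupOf S)) ≠ ⊥ := by
      intro h
      apply hQneS
      refine le_antisymm hQS (fun x hx => ?_)
      have h1 : QuotientGroup.mk' (Q.subgroupOf S) ⟨x, hx⟩ ∈ (⊤ : Subgroup (S ⧸ Q.subgroupOf S)) :=
        Subgroup.mem_top _
      rw [h] at h1
      exact (hfs.2.1 ⟨x, hx⟩).1 (Subgroup.mem_bot.1 h1)
    have hZne := centerThompsonAOf_ne_bot hS'p hS'ne
    have hPM : Q ≤ preimageAlong (QuotientGroup.mk' (Q.subgroupOf S))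
        (centerThompsonAOf (⊤ : Subgroup (S ⧸ Q.subgroupOf S))) :=
      Cfsg.Agent.H88.le_preimageAlong hfs _
    have hMS : preimageAlong (QuotientGroup.mk' (Q.subgroupOf S))
        (centerThompsonAOf (⊤ : Subgroup (S ⧸ Q.subgroupOf S))) ≤ S :=
      Cfsg.Agent.H88.preimageAlong_le _ _
    have himgM : imageAlong (QuotientGroup.mk' (Q.subgroupOf S))
        (preimageAlong (QuotientGroup.mk' (Q.subgroupOf S))
          (centerThompsonAOf (⊤ : Subgroup (S ⧸ Q.subgroupOf S)))) =
        centerThompsonAOf (⊤ : Subgroup (S ⧸ Q.subgroupOf S)) :=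
      Cfsg.Agent.H88.imageAlong_preimageAlong hfs (centerThompsonAOf_le _)
    have hMne : Q ≠ preimageAlong (QuotientGroup.mk' (Q.subgroupOf S))
        (centerThompsonAOf (⊤ : Subgroup (S ⧸ Q.subgroupOf S))) := by
      intro h
      apply hZne
      rw [← himgM, ← h, eq_bot_iff]
      intro y hy
      obtain ⟨x, hx, rfl⟩ := (Cfsg.Agent.H88.mem_imageAlong_iff hQS).1 hy
      exact Subgroup.mem_bot.2 ((Cfsg.Agent.H88.tot_eq_one_iff hfs (hQS hx)).2 hx)
    have hMN : S ≤ Subgroup.normalizer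
        ((preimageAlong (QuotientGroup.mk' (Q.subgroupOf S))
          (centerThompsonAOf (⊤ : Subgroup (S ⧸ Q.subgroupOf S))) : Subgroup Ω) : Set Ω) := by
      intro g hg
      refine Cfsg.Agent.H88.mem_normalizer_of_tot hfs hPM hMS hg ?_
      rw [himgM]
      exact le_normalizer_centerThompsonAOf _ (Cfsg.Agent.H88.tot_mem hfs g)
    have hZ' : ¬ NAutP p E' (centerThompsonAOf (⊤ : Subgroup (S ⧸ Q.subgroupOf S))) :=
      fun h => hE'P (autP_of_nautP_centerThompson hp _ hS'p E' hE'sat rfl h)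
    exact ⟨_, lt_of_le_of_ne hPM hMne, hMS, hMN, fun h => hZ' (nautP_factor hfs hQsc h)⟩

/-- Descent to a constrained subsystem. -/
theorem exists_constrained_sub [Finite S] {p : ℕ} [Fact p.Prime] (hp : p ≠ 2)
    (hS : IsPGroup p S) :
    ∀ (k : ℕ) (E : FusionSystem S), E.IsSaturated p → ¬ AutP p E → ∀ Q : Subgroup Ω,
      E.IsNormal Q → Nat.card S - Nat.card Q ≤ k →
      ∃ E' : FusionSystem S, E' ≤ E ∧ E'.IsSaturated p ∧ ¬ AutP p E' ∧
        ∃ Q' : Subgroup Ω, E'.IsNormal Q' ∧ centralizerIn S Q' ≤ Q' := by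
  intro k
  induction k with
  | zero =>
    intro E hE hnot Q hQn hk
    by_cases hc : centralizerIn S Q ≤ Q
    · exact ⟨E, fun P => Set.Subset.rfl, hE, hnot, Q, hQn, hc⟩
    · exfalso
      obtain ⟨M, hQM, hMS, -, -⟩ := exists_bigger_normal hp hS hE hnot hQn hc
      haveI : Finite M := finite_of_le hMS
      have h1 := card_lt_card_of_lt hQM
      have h2 := Subgroup.card_le_of_le hMS
      omega
  | succ k ih =>
    intro E hE hnot Q hQn hk
    by_cases hc : centralizerIn S Q ≤ Q
    · exact ⟨E, fun P => Set.Subset.rfl, hE, hnot, Q, hQn, hc⟩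
    · obtain ⟨M, hQM, hMS, hMN, hM⟩ := exists_bigger_normal hp hS hE hnot hQn hc
      obtain ⟨E₁, hE₁E, hE₁sat, hE₁not, hE₁M⟩ := exists_normalizer_sub hS hE hMS hMN hM
      haveI : Finite M := finite_of_le hMS
      have hcard : Nat.card S - Nat.card M ≤ k := by
        have h1 := card_lt_card_of_lt hQM
        have h2 := Subgroup.card_le_of_le hMS
        omega
      obtain ⟨E', hE'E₁, h1, h2, h3⟩ := ih E₁ hE₁sat hE₁not M hE₁M hcard
      exact ⟨E', fun P => (hE'E₁ P).trans (hE₁E P), h1, h2, h3⟩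

end GTSparse

end Cfsg.Agent.H90
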