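import Mathlib
import Cfsg.Prelude.Def_FusionSystem
import Cfsg.Prelude.Def_FusionReduction
import Cfsg.Prelude.Def_PLocal
import Cfsg.Agent.H86.WPow
import Cfsg.Agent.H86.JQuad
import Cfsg.Agent.H86.JCenter
import Cfsg.Agent.H38.ZJFunctor
import Cfsg.Agent.H90.GlClosure
import Cfsg.Agent.H52.WcJ
import Cfsg.Agent.Helper55.SylIn

set_option autoImplicit false
set_option maxHeartbeats 800000

/-!
Glauberman's theorem for fusion systems (`Z(N_F(J(S))) = Z(F)` for `p` odd or `F` `S₄`-free), reduced to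
the relative local theorem `Cfsg.Agent.H52.Wc.LocalThm` on finite groups.
-/

namespace Cfsg.Agent.H90

open Cfsg Cfsg.FusionSystem Cfsg.Agent.H86

universe u

variable {Ω : Type u} [Group Ω]

/-- `Z(N_F(W(S))) = Z(F)` from the control of weak closure of the elements of `Z(S)`. -/
theorem center_eq_of_fix {p : ℕ} [Fact p.Prime]
    {W : ∀ (Q : Type u) [Group Q], Subgroup Q}
    (hW2 : ∀ (Q R : Type u) [Group Q] [Group R] [Finite Q], IsPGroup p Q →
      ∀ φ : Q ≃* R, (W Q).map φ.toMonoidHom = W R)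
    (hWZ : ∀ (Q : Type u) [Group Q] [Finite Q], IsPGroup p Q → Subgroup.center Q ≤ W Q)
    {S : Subgroup Ω} [Finite S] (hS : IsPGroup p S) (F : FusionSystem S) (hF : F.IsSaturated p)
    (hmain : ∀ x ∈ S, (∀ s ∈ S, s * x = x * s) →
      (∀ g, Mor F (WS W S) g → imgS (WS W S) g = WS W S → g x = x) →
      ∀ (P : Subgroup Ω) (f : Ω → Ω), Mor F P f → x ∈ P → f x = x)
    (N : FusionSystem (normalizerIn S (WS W S))) (hN : F.IsNormalizerSystem (WS W S) N) :
    N.center = F.center := by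
  have hVS : WS W S ≤ S := WS_le W S
  have hVn : ∀ s ∈ S, ∀ y ∈ WS W S, s * y * s⁻¹ ∈ WS W S := fun s hs y hy =>
    WS_conj_mem hW2 hS (Subgroup.le_normalizer hs) hy
  have hNS : normalizerIn S (WS W S) = S := by
    apply le_antisymm inf_le_left
    intro s hs
    refine ⟨hs, mem_normalizer_of_forall_conj_mem (fun y hy => hVn s hs y hy) (fun y hy => ?_)⟩
    have h := hVn s⁻¹ (S.inv_mem hs) y hy
    simpa using h
  have hVfn : F.IsFullyNormalized (WS W S) := fullyNormalized_of_normal F hVS hVn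
  have hNsat : N.IsSaturated p := Cfsg.Agent.H88.normalizerSystem_saturated hS hF hVfn N hN
  haveI hfinN : Finite (normalizerIn S (WS W S)) := finite_of_le (S := S) inf_le_left
  have hNp : IsPGroup p (normalizerIn S (WS W S)) := hS.to_le inf_le_left
  have hmorNF : ∀ (P : Subgroup Ω) (f : Ω → Ω), Mor N P f → Mor F P f := by
    intro P f hf
    obtain ⟨-, -, f', hf', hf'f, -⟩ := (Cfsg.Agent.H88.mor_normalizerSystem_iff hN).1 hf
    exact (hf'.restrict le_sup_left).congr hf'f
  have hiff : ∀ Q : Subgroup Ω, N.IsCentral Q ↔ F.IsCentral Q := by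
    intro Q
    rw [isCentral_iff_conjElt hNp hNsat Q, isCentral_iff_conjElt hS hF Q]
    constructor
    · rintro ⟨hQN, hfix⟩
      have hQS : Q ≤ S := hQN.trans inf_le_left
      refine ⟨hQS, fun x hx y hxy => ?_⟩
      obtain ⟨f, hf, rfl⟩ := isConjElt_iff.1 hxy
      have hxS : x ∈ S := hQS hx
      have hxN : x ∈ normalizerIn S (WS W S) := hQN hx
      have hzle : Subgroup.zpowers x ≤ normalizerIn S (WS W S) := by
        rw [Subgroup.zpowers_le]; exact hxN
      have hxZ : ∀ s ∈ S, s * x = x * s := by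
        intro s hs
        have hsN : s ∈ normalizerIn S (WS W S) := by rw [hNS]; exact hs
        have h1 := hfix x hx (s * x * s⁻¹)
          (isConjElt_iff.2 ⟨fun z => s * z * s⁻¹, Mor.conj N hzle hsN, rfl⟩)
        calc s * x = (s * x * s⁻¹) * s := by group
          _ = x * s := by rw [h1]
      have hxV : x ∈ WS W S := center_mem_WS hWZ hS hxS hxZ
      have hWS : ∀ g, Mor F (WS W S) g → imgS (WS W S) g = WS W S → g x = x := by
        intro g hg himg
        refine hfix x hx (g x) (isConjElt_iff.2 ⟨g, ?_, rfl⟩)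
        rw [Cfsg.Agent.H88.mor_normalizerSystem_iff hN]
        have hzV : Subgroup.zpowers x ≤ WS W S := by
          rw [Subgroup.zpowers_le]; exact hxV
        refine ⟨hzle, fun z hz => ?_, g, ?_, fun _ _ => rfl, himg⟩
        · have h1 : g z ∈ imgS (WS W S) g := hg.mem_imgS_of_mem (hzV hz)
          rw [himg] at h1
          rw [hNS]
          exact hVS h1
        · rw [sup_eq_right.2 hzV]
          exact hg
      exact hmain x hxS hxZ hWS _ f hf (Subgroup.mem_zpowers x)
    · rintro ⟨hQS, hfix⟩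
      refine ⟨by rw [hNS]; exact hQS, fun x hx y hxy => ?_⟩
      obtain ⟨f, hf, rfl⟩ := isConjElt_iff.1 hxy
      exact hfix x hx (f x) (isConjElt_iff.2 ⟨f, hmorNF _ f hf, rfl⟩)
  unfold FusionSystem.center
  congr 1
  ext Q
  exact hiff Q

/-- The local hypothesis for `J`, `p` odd, from the relative local theorem. -/
theorem locHyp_of_localThm {p : ℕ} [Fact p.Prime]
    (hLT : ∀ (G : Type u) [Group G] [Finite G], Cfsg.Agent.H52.Wc.LocalThm p G) (hp : p ≠ 2) (x : Ω) :
    LocHyp p (fun (Q : Type u) [Group Q] => Cfsg.thompsonSubgroupA Q) x x := by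
  intro G _ _ T P₁ ι hz hx hinj hT hzc hzQ hxQ hNn
  rw [Subgroup.mem_center_iff]
  intro g
  exact hLT G ⊤ (T : Subgroup G) (pCore p G) (ι ⟨x, hx⟩)
    (Cfsg.Agent.Helper55.isSylIn_top_of_sylow T) le_top (pCore_isPGroup p G)
    (fun h _ d hd => (pCore_normal p G).conj_mem d hd h) hxQ (fun n _ hn => hNn n hn) (Or.inl hp) g
    (Subgroup.mem_top g)

/-- The local hypothesis for `J` on `S₄`-free groups, from the relative local theorem. -/
theorem locHypF_of_localThm {p : ℕ} [Fact p.Prime]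
    (hLT : ∀ (G : Type u) [Group G] [Finite G], Cfsg.Agent.H52.Wc.LocalThm p G) (x : Ω) :
    LocHypF p (fun (Q : Type u) [Group Q] => Cfsg.thompsonSubgroupA Q) (Equiv.Perm (Fin 4)) x x := by
  intro G _ _ T P₁ ι hz hx hnot hinj hT hzc hzQ hxQ hNn
  rw [Subgroup.mem_center_iff]
  intro g
  exact hLT G ⊤ (T : Subgroup G) (pCore p G) (ι ⟨x, hx⟩)
    (Cfsg.Agent.Helper55.isSylIn_top_of_sylow T) le_top (pCore_isPGroup p G)
    (fun h _ d hd => (pCore_normal p G).conj_mem d hd h) hxQ (fun n _ hn => hNn n hn)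
    (Or.inr (Or.inr hnot)) g (Subgroup.mem_top g)

/-- Glauberman's theorem for fusion systems, from the relative local theorem. -/
theorem glauberman_center {p : ℕ} [Fact p.Prime]
    (hLT : ∀ (G : Type u) [Group G] [Finite G], Cfsg.Agent.H52.Wc.LocalThm p G)
    {S : Subgroup Ω} [Finite S] (hS : IsPGroup p S) (F : FusionSystem S) (hF : F.IsSaturated p)
    (N : FusionSystem (normalizerIn S (Cfsg.thompsonSubgroupAOf S)))
    (hN : F.IsNormalizerSystem (Cfsg.thompsonSubgroupAOf S) N) :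
    Subgroup.closure ((fun z : Ω => z ^ p) ''
      ((S ⊓ Subgroup.centralizer (S : Set Ω) : Subgroup Ω) : Set Ω)) ⊓ N.center ≤ F.center ∧
    (p ≠ 2 ∨ F.IsSectionFree p (Equiv.Perm (Fin 4)) → N.center = F.center) := by
  have hW2 : ∀ (Q R : Type u) [Group Q] [Group R] [Finite Q], IsPGroup p Q →
      ∀ φ : Q ≃* R, (Cfsg.thompsonSubgroupA Q).map φ.toMonoidHom = Cfsg.thompsonSubgroupA R :=
    fun Q R _ _ _ _ φ => Cfsg.Agent.H38.thompsonA_map φ
  have hWZ : ∀ (Q : Type u) [Group Q] [Finite Q], IsPGroup p Q →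
      Subgroup.center Q ≤ Cfsg.thompsonSubgroupA Q :=
    fun Q _ _ _ => Cfsg.Agent.H86.center_le_thompsonSubgroupA Q
  refine ⟨?_, ?_⟩
  · exact wc_pow_center (W := fun (Q : Type u) [Group Q] => Cfsg.thompsonSubgroupA Q) hW2 hWZ
      (fun G _ _ P hnot => Cfsg.Agent.H86.thompsonA_quadratic P hnot) hS F hF N hN
  · rintro (hp | hfree)
    · refine center_eq_of_fix (W := fun (Q : Type u) [Group Q] => Cfsg.thompsonSubgroupA Q) hW2 hWZ
        hS F hF ?_ N hN
      intro x hxS hxZ hWS P f hf hxP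
      exact wc_main2 (W := fun (Q : Type u) [Group Q] => Cfsg.thompsonSubgroupA Q) hW2 hWZ
        (Nat.card S) S rfl hS F hF hxS hxZ x hxS (locHyp_of_localThm hLT hp x) hxZ hWS P f hf hxP
    · refine center_eq_of_fix (W := fun (Q : Type u) [Group Q] => Cfsg.thompsonSubgroupA Q) hW2 hWZ
        hS F hF ?_ N hN
      intro x hxS hxZ hWS P f hf hxP
      exact wc_main3 (W := fun (Q : Type u) [Group Q] => Cfsg.thompsonSubgroupA Q) hW2 hWZ
        (Nat.card S) S rfl hS F hF hfree hxS hxZ x hxS (locHypF_of_localThm hLT x) hxZ hWS P f hf hxP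

end Cfsg.Agent.H90
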