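import Cfsg.Agent.H87.NKSat
import Cfsg.Agent.H87.NKApp

set_option autoImplicit false

/-!
The `K`-normalizer fusion system `N_F^K(Q)` for an arbitrary subgroup `K ≤ Aut(Q)`, as a fusion
system over `N_S^K(Q)`, and transport of `K`-normalizers along maps of the system.
-/

namespace Cfsg.Agent.H90

open Cfsg Cfsg.FusionSystem Cfsg.Agent.H86 Cfsg.Agent.H87

variable {Ω : Type*} [Group Ω] {S : Subgroup Ω}

/-- A map on `P ⊔ Q` sending `P` into `P'` and acting on `Q` as an automorphism sends `P ⊔ Q`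
into `P' ⊔ Q`. -/
lemma maps_sup_of_aut {F : FusionSystem S} {P P' Q : Subgroup Ω} {f : Ω → Ω} (hf : Mor F (P ⊔ Q) f)
    (hP : ∀ x ∈ P, f x ∈ P') {κ : MulAut Q} (hQ : ∀ x ∈ Q, f x = autFun Q κ x) :
    ∀ y ∈ P ⊔ Q, f y ∈ P' ⊔ Q := by
  intro y hy
  have h1 := hf.mem_imgS_of_mem hy
  rw [hf.imgS_sup] at h1
  refine (sup_le ?_ ?_ : imgS P f ⊔ imgS Q f ≤ P' ⊔ Q) h1
  · intro z hz
    obtain ⟨x, hx, rfl⟩ := (hf.restrict le_sup_left).mem_imgS.1 hz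
    exact Subgroup.mem_sup_left (hP x hx)
  · intro z hz
    obtain ⟨x, hx, rfl⟩ := (hf.restrict le_sup_right).mem_imgS.1 hz
    rw [hQ x hx]
    exact Subgroup.mem_sup_right (autFun_mem κ hx)

/-- The `K`-normalizer system `N_F^K(Q)` over `N_S^K(Q)`. -/
def nkSys (F : FusionSystem S) (Q : Subgroup Ω) (hQ : Q ≤ S) (K : Subgroup (MulAut Q)) :
    FusionSystem (nkSub S Q K (fun x => x)) where
  Hom P := {φ | P ≤ nkSub S Q K (fun x => x) ∧ (∀ x : P, φ x ∈ nkSub S Q K (fun x => x)) ∧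
    ∃ f, Mor F (P ⊔ Q) f ∧ (∀ x : P, f x = φ x) ∧ ∃ κ ∈ K, ∀ x ∈ Q, f x = autFun Q κ x}
  le_of_mem := by
    rintro P φ ⟨hP, hφ, -⟩
    exact ⟨hP, hφ⟩
  injective_of_mem := by
    rintro P φ ⟨-, -, f, hf, hfφ, -⟩ x y hxy
    rw [← hfφ, ← hfφ] at hxy
    exact Subtype.ext (hf.injOn (Subgroup.mem_sup_left x.2) (Subgroup.mem_sup_left y.2) hxy)
  conj_mem := by
    intro P g hP hg
    have hg' := hg
    obtain ⟨hgS, κ, hκ, hrel⟩ := hg'
    refine ⟨hP, fun x => ?_, fun x => g * x * g⁻¹,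
      Mor.conj F (sup_le (hP.trans (nkSub_le _ _ _)) hQ) hgS, fun x => rfl, κ, hκ,
      fun x hx => hrel x hx⟩
    show g * (x : Ω) * g⁻¹ ∈ _
    exact mul_mem (mul_mem hg (hP x.2)) (inv_mem hg)
  comp_mem := by
    rintro P P' φ ψ ⟨hP, hφ, f, hf, hfφ, κ, hκ, hfκ⟩ ⟨hP', hψ, f', hf', hf'ψ, κ', hκ', hf'κ'⟩ h
    refine ⟨hP, fun x => hψ _, f' ∘ f,
      hf.comp hf' (maps_sup_of_aut hf (fun x hx => by rw [hfφ ⟨x, hx⟩]; exact h ⟨x, hx⟩) hfκ),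
      fun x => ?_, κ' * κ, K.mul_mem hκ' hκ, fun x hx => ?_⟩
    · show f' (f x) = ψ (φ.codRestrict P' h x)
      rw [hfφ, ← hf'ψ]
      rfl
    · show f' (f x) = _
      rw [hfκ x hx, hf'κ' _ (autFun_mem κ hx), autFun_mul _ _ hx]
  inv_mem := by
    rintro P φ ⟨hP, hφ, f, hf, hfφ, κ, hκ, hfκ⟩
    have hfQm : Mor F Q f := hf.restrict le_sup_right
    have hrange : imgS P f = φ.range := by
      ext y
      rw [(hf.restrict le_sup_left).mem_imgS]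
      constructor
      · rintro ⟨x, hx, rfl⟩
        exact ⟨⟨x, hx⟩, (hfφ ⟨x, hx⟩).symm⟩
      · rintro ⟨x, rfl⟩
        exact ⟨x, x.2, hfφ x⟩
    have hfQ : imgS Q f = Q := by
      rw [hfQm.imgS_congr hfκ]
      exact imgS_autFun (hfQm.congr hfκ)
    have himg : imgS (P ⊔ Q) f = φ.range ⊔ Q := by rw [hf.imgS_sup, hrange, hfQ]
    have hinv : Mor F (φ.range ⊔ Q) (invOn (P ⊔ Q) f) := by
      have := hf.inv
      rwa [himg] at this
    obtain ⟨ψ, hψ, hψf⟩ := hinv.restrict (le_sup_left : φ.range ≤ φ.range ⊔ Q)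
    have hψx : ∀ x : P, ψ ⟨φ x, ⟨x, rfl⟩⟩ = (x : Ω) := by
      intro x
      rw [hψf]
      show invOn (P ⊔ Q) f (φ x) = x
      rw [← hfφ x]
      exact invOn_apply hf.injOn (Subgroup.mem_sup_left x.2)
    refine ⟨ψ, ⟨?_, ?_, invOn (P ⊔ Q) f, hinv, fun y => (hψf y).symm, κ⁻¹, K.inv_mem hκ,
      fun x hx => ?_⟩, hψx⟩
    · rintro _ ⟨x, rfl⟩
      exact hφ x
    · rintro ⟨_, x, rfl⟩
      rw [hψx x]
      exact hP x.2
    · have h1 : f (autFun Q κ⁻¹ x) = x := by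
        rw [hfκ _ (autFun_mem κ⁻¹ hx), autFun_apply_inv κ hx]
      conv_lhs => rw [← h1]
      exact invOn_apply hf.injOn (Subgroup.mem_sup_right (autFun_mem κ⁻¹ hx))

theorem nkSys_data (F : FusionSystem S) (Q : Subgroup Ω) (hQ : Q ≤ S) (K : Subgroup (MulAut Q)) :
    NKData F Q K (nkSub S Q K (fun x => x)) (nkSys F Q hQ K) := by
  refine ⟨hQ, fun g => Iff.rfl, fun P f => ?_⟩
  constructor
  · rintro ⟨φ, ⟨hP, hφ, f', hf', hf'φ, κ, hκ, hf'κ⟩, hφf⟩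
    exact ⟨hP, fun x hx => by rw [← hφf ⟨x, hx⟩]; exact hφ ⟨x, hx⟩, f', hf',
      fun x hx => by rw [← hφf ⟨x, hx⟩]; exact hf'φ ⟨x, hx⟩, κ, hκ, hf'κ⟩
  · rintro ⟨hP, hf, f', hf', hf'f, κ, hκ, hf'κ⟩
    obtain ⟨φ, hφ, hφf'⟩ := hf'.restrict (le_sup_left : P ≤ P ⊔ Q)
    exact ⟨φ, ⟨hP, fun x => by rw [hφf' x, hf'f x x.2]; exact hf x x.2, f', hf',
      fun x => (hφf' x).symm, κ, hκ, hf'κ⟩, fun x => (hφf' x).trans (hf'f x x.2)⟩

/-! ### Transport -/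

/-- `nkSub S R K f` depends on `f` only through its values on `R`. -/
theorem nkSub_congr {R : Subgroup Ω} (K : Subgroup (MulAut R)) {f f' : Ω → Ω}
    (h : ∀ x ∈ R, f x = f' x) : nkSub S R K f = nkSub S R K f' := by
  ext g
  rw [mem_nkSub_iff, mem_nkSub_iff]
  refine and_congr Iff.rfl (exists_congr fun κ => and_congr Iff.rfl
    (forall_congr' fun x => forall_congr' fun hx => ?_))
  rw [h x hx, h _ (autFun_mem κ hx)]

/-- The transported automorphism acts as expected. -/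
theorem autFun_congr_isoEquiv {F : FusionSystem S} {R R' : Subgroup Ω} {θ : Ω → Ω}
    (hθ : Mor F R θ) (himg : imgS R θ = R') (κ : MulAut R) {x : Ω} (hx : x ∈ R) :
    autFun R' (MulAut.congr (isoEquiv hθ himg) κ) (θ x) = θ (autFun R κ x) := by
  have hmem : θ x ∈ R' := himg ▸ hθ.mem_imgS_of_mem hx
  have e1 : (⟨θ x, hmem⟩ : R') = isoEquiv hθ himg ⟨x, hx⟩ :=
    Subtype.ext (isoEquiv_apply hθ himg ⟨x, hx⟩).symm
  rw [autFun_of_mem _ hmem, e1, congr_apply_apply, isoEquiv_apply, autFun_of_mem κ hx]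

/-- The `K`-normalizer of the transported pair. -/
theorem nkSub_map_congr {F : FusionSystem S} {R R' : Subgroup Ω} {θ : Ω → Ω} (hθ : Mor F R θ)
    (himg : imgS R θ = R') (K : Subgroup (MulAut R)) (f : Ω → Ω) :
    nkSub S R' (K.map (MulAut.congr (isoEquiv hθ himg)).toMonoidHom) f = nkSub S R K (f ∘ θ) := by
  ext g
  rw [mem_nkSub_iff, mem_nkSub_iff]
  refine and_congr Iff.rfl ?_
  constructor
  · rintro ⟨_, ⟨κ, hκ, rfl⟩, h⟩
    refine ⟨κ, hκ, fun x hx => ?_⟩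
    have h1 := h (θ x) (himg ▸ hθ.mem_imgS_of_mem hx)
    show g * f (θ x) * g⁻¹ = f (θ (autFun R κ x))
    rw [h1]
    exact congrArg f (autFun_congr_isoEquiv hθ himg κ hx)
  · rintro ⟨κ, hκ, h⟩
    refine ⟨_, Subgroup.mem_map_of_mem _ hκ, fun y hy => ?_⟩
    rw [← himg] at hy
    obtain ⟨x, hx, rfl⟩ := hθ.mem_imgS.1 hy
    have h1 : g * f (θ x) * g⁻¹ = f (θ (autFun R κ x)) := h x hx
    rw [h1]
    exact (congrArg f (autFun_congr_isoEquiv hθ himg κ hx)).symm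

/-- The `K`-normalizer for `K = Aut_U(A)`. -/
theorem mem_nkSub_autInducedBy {U A : Subgroup Ω} (hn : ∀ u ∈ U, ∀ a ∈ A, u * a * u⁻¹ ∈ A)
    (f : Ω → Ω) (g : Ω) :
    g ∈ nkSub S A (autInducedBy U A) f ↔
      g ∈ S ∧ ∃ u ∈ U, ∀ x ∈ A, g * f x * g⁻¹ = f (u * x * u⁻¹) := by
  rw [mem_nkSub_iff]
  refine and_congr Iff.rfl ?_
  constructor
  · rintro ⟨κ, hκ, h⟩
    obtain ⟨u, hu, hκu⟩ := (mem_autInducedBy_iff U A κ).1 hκ
    refine ⟨u, hu, fun x hx => ?_⟩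
    rw [h x hx, autFun_of_mem κ hx, hκu]
  · rintro ⟨u, hu, h⟩
    have hun : u ∈ Subgroup.normalizer (A : Set Ω) :=
      mem_normalizer_of_forall_conj_mem (fun a ha => hn u hu a ha) (fun a ha => by
        have := hn u⁻¹ (U.inv_mem hu) a ha
        rwa [inv_inv] at this)
    obtain ⟨κ, hκ⟩ := exists_conjAut hun
    refine ⟨κ, (mem_autInducedBy_iff U A κ).2 ⟨u, hu, hκ⟩, fun x hx => ?_⟩
    rw [h x hx, autFun_of_mem κ hx, hκ]

/-- The `K`-normalizer of the image pair `(φ(U), φ(A))`. -/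
theorem nkSub_autInducedBy_img {F : FusionSystem S} {U A : Subgroup Ω} (hAU : A ≤ U)
    (hn : ∀ u ∈ U, ∀ a ∈ A, u * a * u⁻¹ ∈ A) {φ : Ω → Ω} (hφ : Mor F U φ) (f : Ω → Ω) :
    nkSub S (imgS A φ) (autInducedBy (imgS U φ) (imgS A φ)) f =
      nkSub S A (autInducedBy U A) (f ∘ φ) := by
  have hφA : Mor F A φ := hφ.restrict hAU
  have hconj : ∀ u ∈ U, ∀ x ∈ A, φ (u * x * u⁻¹) = φ u * φ x * (φ u)⁻¹ := by
    intro u hu x hx
    rw [hφ.map_mul (U.mul_mem hu (hAU hx)) (U.inv_mem hu), hφ.map_mul hu (hAU hx), hφ.map_inv hu]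
  have hn' : ∀ u ∈ imgS U φ, ∀ a ∈ imgS A φ, u * a * u⁻¹ ∈ imgS A φ := by
    intro u hu a ha
    obtain ⟨u', hu', rfl⟩ := hφ.mem_imgS.1 hu
    obtain ⟨a', ha', rfl⟩ := hφA.mem_imgS.1 ha
    rw [← hconj u' hu' a' ha']
    exact hφA.mem_imgS_of_mem (hn u' hu' a' ha')
  ext g
  rw [mem_nkSub_autInducedBy hn', mem_nkSub_autInducedBy hn]
  refine and_congr Iff.rfl ?_
  constructor
  · rintro ⟨u, hu, h⟩
    obtain ⟨u', hu', rfl⟩ := hφ.mem_imgS.1 hu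
    refine ⟨u', hu', fun x hx => ?_⟩
    show g * f (φ x) * g⁻¹ = f (φ (u' * x * u'⁻¹))
    rw [h (φ x) (hφA.mem_imgS_of_mem hx), hconj u' hu' x hx]
  · rintro ⟨u, hu, h⟩
    refine ⟨φ u, hφ.mem_imgS_of_mem hu, fun y hy => ?_⟩
    obtain ⟨x, hx, rfl⟩ := hφA.mem_imgS.1 hy
    have h1 : g * f (φ x) * g⁻¹ = f (φ (u * x * u⁻¹)) := h x hx
    rw [h1, hconj u hu x hx]

end Cfsg.Agent.H90
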