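import Cfsg.Agent.H86.FusChain

set_option autoImplicit false
set_option maxHeartbeats 1000000

/-!
`R ⊴ F` iff every map of `F` on a subgroup of `R` extends to an automorphism of `R` in `F`.
-/

namespace Cfsg.Agent.H90

open Cfsg Cfsg.FusionSystem Cfsg.Agent.H86

variable {Ω : Type*} [Group Ω] {S : Subgroup Ω}

theorem isNormal_of_extends_aut [Finite S] {p : ℕ} [Fact p.Prime] (hS : IsPGroup p S)
    {F : FusionSystem S} (hF : F.IsSaturated p) {R : Subgroup Ω} (hRS : R ≤ S)
    (h : ∀ P : Subgroup Ω, P ≤ R → ∀ f : Ω → Ω, Mor F P f →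
      ∃ g, Mor F R g ∧ imgS R g = R ∧ ∀ x ∈ P, g x = f x) : F.IsNormal R := by
  haveI : Finite R := finite_of_le hRS
  have hRp : IsPGroup p R := hS.to_le hRS
  haveI : Group.IsNilpotent R := hRp.isNilpotent
  obtain ⟨n, hn⟩ := Group.IsNilpotent.nilpotent (G := R)
  have hchar : ∀ (K : Subgroup R), K.Characteristic → F.StronglyClosed (K.map R.subtype) := by
    intro K hK
    rw [stronglyClosed_iff]
    refine ⟨(Subgroup.map_subtype_le K).trans hRS, fun P f hP hf x hx => ?_⟩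
    obtain ⟨g, hg, himg, hgf⟩ := h P (hP.trans (Subgroup.map_subtype_le K)) f hf
    rw [← hgf x hx]
    obtain ⟨k, hk, rfl⟩ := Subgroup.mem_map.1 (hP hx)
    have h1 : (mkAut hg himg) k ∈ K :=
      (Subgroup.characteristic_iff_map_le.1 hK (mkAut hg himg)) (Subgroup.mem_map_of_mem _ hk)
    exact Subgroup.mem_map.2 ⟨mkAut hg himg k, h1, mkAut_apply hg himg k⟩
  have htop : (⊤ : Subgroup R).map R.subtype = R := by
    rw [← MonoidHom.range_eq_map, Subgroup.range_subtype]
  have hRsc : F.StronglyClosed R := by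
    have := hchar ⊤ inferInstance
    rwa [htop] at this
  refine isNormal_of_chain hS hF hRsc (fun j => (Subgroup.upperCentralSeries R j).map R.subtype) n ?_ ?_ ?_ ?_
  · simp
  · exact fun a b hab => Subgroup.map_mono (Subgroup.upperCentralSeries_mono R hab)
  · show (Subgroup.upperCentralSeries R n).map R.subtype = R
    rw [hn, htop]
  · intro j _
    refine ⟨hchar _ inferInstance, ?_⟩
    rw [Subgroup.commutator_le]
    intro g₁ hg₁ g₂ hg₂
    obtain ⟨z, hz, rfl⟩ := Subgroup.mem_map.1 hg₂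
    have h1 := Subgroup.mem_upperCentralSeries_succ_iff.1 hz ⟨g₁, hg₁⟩
    have h2 : (⟨g₁, hg₁⟩ : R) * z * (⟨g₁, hg₁⟩ : R)⁻¹ * z⁻¹ ∈ Subgroup.upperCentralSeries R j := by
      have := inv_mem h1
      convert this using 1
      group
    exact Subgroup.mem_map.2 ⟨_, h2, rfl⟩

theorem isNormal_iff_extends_aut [Finite S] {p : ℕ} [Fact p.Prime] (hS : IsPGroup p S)
    {F : FusionSystem S} (hF : F.IsSaturated p) {R : Subgroup Ω} (hRS : R ≤ S) :
    F.IsNormal R ↔ ∀ P : Subgroup Ω, P ≤ R → ∀ f : Ω → Ω, Mor F P f →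
      ∃ g, Mor F R g ∧ imgS R g = R ∧ ∀ x ∈ P, g x = f x := by
  constructor
  · intro hR P hPR f hf
    obtain ⟨f', hf', hf'f, hf'R⟩ := (isNormal_iff.1 hR).2 P f hf
    exact ⟨f', hf'.restrict le_sup_right, hf'R, hf'f⟩
  · exact isNormal_of_extends_aut hS hF hRS

end Cfsg.Agent.H90
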