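import Mathlib

/-!
# S2953, KILL2 case (b): the abstract core `r1_out`

Same statement as helper1's `Cfsg.Agent.H1.R1.r1_out` (board post 11052); independent proof.
-/

set_option autoImplicit false

namespace Cfsg.Agent.H90.R1

universe u

variable {G : Type u} [Group G]

/-- The central elements of `Q` of order at most two. -/
def omegaZ (Q : Subgroup G) : Subgroup G where
  carrier := {w | w ∈ Q ∧ (∀ q ∈ Q, w * q = q * w) ∧ w * w = 1}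
  one_mem' := ⟨Q.one_mem, fun q _ => by simp, by simp⟩
  mul_mem' := by
    rintro a b ⟨ha, hac, ha2⟩ ⟨hb, hbc, hb2⟩
    refine ⟨Q.mul_mem ha hb, fun q hq => ?_, ?_⟩
    · rw [mul_assoc, hbc q hq, ← mul_assoc, hac q hq, mul_assoc]
    · have h : a * b = b * a := hac b hb
      calc a * b * (a * b) = a * (b * a) * b := by group
        _ = a * (a * b) * b := by rw [h]
        _ = (a * a) * (b * b) := by group
        _ = 1 := by rw [ha2, hb2, one_mul]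
  inv_mem' := by
    rintro a ⟨ha, hac, ha2⟩
    have hinv : a⁻¹ = a := inv_eq_of_mul_eq_one_left ha2
    show a⁻¹ ∈ Q ∧ (∀ q ∈ Q, a⁻¹ * q = q * a⁻¹) ∧ a⁻¹ * a⁻¹ = 1
    rw [hinv]; exact ⟨ha, hac, ha2⟩

theorem mem_omegaZ {Q : Subgroup G} {w : G} :
    w ∈ omegaZ Q ↔ w ∈ Q ∧ (∀ q ∈ Q, w * q = q * w) ∧ w * w = 1 := Iff.rfl

theorem omegaZ_conj {Q : Subgroup G} {g w : G} (h1 : ∀ q ∈ Q, g * q * g⁻¹ ∈ Q)
    (h2 : ∀ q ∈ Q, g⁻¹ * q * g ∈ Q) (hw : w ∈ omegaZ Q) : g * w * g⁻¹ ∈ omegaZ Q := by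
  obtain ⟨hwQ, hwc, hw2⟩ := hw
  refine ⟨h1 w hwQ, fun q hq => ?_, ?_⟩
  · have h := hwc _ (h2 q hq)
    calc g * w * g⁻¹ * q = g * (w * (g⁻¹ * q * g)) * g⁻¹ := by group
      _ = g * ((g⁻¹ * q * g) * w) * g⁻¹ := by rw [h]
      _ = q * (g * w * g⁻¹) := by group
  · calc g * w * g⁻¹ * (g * w * g⁻¹) = g * (w * w) * g⁻¹ := by group
      _ = 1 := by rw [hw2]; group

/-- The elements normalizing `Q` and centralizing `Q` modulo `omegaZ Q`. -/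
def cmod (Q : Subgroup G) : Subgroup G where
  carrier := {g | (∀ q ∈ Q, g * q * g⁻¹ ∈ Q) ∧ (∀ q ∈ Q, g⁻¹ * q * g ∈ Q) ∧
    ∀ q ∈ Q, g * q * g⁻¹ * q⁻¹ ∈ omegaZ Q}
  one_mem' := by
    refine ⟨fun q hq => by simpa using hq, fun q hq => by simpa using hq, fun q _ => ?_⟩
    have : (1 : G) * q * 1⁻¹ * q⁻¹ = 1 := by group
    rw [this]; exact (omegaZ Q).one_mem
  mul_mem' := by
    rintro g h ⟨g1, g2, g3⟩ ⟨h1, h2, h3⟩
    refine ⟨fun q hq => ?_, fun q hq => ?_, fun q hq => ?_⟩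
    · have := g1 _ (h1 q hq)
      have e : g * h * q * (g * h)⁻¹ = g * (h * q * h⁻¹) * g⁻¹ := by group
      rw [e]; exact this
    · have := h2 _ (g2 q hq)
      have e : (g * h)⁻¹ * q * (g * h) = h⁻¹ * (g⁻¹ * q * g) * h := by group
      rw [e]; exact this
    · have a1 := omegaZ_conj g1 g2 (h3 q hq)
      have a2 := g3 q hq
      have e : g * h * q * (g * h)⁻¹ * q⁻¹
          = (g * (h * q * h⁻¹ * q⁻¹) * g⁻¹) * (g * q * g⁻¹ * q⁻¹) := by group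
      rw [e]; exact (omegaZ Q).mul_mem a1 a2
  inv_mem' := by
    rintro g ⟨g1, g2, g3⟩
    refine ⟨fun q hq => ?_, fun q hq => ?_, fun q hq => ?_⟩
    · have := g2 q hq
      simpa using this
    · have := g1 q hq
      simpa using this
    · have a := (omegaZ Q).inv_mem (g3 _ (g2 q hq))
      have e : g⁻¹ * q * g⁻¹⁻¹ * q⁻¹ = (g * (g⁻¹ * q * g) * g⁻¹ * (g⁻¹ * q * g)⁻¹)⁻¹ := by group
      rw [e]; exact a

theorem mem_cmod {Q : Subgroup G} {g : G} :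
    g ∈ cmod Q ↔ (∀ q ∈ Q, g * q * g⁻¹ ∈ Q) ∧ (∀ q ∈ Q, g⁻¹ * q * g ∈ Q) ∧
      ∀ q ∈ Q, g * q * g⁻¹ * q⁻¹ ∈ omegaZ Q := Iff.rfl

theorem cmod_conj {Q : Subgroup G} {n c : G} (h1 : ∀ q ∈ Q, n * q * n⁻¹ ∈ Q)
    (h2 : ∀ q ∈ Q, n⁻¹ * q * n ∈ Q) (hc : c ∈ cmod Q) : n * c * n⁻¹ ∈ cmod Q := by
  obtain ⟨c1, c2, c3⟩ := hc
  refine ⟨fun q hq => ?_, fun q hq => ?_, fun q hq => ?_⟩
  · have := h1 _ (c1 _ (h2 q hq))
    have e : n * c * n⁻¹ * q * (n * c * n⁻¹)⁻¹ = n * (c * (n⁻¹ * q * n) * c⁻¹) * n⁻¹ := by group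
    rw [e]; exact this
  · have := h1 _ (c2 _ (h2 q hq))
    have e : (n * c * n⁻¹)⁻¹ * q * (n * c * n⁻¹) = n * (c⁻¹ * (n⁻¹ * q * n) * c) * n⁻¹ := by group
    rw [e]; exact this
  · have := omegaZ_conj h1 h2 (c3 _ (h2 q hq))
    have e : n * c * n⁻¹ * q * (n * c * n⁻¹)⁻¹ * q⁻¹
        = n * (c * (n⁻¹ * q * n) * c⁻¹ * (n⁻¹ * q * n)⁻¹) * n⁻¹ := by group
    rw [e]; exact this

/-- Coset powers: if `k = o⁻¹ * c` with `o ∈ Q`, `c ∈ cmod Q`, then `k ^ n ∈ (o⁻¹) ^ n * cmod Q`. -/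
theorem pow_coset {Q : Subgroup G} {o c : G} (ho : o ∈ Q) (hc : c ∈ cmod Q) (n : ℕ) :
    ∃ c' ∈ cmod Q, (o⁻¹ * c) ^ n = (o⁻¹) ^ n * c' := by
  induction n with
  | zero => exact ⟨1, (cmod Q).one_mem, by simp⟩
  | succ n ih =>
    obtain ⟨c', hc', e⟩ := ih
    have hn1 : ∀ q ∈ Q, o * q * o⁻¹ ∈ Q := fun q hq => Q.mul_mem (Q.mul_mem ho hq) (Q.inv_mem ho)
    have hn2 : ∀ q ∈ Q, o⁻¹ * q * o ∈ Q := fun q hq => Q.mul_mem (Q.mul_mem (Q.inv_mem ho) hq) ho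
    refine ⟨o * c' * o⁻¹ * c, (cmod Q).mul_mem (cmod_conj hn1 hn2 hc') hc, ?_⟩
    rw [pow_succ, e, pow_succ]; group

theorem aux_abc (a b c : G) (h : a * b * c = 1) (hbc : b * c = c * b) (hb : b * b = 1) :
    a * c = b := by
  have h1 : a * c * b = 1 := by
    calc a * c * b = a * (c * b) := by group
      _ = a * (b * c) := by rw [hbc]
      _ = a * b * c := by group
      _ = 1 := h
  have h2 : b⁻¹ = b := inv_eq_of_mul_eq_one_left hb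
  rw [← h2]; exact eq_inv_of_mul_eq_one_left h1

/-- The core, with only the hypotheses that are used. -/
theorem r1_core [Finite G] (T' Q₁ : Subgroup G) (z v k s : G)
    (hQT : Q₁ ≤ T') (hT2 : IsPGroup 2 ↥T') (hvT : v ∈ T')
    (hTQv : ∀ t ∈ T', t ∈ Q₁ ∨ t * v ∈ Q₁) (hv2 : v * v = 1) (hz2 : z * z = 1) (hzQ : z ∈ Q₁)
    (hzT : ∀ t ∈ T', t * z = z * t)
    (hQv : ∀ q ∈ Q₁, v * q * v⁻¹ = q ∨ v * q * v⁻¹ = q * z)
    (hk3 : k ^ 3 = 1) (hkz : k * z * k⁻¹ ≠ z) (hkQ : ∀ q ∈ Q₁, k * q * k⁻¹ ∈ Q₁)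
    (hvk' : v * k * v⁻¹ * k ∈ Q₁)
    (hsT : ∀ t ∈ T', s * t * s⁻¹ ∈ T') (hsv : s * v * s⁻¹ = v ∨ s * v * s⁻¹ = v * z) :
    ∀ q ∈ Q₁, s * q * s⁻¹ ∈ Q₁ := by
  have hvinv : v⁻¹ = v := inv_eq_of_mul_eq_one_left hv2
  have hk3' : k * k * k = 1 := by rw [← hk3, pow_succ, pow_two]
  have hkk : k * k = k⁻¹ := by
    symm; apply inv_eq_of_mul_eq_one_right
    rw [← mul_assoc]; exact hk3'
  have hkk' : k⁻¹ * k⁻¹ = k := by rw [← mul_inv_rev, hkk, inv_inv]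
  have hkQ' : ∀ q ∈ Q₁, k⁻¹ * q * k ∈ Q₁ := by
    intro q hq
    have h := hkQ _ (hkQ q hq)
    have e : k⁻¹ * q * k = k * (k * q * k⁻¹) * k⁻¹ := by
      calc k⁻¹ * q * k = (k * k) * q * (k⁻¹ * k⁻¹) := by rw [hkk, hkk']
        _ = k * (k * q * k⁻¹) * k⁻¹ := by group
    rw [e]; exact h
  have hvQ1 : ∀ q ∈ Q₁, v * q * v⁻¹ ∈ Q₁ := by
    intro q hq
    rcases hQv q hq with h | h
    · rw [h]; exact hq
    · rw [h]; exact Q₁.mul_mem hq hzQ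
  have hvQ2 : ∀ q ∈ Q₁, v⁻¹ * q * v ∈ Q₁ := by
    intro q hq
    have h := hvQ1 q hq
    rw [hvinv] at h ⊢
    exact h
  have hzΩ : z ∈ omegaZ Q₁ := ⟨hzQ, fun q hq => (hzT q (hQT hq)).symm, hz2⟩
  have hvC : v ∈ cmod Q₁ := by
    refine ⟨hvQ1, hvQ2, fun q hq => ?_⟩
    rcases hQv q hq with h | h
    · rw [h, mul_inv_cancel]; exact (omegaZ Q₁).one_mem
    · rw [h]
      have e : q * z * q⁻¹ = z := by
        rw [hzT q (hQT hq)]; group
      rw [e]; exact hzΩ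
  obtain ⟨o, ho⟩ : ∃ o, o = v * k * v⁻¹ * k := ⟨_, rfl⟩
  have hoQ : o ∈ Q₁ := by rw [ho]; exact hvk'
  have hkvC : k * v * k⁻¹ ∈ cmod Q₁ := cmod_conj hkQ hkQ' hvC
  have hokC : o * k ∈ cmod Q₁ := by
    have h := (cmod Q₁).mul_mem hvC hkvC
    have e : o * k = v * (k * v * k⁻¹) := by
      calc o * k = v * k * v⁻¹ * (k * k) := by rw [ho]; group
        _ = v * k * v * k⁻¹ := by rw [hkk, hvinv]
        _ = v * (k * v * k⁻¹) := by group
    rw [e]; exact h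
  have hkC : k ∈ cmod Q₁ := by
    obtain ⟨e, he⟩ := hT2 ⟨o, hQT hoQ⟩
    have he' : o ^ 2 ^ e = 1 := by
      have h := congrArg Subtype.val he
      simpa using h
    obtain ⟨c', hc', hpow⟩ := pow_coset hoQ hokC (4 ^ e)
    have h1 : o⁻¹ * (o * k) = k := by group
    rw [h1] at hpow
    have h2 : (o⁻¹) ^ 4 ^ e = 1 := by
      have h4 : (4 : ℕ) ^ e = 2 ^ e * 2 ^ e := by
        rw [← pow_add, show (4 : ℕ) = 2 ^ 2 from rfl, ← pow_mul]
        congr 1; omega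
      rw [inv_pow, h4, pow_mul, he', one_pow, inv_one]
    have h3 : k ^ 4 ^ e = k := by
      have hm : 4 ^ e % 3 = 1 := by
        rw [Nat.pow_mod]; norm_num
      have hd := Nat.div_add_mod (4 ^ e) 3
      rw [hm] at hd
      rw [← hd, pow_add, pow_mul, hk3, one_pow, one_mul, pow_one]
    rw [h2, h3, one_mul] at hpow
    rw [hpow]; exact hc'
  obtain ⟨z1, hz1⟩ : ∃ z1, z1 = k * z * k⁻¹ := ⟨_, rfl⟩
  obtain ⟨z2, hz2'⟩ : ∃ z2, z2 = k⁻¹ * z * k := ⟨_, rfl⟩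
  have hz1Ω : z1 ∈ omegaZ Q₁ := by rw [hz1]; exact omegaZ_conj hkQ hkQ' hzΩ
  have hz2Ω : z2 ∈ omegaZ Q₁ := by
    have h := omegaZ_conj (g := k⁻¹) (fun q hq => by simpa using hkQ' q hq)
      (fun q hq => by simpa using hkQ q hq) hzΩ
    rw [hz2']; simpa using h
  have hz1z : z1 ≠ z := by rw [hz1]; exact hkz
  have hkz2 : k * z2 * k⁻¹ = z := by rw [hz2']; group
  have hkz1 : k * z1 * k⁻¹ = z2 := by
    rw [hz1, hz2']
    calc k * (k * z * k⁻¹) * k⁻¹ = (k * k) * z * (k⁻¹ * k⁻¹) := by group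
      _ = k⁻¹ * z * k := by rw [hkk, hkk']
  have hz12 : z1 ≠ z2 := by
    intro h
    rw [h, hkz2] at hkz1
    exact hz1z (h.trans hkz1.symm)
  have hvkv : v * k * v⁻¹ = o * k⁻¹ := by rw [ho]; group
  have hvz : v * z * v⁻¹ = z := by
    rw [hzT v hvT]; group
  have hvz1 : v * z1 * v⁻¹ = z2 := by
    have e : v * z1 * v⁻¹ = (v * k * v⁻¹) * (v * z * v⁻¹) * (v * k * v⁻¹)⁻¹ := by
      rw [hz1]; group
    rw [e, hvz, hvkv]
    have e2 : o * k⁻¹ * z * (o * k⁻¹)⁻¹ = o * (k⁻¹ * z * k) * o⁻¹ := by group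
    rw [e2, ← hz2']
    have hc : z2 * o = o * z2 := hz2Ω.2.1 o hoQ
    rw [← hc]; group
  have hvz1' : v * z1 * v⁻¹ = z1 * z := by
    rcases hQv z1 hz1Ω.1 with h | h
    · exact absurd (hvz1.symm.trans h).symm hz12
    · exact h
  have cm : ∀ a b : G, k * (a * b) * k⁻¹ = (k * a * k⁻¹) * (k * b * k⁻¹) := fun a b => by group
  have c3 : ∀ x : G, k * (k * (k * x * k⁻¹) * k⁻¹) * k⁻¹ = x := by
    intro x
    have h : k * (k * (k * x * k⁻¹) * k⁻¹) * k⁻¹ = (k * k * k) * x * (k * k * k)⁻¹ := by group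
    rw [h, hk3']; group
  have hdec : ∀ q ∈ Q₁, ∃ w ∈ omegaZ Q₁, ∃ r ∈ Q₁, k * r * k⁻¹ = r ∧ q = w * r := by
    intro q hq
    obtain ⟨w, hwΩ, hφq⟩ : ∃ w ∈ omegaZ Q₁, k * q * k⁻¹ = w * q :=
      ⟨k * q * k⁻¹ * q⁻¹, hkC.2.2 q hq, by group⟩
    obtain ⟨w', hw'⟩ : ∃ w', w' = k * w * k⁻¹ := ⟨_, rfl⟩
    obtain ⟨w'', hw''⟩ : ∃ w'', w'' = k * w' * k⁻¹ := ⟨_, rfl⟩
    have hw'Ω : w' ∈ omegaZ Q₁ := by rw [hw']; exact omegaZ_conj hkQ hkQ' hwΩ
    have hw''Ω : w'' ∈ omegaZ Q₁ := by rw [hw'']; exact omegaZ_conj hkQ hkQ' hw'Ω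
    have e1 : k * (w * q) * k⁻¹ = w' * (w * q) := by rw [cm w q, hφq, ← hw']
    have e2 : k * (w' * (w * q)) * k⁻¹ = w'' * (w' * (w * q)) := by
      rw [cm w' (w * q), e1, ← hw'']
    have h3 := c3 q
    rw [hφq, e1, e2] at h3
    have hnorm : w'' * w' * w = 1 := by
      have h : w'' * w' * w = (w'' * (w' * (w * q))) * q⁻¹ := by group
      rw [h, h3]; group
    have hc : w' * w = w * w' := hw'Ω.2.1 w hwΩ.1
    have h5 : w'' * w = w' := aux_abc w'' w' w hnorm hc hw'Ω.2.2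
    refine ⟨w', hw'Ω, w' * q, Q₁.mul_mem hw'Ω.1 hq, ?_, ?_⟩
    · rw [cm w' q, hφq, ← hw'', ← mul_assoc, h5]
    · rw [← mul_assoc, hw'Ω.2.2, one_mul]
  have hfix : ∀ r ∈ Q₁, k * r * k⁻¹ = r → v * r * v⁻¹ = r := by
    intro r hr hkr
    rcases hQv r hr with h | h
    · exact h
    · exfalso
      have hkr' : k⁻¹ * r * k = r := by
        calc k⁻¹ * r * k = k⁻¹ * (k * r * k⁻¹) * k := by rw [hkr]
          _ = r := by group
      have e1 : (v * k * v⁻¹) * (v * r * v⁻¹) * (v * k * v⁻¹)⁻¹ = v * r * v⁻¹ := by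
        have h' : (v * k * v⁻¹) * (v * r * v⁻¹) * (v * k * v⁻¹)⁻¹ = v * (k * r * k⁻¹) * v⁻¹ := by
          group
        rw [h', hkr]
      rw [hvkv, h] at e1
      have e2 : o * k⁻¹ * (r * z) * (o * k⁻¹)⁻¹ = o * ((k⁻¹ * r * k) * (k⁻¹ * z * k)) * o⁻¹ := by
        group
      rw [e2, hkr', ← hz2'] at e1
      have hz2c : z2 * o⁻¹ = o⁻¹ * z2 := hz2Ω.2.1 _ (Q₁.inv_mem hoQ)
      have h6 : o * (r * z2) * o⁻¹ = (o * r * o⁻¹) * z2 := by
        calc o * (r * z2) * o⁻¹ = o * r * (z2 * o⁻¹) := by group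
          _ = o * r * (o⁻¹ * z2) := by rw [hz2c]
          _ = (o * r * o⁻¹) * z2 := by group
      rw [h6] at e1
      have hA : o * r * o⁻¹ = r * z * z2 := by
        calc o * r * o⁻¹ = (o * r * o⁻¹ * z2) * z2 := by rw [mul_assoc _ z2 z2, hz2Ω.2.2, mul_one]
          _ = r * z * z2 := by rw [e1]
      obtain ⟨wo, hwoΩ, hwo⟩ : ∃ wo ∈ omegaZ Q₁, k * o * k⁻¹ = wo * o :=
        ⟨k * o * k⁻¹ * o⁻¹, hkC.2.2 o hoQ, by group⟩
      have h7 : k * (o * r * o⁻¹) * k⁻¹ = o * r * o⁻¹ := by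
        have h' : k * (o * r * o⁻¹) * k⁻¹ = (k * o * k⁻¹) * (k * r * k⁻¹) * (k * o * k⁻¹)⁻¹ := by
          group
        rw [h', hkr, hwo]
        have hx : o * r * o⁻¹ ∈ Q₁ := Q₁.mul_mem (Q₁.mul_mem hoQ hr) (Q₁.inv_mem hoQ)
        have hc := hwoΩ.2.1 _ hx
        calc wo * o * r * (wo * o)⁻¹ = (wo * (o * r * o⁻¹)) * wo⁻¹ := by group
          _ = (o * r * o⁻¹ * wo) * wo⁻¹ := by rw [hc]
          _ = o * r * o⁻¹ := by group
      have h8 : k * (r * z * z2) * k⁻¹ = r * z1 * z := by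
        have h' : k * (r * z * z2) * k⁻¹ = (k * r * k⁻¹) * (k * z * k⁻¹) * (k * z2 * k⁻¹) := by
          group
        rw [h', hkr, hkz2, ← hz1]
      rw [hA, h8] at h7
      have hzz2 : z * z2 = z2 * z := hzΩ.2.1 z2 hz2Ω.1
      have h9 : z1 * z = z2 * z := by
        have h' : r * (z1 * z) = r * (z2 * z) := by
          rw [← mul_assoc, h7, mul_assoc, hzz2]
        exact mul_left_cancel h'
      exact hz12 (mul_right_cancel h9)
  obtain ⟨y, hy⟩ : ∃ y, y = s * z1 * s⁻¹ := ⟨_, rfl⟩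
  have hyT : y ∈ T' := by rw [hy]; exact hsT _ (hQT hz1Ω.1)
  have hy2 : y * y = 1 := by
    rw [hy]
    calc s * z1 * s⁻¹ * (s * z1 * s⁻¹) = s * (z1 * z1) * s⁻¹ := by group
      _ = 1 := by rw [hz1Ω.2.2]; group
  have hTc : ∀ t ∈ T', v * t * v⁻¹ = t ∨ v * t * v⁻¹ = t * z := by
    intro t ht
    rcases hTQv t ht with h | h
    · exact hQv t h
    · have hzv : z * v = v * z := (hzT v hvT).symm
      rcases hQv _ h with h' | h'
      · left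
        have h'' : v * t = t * v := by
          calc v * t = v * (t * v) * v⁻¹ := by group
            _ = t * v := h'
        rw [h'']; group
      · right
        have h'' : v * t = t * v * z := by
          calc v * t = v * (t * v) * v⁻¹ := by group
            _ = t * v * z := h'
        rw [h'']
        calc t * v * z * v⁻¹ = t * (v * z) * v⁻¹ := by group
          _ = t * (z * v) * v⁻¹ := by rw [hzv]
          _ = t * z := by group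
  have hz_ne : z ≠ 1 := by
    intro h; apply hkz; rw [h]; group
  have hvy : v * y * v⁻¹ = y * z := by
    have e0 : (s * v * s⁻¹) * y * (s * v * s⁻¹)⁻¹ = y * (s * z * s⁻¹) := by
      have h' : (s * v * s⁻¹) * y * (s * v * s⁻¹)⁻¹ = s * (v * z1 * v⁻¹) * s⁻¹ := by
        rw [hy]; group
      rw [h', hvz1', hy]; group
    have e1 : (s * v * s⁻¹) * y * (s * v * s⁻¹)⁻¹ = v * y * v⁻¹ := by
      rcases hsv with h | h
      · rw [h]
      · rw [h]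
        have hyz : y * z = z * y := hzT y hyT
        calc v * z * y * (v * z)⁻¹ = v * (z * y) * z⁻¹ * v⁻¹ := by group
          _ = v * (y * z) * z⁻¹ * v⁻¹ := by rw [hyz]
          _ = v * y * v⁻¹ := by group
    rw [e1] at e0
    rcases hTc y hyT with h | h
    · exfalso
      rw [h] at e0
      have h1 : s * z * s⁻¹ = 1 := by
        have h' : y * (s * z * s⁻¹) = y * 1 := by rw [mul_one]; exact e0.symm
        exact mul_left_cancel h'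
      apply hz_ne
      calc z = s⁻¹ * (s * z * s⁻¹) * s := by group
        _ = 1 := by rw [h1]; group
    · exact h
  have hnofix : ∀ x : G, k * x * k⁻¹ = x → x ≠ z := by
    intro x hx hxz; rw [hxz] at hx; exact hkz hx
  have hkey : ∀ t ∈ T', t * y = y * t → t ∈ Q₁ := by
    intro t ht hty
    by_contra htQ
    have hq : t * v ∈ Q₁ := (hTQv t ht).resolve_left htQ
    rcases hTQv y hyT with hyQ | hyQ
    · obtain ⟨wy, hwy, ry, hry, hkry, hyeq⟩ := hdec y hyQ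
      obtain ⟨wq, hwq, rq, hrq, hkrq, hqeq⟩ := hdec _ hq
      have h1 : (t * v) * y * (t * v)⁻¹ = y * z := by
        have hty' : t * y * t⁻¹ = y := by rw [hty]; group
        have htz : t * z * t⁻¹ = z := by rw [hzT t ht]; group
        calc (t * v) * y * (t * v)⁻¹ = t * (v * y * v⁻¹) * t⁻¹ := by group
          _ = t * (y * z) * t⁻¹ := by rw [hvy]
          _ = (t * y * t⁻¹) * (t * z * t⁻¹) := by group
          _ = y * z := by rw [hty', htz]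
      rw [hqeq, hyeq] at h1
      have hc1 : wy * rq = rq * wy := hwy.2.1 rq hrq
      have hX : wy * (rq * ry * rq⁻¹) ∈ Q₁ :=
        Q₁.mul_mem hwy.1 (Q₁.mul_mem (Q₁.mul_mem hrq hry) (Q₁.inv_mem hrq))
      have hc2 := hwq.2.1 _ hX
      have h2 : wq * rq * (wy * ry) * (wq * rq)⁻¹ = wy * (rq * ry * rq⁻¹) := by
        calc wq * rq * (wy * ry) * (wq * rq)⁻¹ = wq * ((rq * wy) * ry * rq⁻¹) * wq⁻¹ := by group
          _ = wq * ((wy * rq) * ry * rq⁻¹) * wq⁻¹ := by rw [hc1]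
          _ = (wq * (wy * (rq * ry * rq⁻¹))) * wq⁻¹ := by group
          _ = (wy * (rq * ry * rq⁻¹) * wq) * wq⁻¹ := by rw [hc2]
          _ = wy * (rq * ry * rq⁻¹) := by group
      rw [h2] at h1
      have h3 : rq * ry * rq⁻¹ = ry * z := by
        have h' : wy * (rq * ry * rq⁻¹) = wy * (ry * z) := by rw [h1, mul_assoc]
        exact mul_left_cancel h'
      have h4 : ry⁻¹ * (rq * ry * rq⁻¹) = z := by rw [h3]; group
      have h5 : k * (ry⁻¹ * (rq * ry * rq⁻¹)) * k⁻¹ = ry⁻¹ * (rq * ry * rq⁻¹) := by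
        have h' : k * (ry⁻¹ * (rq * ry * rq⁻¹)) * k⁻¹
            = (k * ry * k⁻¹)⁻¹ * ((k * rq * k⁻¹) * (k * ry * k⁻¹) * (k * rq * k⁻¹)⁻¹) := by group
        rw [h', hkry, hkrq]
      exact hnofix _ h5 h4
    · obtain ⟨w1, hw1, r1, hr1, hkr1, hq1eq⟩ := hdec _ hyQ
      have hq1sq : (y * v) * (y * v) = z := by
        calc (y * v) * (y * v) = y * (v * y * v⁻¹) * (v * v) := by group
          _ = y * (y * z) * 1 := by rw [hvy, hv2]
          _ = (y * y) * z := by group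
          _ = z := by rw [hy2, one_mul]
      rw [hq1eq] at hq1sq
      have hc : w1 * r1 = r1 * w1 := hw1.2.1 r1 hr1
      have h6 : (w1 * r1) * (w1 * r1) = r1 * r1 := by
        calc (w1 * r1) * (w1 * r1) = w1 * (r1 * w1) * r1 := by group
          _ = w1 * (w1 * r1) * r1 := by rw [hc]
          _ = (w1 * w1) * (r1 * r1) := by group
          _ = r1 * r1 := by rw [hw1.2.2, one_mul]
      rw [h6] at hq1sq
      have h7 : k * (r1 * r1) * k⁻¹ = r1 * r1 := by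
        have h' : k * (r1 * r1) * k⁻¹ = (k * r1 * k⁻¹) * (k * r1 * k⁻¹) := by group
        rw [h', hkr1]
      exact hnofix _ h7 hq1sq
  intro q hq
  apply hkey _ (hsT q (hQT hq))
  rw [hy]
  have hc : q * z1 = z1 * q := (hz1Ω.2.1 q hq).symm
  calc s * q * s⁻¹ * (s * z1 * s⁻¹) = s * (q * z1) * s⁻¹ := by group
    _ = s * (z1 * q) * s⁻¹ := by rw [hc]
    _ = s * z1 * s⁻¹ * (s * q * s⁻¹) := by group

/-- helper1's exact interface (board post 11052). -/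
theorem r1_out [Finite G] (T' Q₁ K' O : Subgroup G) (z v k s : G) (hQT : Q₁ ≤ T')
    (hT2 : IsPGroup 2 ↥T') (hvT : v ∈ T') (_hvQ : v ∉ Q₁)
    (hTQv : ∀ t ∈ T', t ∈ Q₁ ∨ t * v ∈ Q₁) (hv2 : v * v = 1) (hz2 : z * z = 1) (hzQ : z ∈ Q₁)
    (hzT : ∀ t ∈ T', t * z = z * t)
    (hQv : ∀ q ∈ Q₁, v * q * v⁻¹ = q ∨ v * q * v⁻¹ = q * z) (_hkK : k ∈ K') (hk3 : k ^ 3 = 1)
    (hkz : k * z * k⁻¹ ≠ z) (hkQ : ∀ q ∈ Q₁, k * q * k⁻¹ ∈ Q₁) (_hOQ : O ≤ Q₁)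
    (_hKO : ∀ g ∈ K', ∃ o ∈ O, ∃ i : ℕ, g = o * k ^ i)
    (_hKgen : Subgroup.closure {g : G | g ∈ K' ∧ Odd (orderOf g)} = K')
    (_hvk : v * k * v⁻¹ ∈ K') (hvk' : v * k * v⁻¹ * k ∈ Q₁)
    (hsT : ∀ t ∈ T', s * t * s⁻¹ ∈ T') (hsv : s * v * s⁻¹ = v ∨ s * v * s⁻¹ = v * z) :
    ∀ q ∈ Q₁, s * q * s⁻¹ ∈ Q₁ :=
  r1_core T' Q₁ z v k s hQT hT2 hvT hTQv hv2 hz2 hzQ hzT hQv hk3 hkz hkQ hvk' hsT hsv

end Cfsg.Agent.H90.R1
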