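import Cfsg.Agent.H90.SgDefs

/-!
# EXIST-GEN: assembly of the pieces (for S2949)
-/

set_option autoImplicit false
open Cfsg

namespace Cfsg.Agent.H90.Sg

open Cfsg.Agent.H52.Sn Cfsg.Agent.H19.Sx

universe u

/-- If `C ≤ D` has index 3 and `x ∈ D ∖ C` then `D = ⟨x⟩ C`. -/
theorem le_zpowers_sup {X : Type u} [Group X] (C D : Subgroup X) (x : X)
    (hCD : C ≤ D) (h3 : C.relIndex D = 3) (hxD : x ∈ D) (hxC : x ∉ C) :
    D ≤ Subgroup.zpowers x ⊔ C := by
  have h1 : C ≤ Subgroup.zpowers x ⊔ C := le_sup_right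
  have h2 : Subgroup.zpowers x ⊔ C ≤ D :=
    sup_le (by rw [Subgroup.zpowers_le]; exact hxD) hCD
  have hmul := Subgroup.relIndex_mul_relIndex C (Subgroup.zpowers x ⊔ C) D h1 h2
  rw [h3] at hmul
  have hne : C.relIndex (Subgroup.zpowers x ⊔ C) ≠ 1 := by
    intro h
    rw [Subgroup.relIndex_eq_one] at h
    exact hxC (h (le_sup_left (b := C) (Subgroup.mem_zpowers x)))
  have hp : Nat.Prime 3 := by norm_num
  have hdvd : C.relIndex (Subgroup.zpowers x ⊔ C) ∣ 3 := Dvd.intro _ hmul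
  rcases (Nat.dvd_prime hp).1 hdvd with h | h
  · exact absurd h hne
  · rw [h] at hmul
    have h4 : (Subgroup.zpowers x ⊔ C).relIndex D = 1 := by omega
    exact Subgroup.relIndex_eq_one.1 h4

theorem mem_normalizer_of_map_conj_eq {X : Type u} [Group X] (W : Subgroup X) (g : X)
    (h : W.map (MulAut.conj g).toMonoidHom = W) : g ∈ Subgroup.normalizer (W : Set X) := by
  rw [Subgroup.mem_normalizer_iff]
  intro x
  constructor
  · intro hx
    have h1 : (MulAut.conj g).toMonoidHom x ∈ W.map (MulAut.conj g).toMonoidHom := ⟨x, hx, rfl⟩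
    rw [h] at h1
    simpa [MulAut.conj_apply] using h1
  · intro hx
    have h1 : g * x * g⁻¹ ∈ W.map (MulAut.conj g).toMonoidHom := by rw [h]; exact hx
    obtain ⟨y, hy, hyx⟩ := h1
    have h2 : y = x := by
      have h3 : g * y * g⁻¹ = g * x * g⁻¹ := by simpa [MulAut.conj_apply] using hyx
      have h4 : g * y = g * x := mul_right_cancel h3
      exact mul_left_cancel h4
    rwa [← h2]

theorem map_conj_le_of_mem_normalizer' {X : Type u} [Group X] (W : Subgroup X) (g : X)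
    (hg : g ∈ Subgroup.normalizer (W : Set X)) : W.map (MulAut.conj g).toMonoidHom ≤ W := by
  rintro _ ⟨x, hx, rfl⟩
  have h1 := (Subgroup.mem_normalizer_iff.1 hg x).1 hx
  simpa [MulAut.conj_apply] using h1

/-- EXIST-GEN from the pieces. -/
theorem existGen (hRed : StRed.{u}) (hSyl : StIfSyl.{u}) (hV : StIfV.{u}) (hZ : StIfZ.{u})
    (hS : StIfS.{u})
    (hCompA : StCompA.{u}) (hCompB : StCompB.{u}) (hVK : StVK.{u}) (hW : StW.{u})
    (hIfV2 : StIfV2.{u}) (hSylJ : StSylJ.{u}) (hLift : StLift.{u})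
    (hOut : StOut.{u}) (hPick : StPick.{u}) (hWC : StIfWC.{u}) (hGA : StIfGA.{u})
    (hIfM : StIfM.{u}) : StExistGen.{u} := by
  intro G _ _ hL hNsol hZN T hT hT1 L hLT M hNM hLM
  obtain ⟨hT2, hTi, hJT, hJM⟩ := hSyl T L hLT.1
  obtain ⟨hVn, hVel, hQV⟩ := hV L
  have hCT := hZ hZN T L hLT
  have hPS := hS hNsol T L hT1 hLT
  obtain ⟨hred1, hred2⟩ := hRed (T.subgroupOf L) ((omegaCenterOf (pCoreOf 2 L)).subgroupOf L)
    hT2 hTi hQV hCT
  obtain ⟨hNJM, hQT, hQn, hQ2⟩ := hIfM T L M hLT.1 hNM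
  obtain ⟨hVQ, hVcen⟩ := hIfV2 L
  have hwc := hWC T L hLT.1.1
  have hCn : (Subgroup.centralizer
      (((omegaCenterOf (pCoreOf 2 L)).subgroupOf L : Subgroup ↥L) : Set ↥L)).Normal :=
    inferInstance
  -- `C ≤ M`
  have hCM : Subgroup.centralizer
      (((omegaCenterOf (pCoreOf 2 L)).subgroupOf L : Subgroup ↥L) : Set ↥L) ≤ M.subgroupOf L := by
    intro c hc
    apply hNJM
    apply mem_normalizer_of_map_conj_eq
    apply hwc c
    exact (Subgroup.map_mono hJT).trans (map_conj_le_of_mem_normalizer' _ c (hCT hc))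
  have hMtop : M.subgroupOf L ≠ ⊤ := by
    intro h
    exact hLM (Subgroup.subgroupOf_eq_top.1 h)
  obtain ⟨D, hCD, hD3, hJD, hDJ, ⟨W, hW4, hWk⟩, hDM⟩ :=
    hOut ((omegaCenterOf (pCoreOf 2 L)).subgroupOf L) (T.subgroupOf L)
      ((thompsonSubgroupOf 2 T).subgroupOf L) (M.subgroupOf L)
      hVel hPS hred1 hT2 hTi hJT hJM hwc hCM hNJM hMtop
  obtain ⟨A, hAmax, hAJ, a, haA, k, hkD, hkM, hkC, hk3, hak, hgk⟩ :=
    hPick (Subgroup.centralizer
      (((omegaCenterOf (pCoreOf 2 L)).subgroupOf L : Subgroup ↥L) : Set ↥L))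
      ((thompsonSubgroupOf 2 T).subgroupOf L) D (M.subgroupOf L)
      hCn hCD hD3 (hJM.trans hJD) hDJ hCM hDM (hGA T L hLT.1)
  have haa : a * a = 1 := by
    have h1 := hAmax.1.2 a haA
    rwa [pow_two] at h1
  obtain ⟨x, hxodd, hxC, hx3, hax, hxk, hxJ⟩ :=
    hCompA (T.subgroupOf L) (Subgroup.centralizer
      (((omegaCenterOf (pCoreOf 2 L)).subgroupOf L : Subgroup ↥L) : Set ↥L)) (pCore 2 ↥L)
      ((thompsonSubgroupOf 2 T).subgroupOf L) a k
      hT2 hTi hCn hQn hQV hred2 hCT hJT (hAJ haA) haa hkC hk3 hak hgk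
  have hxQ : x ∉ pCore 2 ↥L := fun h => hxC (hQV h)
  obtain ⟨K, hKgen, hKJ, hK3, hQK, hxK, hKx⟩ :=
    hCompB (pCore 2 ↥L) ((thompsonSubgroupOf 2 T).subgroupOf L) a x
      hQn hQ2 (hAJ haA) hxodd hxQ hx3 hax hxJ
  have hxD : x ∈ D := (sup_le (by rw [Subgroup.zpowers_le]; exact hkD) hCD) hxk
  have hKk : K ≤ Subgroup.zpowers k ⊔ Subgroup.centralizer
      (((omegaCenterOf (pCoreOf 2 L)).subgroupOf L : Subgroup ↥L) : Set ↥L) := by
    refine hKx.trans (sup_le ?_ (hQV.trans le_sup_right))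
    rw [Subgroup.zpowers_le]
    exact hxk
  have hVK4 := hVK ((omegaCenterOf (pCoreOf 2 L)).subgroupOf L) K W k x hVel hW4
    (fun v hv => hWk k hkD v hv) hKk hxK hxodd hxC
  have hW4' := hW ((omegaCenterOf (pCoreOf 2 L)).subgroupOf L) (T.subgroupOf L) (pCore 2 ↥L)
    ((thompsonSubgroupOf 2 T).subgroupOf L) K A a x hVel hVQ hQV hVcen hT2 hQT hJT hAJ hAmax.1
    (fun B hB => hAmax.2 B hB) hKJ hK3 hQK hVK4 haA hxK hxQ hax
  have hJC := hLift T L K hLT.1
    (fun S hSL hS2 hJS => hSylJ T L S hLT.1 hSL hS2 hJS) hKgen hKJ hK3 hW4'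
  refine ⟨K.map L.subtype, hJC, Subgroup.map_subtype_le K, ?_⟩
  intro hKM
  have hxM : x ∈ M.subgroupOf L := by
    rw [Subgroup.mem_subgroupOf]
    exact hKM ⟨x, hxK, rfl⟩
  have hDle := le_zpowers_sup _ D x hCD hD3 hxD hxC
  have hDM' : D ≤ M.subgroupOf L :=
    hDle.trans (sup_le (by rw [Subgroup.zpowers_le]; exact hxM) hCM)
  exact hDM hDM'

end Cfsg.Agent.H90.Sg
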