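import Cfsg.Agent.H90.SgAsm
import Cfsg.Agent.H5.SnRed
import Cfsg.Agent.H63.SnIfSyl
import Cfsg.Agent.H63.SnIfV
import Cfsg.Agent.H63.SnIfZ
import Cfsg.Agent.H71.SnIfS
import Cfsg.Agent.H18.SxCompA
import Cfsg.Agent.H25.SxCompB
import Cfsg.Agent.H13.SxVK
import Cfsg.Agent.H25.SxIfV2
import Cfsg.Agent.H25.SxSylJ
import Cfsg.Agent.H39.SxLift
import Cfsg.Agent.H3.SgPick
import Cfsg.Agent.H98.SgOut
import Cfsg.Agent.H75.SgIf
import Cfsg.Agent.H75.SgIfWC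

/-!
# EXIST-GEN: the landed pieces plugged into the assembly (remaining inputs as hypotheses)
-/

set_option autoImplicit false
open Cfsg

namespace Cfsg.Agent.H90.Sg

universe u

/-- EXIST-GEN from the four pieces that were still open at 08:40Z. -/
theorem existGen_of (hBox : StBox.{u}) (hGen : StBox.{u} → StGen.{u}) (hFr : StFr.{u})
    (hW : Cfsg.Agent.H19.Sx.StW.{u}) : StExistGen.{u} :=
  existGen Cfsg.Agent.H5.Sn.red Cfsg.Agent.H63.Sn.ifSyl Cfsg.Agent.H63.Sn.ifV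
    Cfsg.Agent.H63.Sn.ifZ Cfsg.Agent.H71.Sn.ifS Cfsg.Agent.H18.Sx.compA
    Cfsg.Agent.H25.Sx.compB Cfsg.Agent.H13.Sx.vk hW Cfsg.Agent.H25.Sx.ifV2
    Cfsg.Agent.H25.Sx.sylJ Cfsg.Agent.H39.Sx.lift
    (Cfsg.Agent.H98.Sg.out (hGen hBox) hFr) Cfsg.Agent.H3.Sg.pick
    Cfsg.Agent.H75.SgW.ifWC Cfsg.Agent.H75.SgI.ifGA Cfsg.Agent.H75.SgI.ifM

end Cfsg.Agent.H90.Sg

#print axioms Cfsg.Agent.H90.Sg.existGen_of
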