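import Cfsg.Agent.H90.FusPull
import Cfsg.Agent.H88.FactorSat

set_option autoImplicit false

/-!
A simple fusion system realized by a finite group (on a Sylow subgroup) is realized by a finite
simple group: a realizing group of least order is simple.
-/

namespace Cfsg.Agent.H90

open Cfsg Cfsg.FusionSystem Cfsg.Agent.H86 Cfsg.Agent.H87

universe u

variable {Ω : Type u} [Group Ω] {S : Subgroup Ω}

/-- `F` is realized on a Sylow `p`-subgroup by a finite group of order `n`. -/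
def RealN (F : FusionSystem S) (p n : ℕ) : Prop :=
  ∃ (G : Type u) (_ : Group G) (_ : Finite G) (ι : S →* G),
    F.IsRealizedBy ι ∧ (∃ T : Sylow p G, (T : Subgroup G) = ι.range) ∧ Nat.card G = n

/-- Passing to the quotient by a normal subgroup meeting the image of `S` trivially. -/
theorem realN_quotient {F : FusionSystem S} {p : ℕ} [Fact p.Prime] {G : Type u} [Group G] [Finite G]
    {ι : S →* G} (hι : F.IsRealizedBy ι) (T : Sylow p G) (hT : (T : Subgroup G) = ι.range)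
    (N : Subgroup G) [hN : N.Normal] (hTN : (T : Subgroup G) ⊓ N = ⊥) :
    RealN F p (Nat.card (G ⧸ N)) := by
  have hιT : ∀ x : S, ι x ∈ (T : Subgroup G) := fun x => by rw [hT]; exact ⟨x, rfl⟩
  refine ⟨G ⧸ N, inferInstance, inferInstance, (QuotientGroup.mk' N).comp ι, ⟨?_, ?_⟩, ?_, rfl⟩
  · -- injective
    intro x y hxy
    have h1 : (ι x)⁻¹ * ι y ∈ N := QuotientGroup.eq.1 hxy
    have h2 : (ι x)⁻¹ * ι y ∈ (T : Subgroup G) ⊓ N :=
      ⟨Subgroup.mul_mem _ (Subgroup.inv_mem _ (hιT x)) (hιT y), h1⟩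
    rw [hTN, Subgroup.mem_bot] at h2
    apply hι.1
    rw [← mul_one (ι x), ← h2, mul_inv_cancel_left]
  · intro P hP φ hφ
    rw [hι.2 P hP φ hφ]
    constructor
    · rintro ⟨g, hg⟩
      refine ⟨QuotientGroup.mk' N g, fun x => ?_⟩
      show QuotientGroup.mk' N (ι ⟨φ x, hφ x⟩) = _
      rw [hg x, map_mul, map_mul, map_inv]
      rfl
    · rintro ⟨gbar, hg⟩
      obtain ⟨g, rfl⟩ := QuotientGroup.mk_surjective gbar
      have hrel : ∀ x : P, (g * ι ⟨x, hP x.2⟩ * g⁻¹)⁻¹ * ι ⟨φ x, hφ x⟩ ∈ N := by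
        intro x
        apply QuotientGroup.eq.1
        have := hg x
        show (QuotientGroup.mk (g * ι ⟨x, hP x.2⟩ * g⁻¹) : G ⧸ N) = QuotientGroup.mk (ι ⟨φ x, hφ x⟩)
        rw [QuotientGroup.mk_mul, QuotientGroup.mk_mul, QuotientGroup.mk_inv]
        exact this.symm
      -- the conjugate of `ι(P)` by `g`
      let X : Subgroup G := ((P.subgroupOf S).map ι).map (MulAut.conj g).toMonoidHom
      have hXmem : ∀ x : P, g * ι ⟨x, hP x.2⟩ * g⁻¹ ∈ X := fun x =>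
        ⟨ι ⟨x, hP x.2⟩, ⟨⟨x, hP x.2⟩, Subgroup.mem_subgroupOf.2 x.2, rfl⟩, rfl⟩
      have hXp : IsPGroup p X := by
        have h1 : IsPGroup p ((P.subgroupOf S).map ι) := by
          refine T.isPGroup'.to_le ?_
          rintro _ ⟨x, -, rfl⟩
          exact hιT x
        exact h1.map _
      have hXle : X ≤ (T : Subgroup G) ⊔ N := by
        rintro _ ⟨_, ⟨x, hx, rfl⟩, rfl⟩
        have hx' : (x : Ω) ∈ P := Subgroup.mem_subgroupOf.1 hx
        have h1 := hrel ⟨x, hx'⟩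
        have h2 : g * ι x * g⁻¹ = ι ⟨φ ⟨x, hx'⟩, hφ _⟩ *
            ((g * ι x * g⁻¹)⁻¹ * ι ⟨φ ⟨x, hx'⟩, hφ _⟩)⁻¹ := by group
        show g * ι x * g⁻¹ ∈ _
        rw [h2]
        exact Subgroup.mul_mem_sup (hιT _) (N.inv_mem h1)
      obtain ⟨n, hn, hnX⟩ := Cfsg.Agent.H88.exists_conj_le_sylow_of_le_sup N T X hXle hXp
      refine ⟨n * g, fun x => ?_⟩
      have h1 := hnX _ (hXmem x)
      have h2 := hrel x
      have h3 : (n * (g * ι ⟨x, hP x.2⟩ * g⁻¹) * n⁻¹)⁻¹ * ι ⟨φ x, hφ x⟩ ∈ N := by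
        have e1 : (n * (g * ι ⟨x, hP x.2⟩ * g⁻¹) * n⁻¹)⁻¹ * ι ⟨φ x, hφ x⟩ =
            n * ((g * ι ⟨x, hP x.2⟩ * g⁻¹)⁻¹ * ι ⟨φ x, hφ x⟩) *
              ((ι ⟨φ x, hφ x⟩)⁻¹ * n⁻¹ * (ι ⟨φ x, hφ x⟩)⁻¹⁻¹) := by group
        rw [e1]
        exact N.mul_mem (N.mul_mem hn h2) (hN.conj_mem _ (N.inv_mem hn) _)
      have h4 : (n * (g * ι ⟨x, hP x.2⟩ * g⁻¹) * n⁻¹)⁻¹ * ι ⟨φ x, hφ x⟩ ∈ (T : Subgroup G) ⊓ N :=
        ⟨Subgroup.mul_mem _ (Subgroup.inv_mem _ h1) (hιT _), h3⟩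
      rw [hTN, Subgroup.mem_bot] at h4
      have h5 : ι ⟨φ x, hφ x⟩ = n * (g * ι ⟨x, hP x.2⟩ * g⁻¹) * n⁻¹ := by
        rw [← mul_one (n * (g * ι ⟨x, hP x.2⟩ * g⁻¹) * n⁻¹), ← h4, mul_inv_cancel_left]
      rw [h5]
      group
  · refine ⟨T.mapSurjective (QuotientGroup.mk'_surjective N), ?_⟩
    rw [Sylow.coe_mapSurjective, hT, MonoidHom.range_comp]

/-- Passing to a normal subgroup containing the image of `S`, when it carries all the fusion. -/
theorem realN_subgroup {F : FusionSystem S} {p : ℕ} [Fact p.Prime] {G : Type u} [Group G] [Finite G]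
    {ι : S →* G} (hι : F.IsRealizedBy ι) (T : Sylow p G) (hT : (T : Subgroup G) = ι.range)
    (N : Subgroup G) (hTN : (T : Subgroup G) ≤ N)
    (hfus : ∀ (P : Subgroup Ω) (hP : P ≤ S) (φ : P →* Ω) (hφ : ∀ x : P, φ x ∈ S), φ ∈ F.Hom P →
      ∃ g ∈ N, ∀ x : P, ι ⟨φ x, hφ x⟩ = g * ι ⟨x, hP x.2⟩ * g⁻¹) :
    RealN F p (Nat.card N) := by
  have hιT : ∀ x : S, ι x ∈ (T : Subgroup G) := fun x => by rw [hT]; exact ⟨x, rfl⟩
  refine ⟨N, inferInstance, inferInstance, ι.codRestrict N (fun x => hTN (hιT x)), ⟨?_, ?_⟩, ?_, rfl⟩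
  · intro x y hxy
    apply hι.1
    exact congrArg Subtype.val hxy
  · intro P hP φ hφ
    constructor
    · intro h
      obtain ⟨g, hg, hgx⟩ := hfus P hP φ hφ h
      exact ⟨⟨g, hg⟩, fun x => Subtype.ext (hgx x)⟩
    · rintro ⟨n, hn⟩
      rw [hι.2 P hP φ hφ]
      exact ⟨n, fun x => congrArg Subtype.val (hn x)⟩
  · refine ⟨T.subtype hTN, ?_⟩
    rw [Sylow.coe_subtype]
    ext y
    rw [Subgroup.mem_subgroupOf, hT]
    constructor
    · rintro ⟨x, hx⟩
      exact ⟨x, Subtype.ext hx⟩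
    · rintro ⟨x, rfl⟩
      exact ⟨x, rfl⟩

theorem trSub_bot {Ω' : Type*} [Group Ω'] {S' : Subgroup Ω'} (e : S ≃* S') :
    trSub e (⊥ : Subgroup Ω) = ⊥ := by
  ext y
  rw [mem_trSub, Subgroup.mem_bot]
  constructor
  · rintro ⟨x, hxS, hx, rfl⟩
    rw [Subgroup.mem_bot] at hx
    subst hx
    exact jF_one e
  · rintro rfl
    exact ⟨1, S.one_mem, Subgroup.one_mem _, jF_one e⟩

/-- A simple fusion system realized by a finite group on a Sylow subgroup is realized by a finite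
simple group. -/
theorem exists_simple_realization [Finite S] (p : ℕ) [Fact p.Prime] (F : FusionSystem S)
    (hsimple : F.IsSimple p) (hreal : F.IsRealizable p) :
    ∃ (G : Type u) (_ : Group G) (_ : Finite G) (_ : IsSimpleGroup G) (ι : ↥S →* G),
      F.IsRealizedBy ι ∧ ∃ T : Sylow p G, (T : Subgroup G) = ι.range := by
  classical
  have hex : ∃ n, RealN F p n := by
    obtain ⟨G, hG, hfin, ι, hι, hT⟩ := hreal
    exact ⟨Nat.card G, G, hG, hfin, ι, hι, hT, rfl⟩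
  obtain ⟨G, hG, hfin, ι, hι, ⟨T, hT⟩, hcard⟩ := Nat.find_spec hex
  have hmin : ∀ m, RealN F p m → Nat.card G ≤ m := fun m hm => by
    rw [hcard]
    exact Nat.find_min' hex hm
  have hιT : ∀ x : S, ι x ∈ (T : Subgroup G) := fun x => by rw [hT]; exact ⟨x, rfl⟩
  have hnt : Nontrivial G := by
    obtain ⟨a, ha⟩ := (Subgroup.ne_bot_iff_exists_ne_one).1 hsimple.2.1
    exact ⟨⟨ι a, 1, fun h => ha (hι.1 (h.trans (map_one ι).symm))⟩⟩
  refine ⟨G, hG, hfin, ⟨fun N hN => ?_⟩, ι, hι, T, hT⟩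
  by_contra hcon
  push_neg at hcon
  obtain ⟨hNbot, hNtop⟩ := hcon
  by_cases hTN : (T : Subgroup G) ⊓ N = ⊥
  · have h1 := hmin _ (realN_quotient hι T hT N hTN)
    have h2 := Subgroup.card_eq_card_quotient_mul_card_subgroup N
    have h3 : 1 < Nat.card N := (Subgroup.one_lt_card_iff_ne_bot N).2 hNbot
    have h4 : 0 < Nat.card (G ⧸ N) := Nat.card_pos
    nlinarith
  · obtain ⟨e, he⟩ : ∃ e : S ≃* (T : Subgroup G), ∀ x : S, ((e x : (T : Subgroup G)) : G) = ι x :=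
      ⟨(MonoidHom.ofInjective hι.1).trans (MulEquiv.subgroupCongr hT.symm), fun x => rfl⟩
    have hiso : FusIso F (groupFusionSystem (T : Subgroup G)) e := fusIso_of_realized hι e he
    have hT₀S : trSub e.symm ((T : Subgroup G) ⊓ N) ≤ S := trSub_le e.symm _
    have hT₀ : trSub e (trSub e.symm ((T : Subgroup G) ⊓ N)) = (T : Subgroup G) ⊓ N :=
      trSub_trSub_symm e inf_le_left
    have hle : trSub e (trSub e.symm ((T : Subgroup G) ⊓ N)) ≤ N := by
      rw [hT₀]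
      exact inf_le_right
    have hN' := normalIn_aux p T N _ hT₀ hle
    have hNor := normalIn_pullSys hiso hsimple.1 hT₀S _ hN'
    rcases hsimple.2.2 _ _ hNor with h0 | ⟨h1, h2⟩
    · apply hTN
      rw [← hT₀, h0]
      exact trSub_bot e
    · have hTleN : (T : Subgroup G) ≤ N := by
        intro y hy
        have h3 : y ∈ trSub e (trSub e.symm ((T : Subgroup G) ⊓ N)) := by
          rw [h1]
          have := jF_mem_trSub e (jF_mem e.symm hy) (jF_mem e.symm hy)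
          rwa [jF_jF_symm e hy] at this
        exact hle h3
      have hfus : ∀ (P : Subgroup Ω) (hP : P ≤ S) (φ : P →* Ω) (hφ : ∀ x : P, φ x ∈ S),
          φ ∈ F.Hom P → ∃ g ∈ N, ∀ x : P, ι ⟨φ x, hφ x⟩ = g * ι ⟨x, hP x.2⟩ * g⁻¹ := by
        intro P hP φ hφ hφF
        rw [← h2 P] at hφF
        obtain ⟨-, -, hm⟩ := mor_pullSys_iff.1 (mor_extFun hφF)
        obtain ⟨-, -, g, hg, hgx⟩ := mor_fusionSystemOfSubgroup_iff.1 hm
        refine ⟨g, hg, fun x => ?_⟩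
        have h4 := hgx (jF e x) (jF_mem_trSub e (hP x.2) x.2)
        have e1 : (jF e ∘ extFun P φ ∘ jF e.symm) (jF e x) = jF e (φ x) := by
          show jF e (extFun P φ (jF e.symm (jF e x))) = _
          rw [jF_symm_jF e (hP x.2), extFun_apply]
        rw [e1, jF_of_mem e (hφ x), jF_of_mem e (hP x.2), he, he] at h4
        exact h4
      have h5 := hmin _ (realN_subgroup hι T hT N hTleN hfus)
      have h6 : Nat.card N < Nat.card G := by
        have := card_lt_card_of_lt (lt_top_iff_ne_top.2 hNtop)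
        rwa [Subgroup.card_top] at this
      omega

end Cfsg.Agent.H90
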