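import Cfsg.Agent.H90.Tate2

set_option autoImplicit false

/-!
A Burnside-type lemma: if `T` is strongly closed in the saturated fusion system `F` over `S`, `S/T`
is abelian and the automorphisms of `S` in `F` act trivially on `S/T`, then every map of `F` is
trivial modulo `T`; so the focal subgroup of `F` lies in `T`.
-/

namespace Cfsg.Agent.H90

open Cfsg Cfsg.FusionSystem Cfsg.Agent.H86 Cfsg.Agent.H87 MulAction

universe u

variable {Ω : Type u} [Group Ω] {S : Subgroup Ω}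

theorem mor_mod_of_abelian_quotient [Finite S] {F : FusionSystem S} {p : ℕ} [Fact p.Prime]
    (hS : IsPGroup p S) (hF : F.IsSaturated p) {T : Subgroup Ω} (hT : F.StronglyClosed T)
    (hab : ∀ a ∈ S, ∀ b ∈ S, a⁻¹ * (b * a * b⁻¹) ∈ T)
    (htop : ∀ f, Mor F S f → ∀ x ∈ S, x⁻¹ * f x ∈ T)
    {P : Subgroup Ω} {f : Ω → Ω} (hf : Mor F P f) : ∀ x ∈ P, x⁻¹ * f x ∈ T := by
  set E := modSys F T (fun s hs h hh => Cfsg.Agent.H88.stronglyClosed_conj_mem hT hs hh) with hE
  have key : ∀ (P : Subgroup Ω) (f : Ω → Ω), Mor F P f → Mor E P f := by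
    refine Cfsg.Agent.H88.alperin_induction hS hF E (fun R hRa hRr IH => ?_)
    intro α hα
    have hRS : R ≤ S := hRa.1
    haveI hfinR : Finite R := finite_of_le hRS
    have hαm : Mor F R (autFun R α) := (mem_autGroup_iff hRS α).1 hα
    -- it suffices that `α` acts trivially modulo `T`
    suffices hK : (⟨α, hα⟩ : F.autGroup R) ∈ Cfsg.Agent.H88.modAuts F T R by
      rw [mem_autGroup_iff hRS]
      obtain ⟨φ, hφ, hφα⟩ := hαm
      refine ⟨φ, ⟨hφ, 1, S.one_mem, fun x => ?_⟩, hφα⟩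
      have h1 := hK x
      rw [hφα, autFun_apply]
      simpa using h1
    haveI hKn : (Cfsg.Agent.H88.modAuts F T R).Normal := Cfsg.Agent.H88.modAuts_normal hT hRS
    obtain ⟨P₀, hP₀⟩ := hRa.2
    have hP₀K : (P₀ : Subgroup (F.autGroup R)) ≤ Cfsg.Agent.H88.modAuts F T R := by
      rw [hP₀]
      intro β hβ x
      obtain ⟨s, hs, H⟩ := (mem_autInducedBy_iff S R _).1 (Subgroup.mem_subgroupOf.1 hβ)
      rw [H]
      exact hab x (hRS x.2) s hs
    have hfr := Sylow.normalizer_sup_eq_top' P₀ hP₀K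
    have hmem : (⟨α, hα⟩ : F.autGroup R) ∈ (⊤ : Subgroup (F.autGroup R)) := Subgroup.mem_top _
    rw [← hfr] at hmem
    rw [← SetLike.mem_coe, Subgroup.mul_normal] at hmem
    obtain ⟨n, hn, κ, hκ, hnκ⟩ := Set.mem_mul.1 hmem
    have hnK : n ∈ Cfsg.Agent.H88.modAuts F T R := by
      have hnm : Mor F R (autFun R (n : MulAut R)) := (mem_autGroup_iff hRS _).1 n.2
      by_cases hRtop : R = S
      · subst hRtop
        intro x
        have h1 := htop _ hnm x x.2
        rwa [autFun_apply] at h1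
      · have hRlt : R < S := lt_of_le_of_ne hRS hRtop
        have hNle : normalizerIn S R ≤ extSub S R (autFun R (n : MulAut R)) := by
          intro g hg
          obtain ⟨hgS, hgnorm⟩ := mem_normalizerIn_iff.1 hg
          rw [mem_extSub_iff hnm]
          obtain ⟨cg, hcg⟩ := exists_conjAut hgnorm
          have hcgS : cg ∈ autInducedBy S R := (mem_autInducedBy_iff S R cg).2 ⟨g, hgS, hcg⟩
          have hcgA : cg ∈ F.autGroup R := autInducedBy_le_autGroup F hRS hcgS
          have hcgP : (⟨cg, hcgA⟩ : F.autGroup R) ∈ (P₀ : Subgroup (F.autGroup R)) := by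
            rw [hP₀]
            exact Subgroup.mem_subgroupOf.2 hcgS
          have h1 : n * ⟨cg, hcgA⟩ * n⁻¹ ∈ (P₀ : Subgroup (F.autGroup R)) :=
            (Subgroup.mem_normalizer_iff.1 hn _).1 hcgP
          rw [hP₀, Subgroup.mem_subgroupOf] at h1
          obtain ⟨h, hh, Hh⟩ := (mem_autInducedBy_iff S R _).1 h1
          refine ⟨hgS, hgnorm, h, hh, fun x hx => ?_⟩
          have h2 := Hh ((n : MulAut R) ⟨x, hx⟩)
          have e1 : ((n * ⟨cg, hcgA⟩ * n⁻¹ : F.autGroup R) : MulAut R) ((n : MulAut R) ⟨x, hx⟩) =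
              (n : MulAut R) (cg ⟨x, hx⟩) := by
            simp only [Subgroup.coe_mul, Subgroup.coe_inv, MulAut.mul_apply, MulAut.inv_apply_self]
          rw [e1] at h2
          have e2 : g * x * g⁻¹ = ((cg ⟨x, hx⟩ : R) : Ω) := (hcg ⟨x, hx⟩).symm
          rw [e2, autFun_apply, autFun_of_mem _ hx]
          exact h2
        have hlt' : R < extSub S R (autFun R (n : MulAut R)) :=
          lt_of_lt_of_le (lt_normalizerIn hS hRlt) hNle
        haveI hfinE : Finite (extSub S R (autFun R (n : MulAut R))) :=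
          finite_of_le (extSub_le hnm)
        obtain ⟨b, hb, hbn⟩ := receptive_extend' hRr hnm (imgS_autFun hnm)
        have hbE := IH _ b hb (card_lt_card_of_lt hlt')
        obtain ⟨φ, ⟨hφ, s, hs, hφs⟩, hφb⟩ := hbE
        intro x
        have hxE : (x : Ω) ∈ extSub S R (autFun R (n : MulAut R)) := le_extSub hnm x.2
        have h1 := hφs ⟨x, hxE⟩
        rw [hφb ⟨x, hxE⟩] at h1
        have h2 : b x = (((n : MulAut R) x : R) : Ω) := by
          rw [hbn x x.2, autFun_apply]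
        have h3 := hab x (hRS x.2) s hs
        have h4 := T.mul_mem h3 h1
        have e3 : (x : Ω)⁻¹ * (s * x * s⁻¹) * ((s * (x : Ω) * s⁻¹)⁻¹ * b x) = (x : Ω)⁻¹ * b x := by
          group
        rw [e3, h2] at h4
        exact h4
    rw [← hnκ]
    exact Subgroup.mul_mem _ hnK hκ
  obtain ⟨φ, ⟨hφ, s, hs, hφs⟩, hφf⟩ := key P f hf
  intro x hx
  have h1 := hφs ⟨x, hx⟩
  rw [hφf ⟨x, hx⟩] at h1
  have h3 := hab x (hf.le hx) s hs
  have h4 := T.mul_mem h3 h1
  have e3 : x⁻¹ * (s * x * s⁻¹) * ((s * x * s⁻¹)⁻¹ * f x) = x⁻¹ * f x := by group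
  rw [e3] at h4
  exact h4

theorem focal_le_of_abelian_quotient [Finite S] {F : FusionSystem S} {p : ℕ} [Fact p.Prime]
    (hS : IsPGroup p S) (hF : F.IsSaturated p) {T : Subgroup Ω} (hT : F.StronglyClosed T)
    (hab : ∀ a ∈ S, ∀ b ∈ S, a⁻¹ * (b * a * b⁻¹) ∈ T)
    (htop : ∀ f, Mor F S f → ∀ x ∈ S, x⁻¹ * f x ∈ T) : F.focalSubgroup ≤ T := by
  unfold focalSubgroup
  rw [Subgroup.closure_le]
  rintro _ ⟨P, φ, x, hφ, rfl⟩
  have h := mor_mod_of_abelian_quotient hS hF hT hab htop (mor_extFun hφ) x x.2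
  rwa [extFun_apply] at h

end Cfsg.Agent.H90
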