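import Cfsg.Agent.H90.Tate3
import Cfsg.Agent.H89.Normalizer

set_option autoImplicit false

/-!
Consequences of Tate's theorem for fusion systems: a saturated fusion system `F` over `S` whose
automorphisms of `S` are inner and for which some strongly closed `T ≤ Φ(S)` has `S/T` abelian is
the inner system.
-/

namespace Cfsg.Agent.H90

open Cfsg Cfsg.FusionSystem Cfsg.Agent.H86 Cfsg.Agent.H87 MulAction
open scoped commutatorElement

universe u

variable {Ω : Type u} [Group Ω] {S : Subgroup Ω}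

/-- If the normalizer system of `S` is the inner system, the automorphisms of `S` in `F` are
inner. -/
theorem top_inner_of_normalizer_inner [Finite S] {F : FusionSystem S}
    (hN : ∀ N : FusionSystem (normalizerIn S S), F.IsNormalizerSystem S N →
      ∀ P : Subgroup Ω, N.Hom P = (innerFusionSystem (normalizerIn S S)).Hom P)
    {f : Ω → Ω} (hf : Mor F S f) : ∃ g ∈ S, ∀ x ∈ S, f x = g * x * g⁻¹ := by
  have himg : imgS S f = S := imgS_eq_of_maps hf (fun x hx => hf.mem hx)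
  have hfS := hf
  obtain ⟨φ, hφ, hφf⟩ := hf
  have hle : S ⊔ S ≤ S := sup_le le_rfl le_rfl
  have hmem : φ ∈ F.normalizerHom S S := by
    refine ⟨hφ, Cfsg.Agent.H86.le_normalizerIn le_rfl, fun x => ⟨(F.le_of_mem hφ).2 x,
      Subgroup.le_normalizer ((F.le_of_mem hφ).2 x)⟩,
      φ.comp (Subgroup.inclusion hle), Cfsg.Agent.H89.restrict_mem F hle hφ, fun x => rfl, ?_⟩
    rw [Cfsg.Agent.H89.map_subgroupOf_eq_iff le_sup_left]
    refine ⟨fun q => (F.le_of_mem hφ).2 _, fun y hy => ?_⟩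
    rw [← himg] at hy
    obtain ⟨x, hx, rfl⟩ := hfS.mem_imgS.1 hy
    exact ⟨⟨x, hx⟩, hφf ⟨x, hx⟩⟩
  have h1 := hN (Cfsg.Agent.H89.normalizerSystem F S le_rfl)
    (Cfsg.Agent.H89.normalizerSystem_isNormalizerSystem F S le_rfl) S
  have hmem' : φ ∈ (Cfsg.Agent.H89.normalizerSystem F S le_rfl).Hom S := hmem
  rw [h1] at hmem'
  obtain ⟨-, g, hg, hgx⟩ := hmem'
  exact ⟨g, hg.1, fun x hx => by rw [← hφf ⟨x, hx⟩, hgx]⟩

/-- The commutators of `S` lie in the Frattini subgroup. -/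
theorem comm_mem_frattini_map [Finite S] {p : ℕ} [Fact p.Prime] (hS : IsPGroup p S) {a b : Ω}
    (ha : a ∈ S) (hb : b ∈ S) : a⁻¹ * (b * a * b⁻¹) ∈ (frattini S).map S.subtype := by
  refine ⟨⁅(⟨a, ha⟩ : S)⁻¹, ⟨b, hb⟩⁆, ?_, ?_⟩
  · apply Cfsg.Agent.H3.commutator_le_frattini hS
    rw [commutator_def]
    exact Subgroup.commutator_mem_commutator (Subgroup.mem_top _) (Subgroup.mem_top _)
  · rw [commutatorElement_def]
    show a⁻¹ * b * a⁻¹⁻¹ * b⁻¹ = a⁻¹ * (b * a * b⁻¹)
    group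

/-- If the automorphisms of `S` in the saturated system `F` are inner and `T ≤ Φ(S)` is strongly
closed with `S/T` abelian, then `F` is the inner system. -/
theorem hom_eq_inner_of_stronglyClosed [Finite S] {F : FusionSystem S} {p : ℕ} [Fact p.Prime]
    (hS : IsPGroup p S) (hF : F.IsSaturated p) {T : Subgroup Ω} (hT : F.StronglyClosed T)
    (hTΦ : T ≤ (frattini S).map S.subtype)
    (hab : ∀ a ∈ S, ∀ b ∈ S, a⁻¹ * (b * a * b⁻¹) ∈ T)
    (htop : ∀ f, Mor F S f → ∃ g ∈ S, ∀ x ∈ S, f x = g * x * g⁻¹) (P : Subgroup Ω) :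
    F.Hom P = (innerFusionSystem S).Hom P := by
  have htop' : ∀ f, Mor F S f → ∀ x ∈ S, x⁻¹ * f x ∈ T := by
    intro f hf x hx
    obtain ⟨g, hg, hgx⟩ := htop f hf
    rw [hgx x hx]
    exact hab x hx g hg
  have hfoc : F.focalSubgroup ≤ T := focal_le_of_abelian_quotient hS hF hT hab htop'
  exact hom_eq_inner_of_focal_le_frattini hS hF (hfoc.trans hTΦ) P

end Cfsg.Agent.H90
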