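import Cfsg.Agent.H90.Tate4

set_option autoImplicit false

/-!
Tate's theorem for fusion systems, general form: for saturated fusion systems `H ≤ F` over `S`
with `Φ(S) foc(F) = Φ(S) foc(H)`, the hyperfocal subgroups of `F` and `H` agree.
-/

namespace Cfsg.Agent.H90

open Cfsg Cfsg.FusionSystem Cfsg.Agent.H86 Cfsg.Agent.H87 MulAction
open scoped commutatorElement

universe u

theorem pResidual_map_hom {A B : Type*} [Group A] [Group B] (p : ℕ) (f : A →* B) {a : A}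
    (ha : a ∈ pResidual p A) : f a ∈ pResidual p B := by
  have h : pResidual p A ≤ (pResidual p B).comap f := by
    unfold pResidual
    rw [Subgroup.closure_le]
    intro g hg
    apply Subgroup.subset_closure
    show Nat.Coprime (orderOf (f g)) p
    exact Nat.Coprime.coprime_dvd_left (orderOf_map_dvd f g) hg
  exact h ha

variable {Ω : Type u} [Group Ω] {S : Subgroup Ω}

/-- The hyperfocal subgroup of a subsystem lies in that of the system. -/
theorem hyperfocal_le_of_subsystem {H F : FusionSystem S} (hHF : H.IsSubsystemOf F) (p : ℕ) :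
    H.hyperfocalSubgroup p ≤ F.hyperfocalSubgroup p := by
  conv_lhs => unfold hyperfocalSubgroup
  rw [Subgroup.closure_le]
  rintro _ ⟨P, α, x, hP, hα, rfl⟩
  have hle : H.autGroup P ≤ F.autGroup P := by
    intro β hβ
    rw [mem_autGroup_iff hP] at hβ ⊢
    obtain ⟨φ, hφ, hφf⟩ := hβ
    exact ⟨φ, hHF P hφ, hφf⟩
  have h1 := pResidual_map_hom p (Subgroup.inclusion hle) hα
  exact Subgroup.subset_closure ⟨P, Subgroup.inclusion hle α, x, hP, h1, rfl⟩

/-- The focal subgroup of a saturated fusion system is generated by the hyperfocal subgroup and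
the derived subgroup of `S`. -/
theorem focal_eq_hyperfocal_sup [Finite S] {E : FusionSystem S} {p : ℕ} [Fact p.Prime]
    (hS : IsPGroup p S) (hE : E.IsSaturated p) :
    E.focalSubgroup = E.hyperfocalSubgroup p ⊔ (commutator S).map S.subtype := by
  apply le_antisymm
  · conv_lhs => unfold focalSubgroup
    rw [Subgroup.closure_le]
    rintro _ ⟨P, φ, x, hφ, rfl⟩
    have hP : P ≤ S := (E.le_of_mem hφ).1
    obtain ⟨s, hs, hsx⟩ := mor_mod_hyperfocal hS hE (mor_extFun hφ)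
    have h1 := hsx x x.2
    rw [extFun_apply] at h1
    have h2 : (x : Ω)⁻¹ * (s * x * s⁻¹) ∈ (commutator S).map S.subtype := by
      refine ⟨⁅(⟨x, hP x.2⟩ : S)⁻¹, ⟨s, hs⟩⁆, ?_, ?_⟩
      · rw [SetLike.mem_coe, commutator_def]
        exact Subgroup.commutator_mem_commutator (Subgroup.mem_top _) (Subgroup.mem_top _)
      · rw [commutatorElement_def]
        show (x : Ω)⁻¹ * s * (x : Ω)⁻¹⁻¹ * s⁻¹ = (x : Ω)⁻¹ * (s * x * s⁻¹)
        group
    have h3 : (x : Ω)⁻¹ * (s * x * s⁻¹) * ((s * (x : Ω) * s⁻¹)⁻¹ * φ x) ∈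
        E.hyperfocalSubgroup p ⊔ (commutator S).map S.subtype :=
      Subgroup.mul_mem _ (Subgroup.mem_sup_right h2) (Subgroup.mem_sup_left h1)
    have e : (x : Ω)⁻¹ * (s * x * s⁻¹) * ((s * (x : Ω) * s⁻¹)⁻¹ * φ x) = (x : Ω)⁻¹ * φ x := by
      group
    rw [e] at h3
    exact h3
  · apply sup_le
    · conv_lhs => unfold hyperfocalSubgroup
      rw [Subgroup.closure_le]
      rintro _ ⟨P, α, x, hP, -, rfl⟩
      have hφ := (Cfsg.Agent.H89.mem_autGroup_iff E hP (α : MulAut P)).1 α.2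
      exact Subgroup.subset_closure ⟨P, _, x, hφ, rfl⟩
    · rw [Subgroup.map_le_iff_le_comap, commutator_def, Subgroup.commutator_le]
      intro a _ b _
      show ((⁅a, b⁆ : S) : Ω) ∈ E.focalSubgroup
      have hφ : conjHom S (b : Ω) ∈ E.Hom S := E.conj_mem le_rfl b.2
      refine Subgroup.subset_closure ⟨S, _, a⁻¹, hφ, ?_⟩
      rw [commutatorElement_def]
      show (a : Ω) * b * (a : Ω)⁻¹ * (b : Ω)⁻¹ = ((a⁻¹ : S) : Ω)⁻¹ * ((b : Ω) * ((a⁻¹ : S) : Ω) * (b : Ω)⁻¹)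
      rw [Subgroup.coe_inv]
      group

/-- **Tate's theorem for fusion systems.** -/
theorem hyperfocal_eq_of_focal_sup_eq [Finite S] {F H : FusionSystem S} {p : ℕ} [Fact p.Prime]
    (hS : IsPGroup p S) (hF : F.IsSaturated p) (hH : H.IsSaturated p) (hHF : H.IsSubsystemOf F)
    (h : (frattini S).map S.subtype ⊔ F.focalSubgroup =
      (frattini S).map S.subtype ⊔ H.focalSubgroup) :
    F.hyperfocalSubgroup p = H.hyperfocalSubgroup p := by
  classical
  apply le_antisymm _ (hyperfocal_le_of_subsystem hHF p)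
  by_contra hne
  set T : Subgroup S := (F.hyperfocalSubgroup p).subgroupOf S with hTdef
  set N : Subgroup S := (H.hyperfocalSubgroup p).subgroupOf S with hNdef
  haveI hTn : T.Normal := by
    constructor
    intro n hn g
    rw [hTdef, Subgroup.mem_subgroupOf] at hn ⊢
    exact hyperfocal_conj_mem F p g.2 _ hn
  haveI hNn : N.Normal := by
    constructor
    intro n hn g
    rw [hNdef, Subgroup.mem_subgroupOf] at hn ⊢
    exact hyperfocal_conj_mem H p g.2 _ hn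
  have hTmap : F.hyperfocalSubgroup p ≤ T.map S.subtype := by
    rw [hTdef, Subgroup.subgroupOf_map_subtype]
    exact le_inf le_rfl (hyperfocal_le F p)
  have hNT : N ≤ T := by
    intro x hx
    rw [hNdef, Subgroup.mem_subgroupOf] at hx
    rw [hTdef, Subgroup.mem_subgroupOf]
    exact hyperfocal_le_of_subsystem hHF p hx
  have hNne : N ≠ T := by
    intro hNT'
    apply hne
    intro y hy
    obtain ⟨t, ht, rfl⟩ := hTmap hy
    have ht' : t ∈ T := ht
    rw [← hNT', hNdef, Subgroup.mem_subgroupOf] at ht'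
    exact ht'
  obtain ⟨A, instA, θ, hcard, hsurj, hinv, hθN⟩ := exists_invariant_hom hS T N hNT hNne
  haveI : Finite A :=
    Nat.finite_of_card_ne_zero (by rw [hcard]; exact (Fact.out : p.Prime).ne_zero)
  let θx : S → A := fun s => if h : s ∈ T then θ ⟨s, h⟩ else 1
  have hθx : ∀ (s : S) (h : s ∈ T), θx s = θ ⟨s, h⟩ := fun s h => dif_pos h
  have h1 : ∀ t₁ ∈ T, ∀ t₂ ∈ T, θx (t₁ * t₂) = θx t₁ * θx t₂ := by
    intro t₁ ht₁ t₂ ht₂
    rw [hθx _ (T.mul_mem ht₁ ht₂), hθx _ ht₁, hθx _ ht₂, ← map_mul]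
    rfl
  have h2 : ∀ (s : S), ∀ t ∈ T, θx (s * t * s⁻¹) = θx t := by
    intro s t ht
    rw [hθx _ (hTn.conj_mem t ht s), hθx _ ht]
    exact hinv s ⟨t, ht⟩
  have hA : ∀ a : A, a ^ p = 1 := fun a => by
    rw [← hcard]
    exact pow_card_eq_one'
  obtain ⟨ζ, W, k, hk, hζW, hW⟩ := tate_core hS hF T hTmap θx h1 h2
  have hfr : frattini S ≤ ζ.ker := frattini_le_ker_of_card_prime hcard ζ
  have hHmap : H.hyperfocalSubgroup p ≤ T.map S.subtype :=
    (hyperfocal_le_of_subsystem hHF p).trans hTmap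
  -- maps of `H` are conjugations modulo `N`
  have hHdec : ∀ (P : Subgroup Ω) (f : Ω → Ω), Mor H P f → ∀ u v : S, (u : Ω) ∈ P →
      (v : Ω) = f u → ∃ s n : S, n ∈ N ∧ v = s * u * s⁻¹ * n := by
    intro P f hf u v hu hv
    obtain ⟨s, hs, hsx⟩ := mor_mod_hyperfocal hS hH hf
    have h3 := hsx u hu
    refine ⟨⟨s, hs⟩, ⟨(s * u * s⁻¹)⁻¹ * f u, hyperfocal_le H p h3⟩, ?_, ?_⟩
    · rw [hNdef, Subgroup.mem_subgroupOf]
      exact h3
    · apply Subtype.ext
      show (v : Ω) = s * u * s⁻¹ * ((s * u * s⁻¹)⁻¹ * f u)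
      rw [hv]
      group
  have hθH : ∀ (P : Subgroup Ω) (f : Ω → Ω), Mor H P f → ∀ u v : S, (u : Ω) ∈ P → u ∈ T →
      (v : Ω) = f u → v ∈ T ∧ θx v = θx u := by
    intro P f hf u v hu huT hv
    obtain ⟨s, n, hn, hvs⟩ := hHdec P f hf u v hu hv
    have hc : s * u * s⁻¹ ∈ T := hTn.conj_mem u huT s
    rw [hvs]
    refine ⟨T.mul_mem hc (hNT hn), ?_⟩
    rw [h1 _ hc _ (hNT hn), h2 s u huT, hθx n (hNT hn), hθN ⟨n, hNT hn⟩ hn, mul_one]
  have hζHT : ∀ (P : Subgroup Ω) (f : Ω → Ω), Mor H P f → ∀ u v : S, (u : Ω) ∈ P → u ∈ T →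
      (v : Ω) = f u → ζ v = ζ u := by
    intro P f hf u v hu huT hv
    obtain ⟨hvT, hθv⟩ := hθH P f hf u v hu huT hv
    have hfF : Mor F P f := by
      obtain ⟨φ, hφ, hφf⟩ := hf
      exact ⟨φ, hHF P hφ, hφf⟩
    obtain ⟨-, hWv⟩ := hW P f hfF u v hu huT hv
    rw [hζW v hvT, hζW u huT, hWv, hθv]
  have hζkill := kills_hyperfocal (E := H) T hHmap hA ζ (fun t₁ _ t₂ _ => map_mul ζ t₁ t₂) hζHT
  have hζH : ∀ (P : Subgroup Ω) (f : Ω → Ω), Mor H P f → ∀ u v : S, (u : Ω) ∈ P →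
      (v : Ω) = f u → ζ v = ζ u := by
    intro P f hf u v hu hv
    obtain ⟨s, n, hn, hvs⟩ := hHdec P f hf u v hu hv
    have hn1 : ζ n = 1 := hζkill n (by
      rw [hNdef, Subgroup.mem_subgroupOf] at hn
      exact hn)
    rw [hvs, map_mul, map_mul, map_mul, map_inv, hn1, mul_one, mul_comm (ζ s),
      mul_inv_cancel_right]
  have hfocH : H.focalSubgroup ≤ ζ.ker.map S.subtype := by
    conv_lhs => unfold focalSubgroup
    rw [Subgroup.closure_le]
    rintro _ ⟨P, φ, x, hφ, rfl⟩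
    have hP := (H.le_of_mem hφ).1
    have hφS := (H.le_of_mem hφ).2
    refine ⟨(⟨x, hP x.2⟩ : S)⁻¹ * ⟨φ x, hφS x⟩, ?_, rfl⟩
    rw [SetLike.mem_coe, MonoidHom.mem_ker, map_mul, map_inv]
    have h3 := hζH P (extFun P φ) (mor_extFun hφ) ⟨x, hP x.2⟩ ⟨φ x, hφS x⟩ x.2
      (by rw [extFun_apply])
    rw [h3, inv_mul_cancel]
  have hfocF : F.focalSubgroup ≤ ζ.ker.map S.subtype := by
    have h3 : (frattini S).map S.subtype ⊔ H.focalSubgroup ≤ ζ.ker.map S.subtype :=
      sup_le (Subgroup.map_mono hfr) hfocH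
    rw [← h] at h3
    exact le_sup_right.trans h3
  have hζ : ∀ (P : Subgroup Ω) (f : Ω → Ω), Mor F P f → ∀ u v : S, (u : Ω) ∈ P →
      (v : Ω) = f u → ζ v = ζ u := by
    intro P f hf u v hu hv
    obtain ⟨φ, hφ, hφf⟩ := hf
    have hmem : (u : Ω)⁻¹ * (v : Ω) ∈ F.focalSubgroup :=
      Subgroup.subset_closure ⟨P, φ, ⟨u, hu⟩, hφ, by rw [hv, hφf]⟩
    obtain ⟨w, hw, hwe⟩ := hfocF hmem
    have hw' : w = u⁻¹ * v := Subtype.ext hwe
    have h3 : ζ w = 1 := hw
    rw [hw', map_mul, map_inv] at h3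
    exact (inv_mul_eq_one.1 h3).symm
  have hstab : ∀ (P : Subgroup Ω) (f : Ω → Ω), Mor F P f → ∀ u v : S, (u : Ω) ∈ P → u ∈ T →
      (v : Ω) = f u → θx v = θx u := by
    intro P f hf u v hu huT hv
    obtain ⟨hvT, hWv⟩ := hW P f hf u v hu huT hv
    have h3 := hζ P f hf u v hu hv
    rw [hζW v hvT, hζW u huT, hWv] at h3
    exact eq_of_pow_eq_of_exp hA hk (mul_left_cancel h3)
  have hkill := kills_hyperfocal T hTmap hA θx h1 hstab
  have htriv : ∀ t : T, θ t = 1 := by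
    intro t
    have h3 := hkill t.1 (Subgroup.mem_subgroupOf.1
      (show (t : S) ∈ (F.hyperfocalSubgroup p).subgroupOf S from t.2))
    rwa [hθx _ t.2] at h3
  have hA1 : ∀ a : A, a = 1 := fun a => by
    obtain ⟨t, rfl⟩ := hsurj a
    exact htriv t
  have hc1 : Nat.card A = 1 :=
    Nat.card_eq_one_iff_unique.2 ⟨⟨fun a b => by rw [hA1 a, hA1 b]⟩, ⟨1⟩⟩
  rw [hcard] at hc1
  exact (Fact.out : p.Prime).one_lt.ne' hc1

end Cfsg.Agent.H90
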