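import Mathlib
import Cfsg.Agent.H4.TnDefs
import Cfsg.Agent.H82.Irr
import Cfsg.Agent.H4.IrrCount
import Cfsg.Agent.H4.PaQb
import Cfsg.Agent.H4.TnCol

/-!
# S3805 team project (lead helper4): piece TN-L1 (helper90)

If `u ∈ ker χ₁` then `χ₁` is linear and trivial on `T`.
-/

set_option autoImplicit false
set_option maxHeartbeats 1600000

namespace Cfsg.Agent.H90.Tn

open Subgroup Cfsg Cfsg.Agent.H4.Tn

universe u

theorem normSq_natCast' (z : ℕ) : Complex.normSq ((z : ℕ) : ℂ) = (z : ℝ) ^ 2 := by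
  rw [← Complex.ofReal_natCast, Complex.normSq_ofReal]; ring

/-- TN-L1. -/
theorem l1 (hV : StVals.{u}) (hC : StCent.{u}) (hR : StRT3.{u}) (hF : StFratt.{u}) :
    StL1.{u} := by
  intro G _ _ T a b u v cfg χ₁ χ₂ hdec hu
  classical
  haveI : Fintype G := Fintype.ofFinite G
  set K : Subgroup G := Cfsg.Agent.H82.irrKer χ₁ with hK
  have hKn : K.Normal := Cfsg.Agent.H82.irrKer_normal χ₁
  have hmemK : ∀ g : G, g ∈ K ↔ χ₁.1 g = χ₁.1 1 := fun g => Cfsg.Agent.H82.mem_irrKer χ₁ g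
  have huK : u ∈ K := (hmemK u).mpr hu
  -- b ∈ K
  have hub' : u * b⁻¹ = b * u := by
    calc u * b⁻¹ = b * (b⁻¹ * u) * b⁻¹ := by group
      _ = b * (u * b) * b⁻¹ := by rw [cfg.ub]
      _ = b * u := by group
  have hbbK : b * b ∈ K := by
    have h1 : b * u * b⁻¹ ∈ K := hKn.conj_mem u huK b
    have h2 : b * u * b⁻¹ * u⁻¹ ∈ K := K.mul_mem h1 (K.inv_mem huK)
    have h3 : b * u * b⁻¹ * u⁻¹ = b * b := by
      calc b * u * b⁻¹ * u⁻¹ = b * (u * b⁻¹) * u⁻¹ := by group
        _ = b * (b * u) * u⁻¹ := by rw [hub']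
        _ = b * b := by group
    rwa [h3] at h2
  have hbK : b ∈ K := by
    have h1 : b * b * (b * b) ∈ K := K.mul_mem hbbK hbbK
    have h2 : b * b * (b * b) = b := by
      calc b * b * (b * b) = b ^ 3 * b := by rw [pow_succ, pow_two, mul_assoc (b * b)]
        _ = b := by rw [cfg.b3, one_mul]
    rwa [h2] at h1
  have hχb : χ₁.1 b = χ₁.1 1 := (hmemK b).mp hbK
  obtain ⟨n, hn0, hn⟩ := Cfsg.Agent.H4.irr_one_eq_natCast χ₁
  obtain ⟨haS, -, -, hbS, hinvS⟩ := hV G T a b u v cfg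
  have hd1 : χ₂.1 1 = χ₁.1 1 + 1 := by
    have := hdec 1
    unfold P1 at this
    rw [Set.indicator_of_notMem (hinvS 1 (one_mul 1))] at this
    linear_combination -this
  have hdb : χ₂.1 b = χ₁.1 b + 1 := by
    have := hdec b
    unfold P1 at this
    rw [Set.indicator_of_notMem hbS] at this
    linear_combination -this
  have hda : χ₂.1 a = χ₁.1 a - 2 := by
    have := hdec a
    unfold P1 at this
    rw [Set.indicator_of_mem haS] at this
    linear_combination -this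
  have hn' : χ₁.1 1 = (n : ℂ) := hn
  have hva : v * a * v⁻¹ = a⁻¹ := by rw [cfg.va, mul_inv_cancel_right]
  by_cases hn1 : n = 1
  · -- linear case
    have h11 : χ₁.1 1 = 1 := by rw [hn', hn1]; simp
    have hmul := Cfsg.Agent.H82.irr_linear_mul χ₁ h11
    have hainv : χ₁.1 a⁻¹ = χ₁.1 a := by rw [← hva, Cfsg.Agent.H82.irr_conj]
    have haa : a * a = a⁻¹ := by
      have : a * a * a = 1 := by rw [← cfg.a3, pow_succ, pow_two]
      exact eq_inv_of_mul_eq_one_left this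
    have h1 : χ₁.1 a * χ₁.1 a = χ₁.1 a := by rw [← hmul, haa, hainv]
    have hne := Cfsg.Agent.H82.irr_linear_ne_zero χ₁ h11 a
    refine ⟨h11, ?_, by rw [hχb, h11]⟩
    have : χ₁.1 a * (χ₁.1 a - 1) = 0 := by linear_combination h1
    rcases mul_eq_zero.mp this with h | h
    · exact absurd h hne
    · linear_combination h
  · exfalso
    have hn2 : 2 ≤ n := by omega
    set tr : IrrCharacter G := Cfsg.Agent.H4.trivialIrr G with htr
    have htrv : ∀ g : G, tr.1 g = 1 := fun g => rfl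
    have hχ₂1 : χ₂.1 1 = ((n + 1 : ℕ) : ℂ) := by rw [hd1, hn']; push_cast; ring
    have ne_of_deg : ∀ (x y : IrrCharacter G) (p q : ℕ), x.1 1 = ((p : ℕ) : ℂ) →
        y.1 1 = ((q : ℕ) : ℂ) → p ≠ q → x ≠ y := by
      intro x y p q hx hy hpq h
      subst h
      exact hpq (Nat.cast_injective (hx.symm.trans hy))
    have dtr : tr.1 1 = ((1 : ℕ) : ℂ) := by rw [htrv]; simp
    have n1 : tr ≠ χ₁ := ne_of_deg _ _ 1 n dtr hn' (by omega)
    have n2 : tr ≠ χ₂ := ne_of_deg _ _ 1 (n + 1) dtr hχ₂1 (by omega)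
    have n3 : χ₁ ≠ χ₂ := ne_of_deg _ _ n (n + 1) hn' hχ₂1 (by omega)
    have hcent := hC G T a b u v cfg
    have hcol := Cfsg.Agent.H4.Tn.col_le_three tr χ₁ χ₂ n1 n2 n3 b
    rw [hcent.1, htrv, hχb, hdb, hχb, hn'] at hcol
    have hχ₂b : (n : ℂ) + 1 = ((n + 1 : ℕ) : ℂ) := by push_cast; ring
    rw [hχ₂b, normSq_natCast', normSq_natCast', Complex.normSq_one] at hcol
    have hcolN : 1 + n ^ 2 + (n + 1) ^ 2 ≤ 18 := by
      have : ((1 + n ^ 2 + (n + 1) ^ 2 : ℕ) : ℝ) ≤ ((18 : ℕ) : ℝ) := by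
        push_cast; push_cast at hcol; linarith
      exact_mod_cast this
    have hn2' : n = 2 := by
      rcases Nat.lt_or_ge n 3 with h | h
      · omega
      · nlinarith
    subst hn2'
    obtain ⟨p₀, p₁, hp1, hpa⟩ :=
      hR G χ₁.1 (Cfsg.Agent.H4.isCharacter_of_isIrrCharacter χ₁.2) a v cfg.a3 hva
    obtain ⟨q₀, q₁, hq1, hqa⟩ :=
      hR G χ₂.1 (Cfsg.Agent.H4.isCharacter_of_isIrrCharacter χ₂.2) a v cfg.a3 hva
    have e1 : p₀ + 2 * p₁ = 2 := by
      have : ((p₀ + 2 * p₁ : ℕ) : ℂ) = ((2 : ℕ) : ℂ) := by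
        push_cast; rw [← hp1, hn']; simp
      exact_mod_cast this
    have e2 : q₀ + 2 * q₁ = 3 := by
      have : ((q₀ + 2 * q₁ : ℕ) : ℂ) = ((3 : ℕ) : ℂ) := by
        push_cast; rw [← hq1, hχ₂1]; push_cast; ring
      exact_mod_cast this
    have e3 : (q₀ : ℤ) - q₁ = (p₀ : ℤ) - p₁ - 2 := by
      have : (((q₀ : ℤ) - q₁ : ℤ) : ℂ) = (((p₀ : ℤ) - p₁ - 2 : ℤ) : ℂ) := by
        push_cast; rw [← hqa, ← hpa, hda]
      exact_mod_cast this
    have hp : p₁ = 0 ∧ p₀ = 2 := by omega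
    have hχa : χ₁.1 a = χ₁.1 1 := by
      rw [hpa, hn', hp.1, hp.2]; simp
    have haK : a ∈ K := (hmemK a).mpr hχa
    have hTK : T ≤ K := by
      intro t ht
      obtain ⟨i, j, rfl⟩ := cfg.Telts t ht
      exact K.mul_mem (K.pow_mem haK i) (K.pow_mem hbK j)
    have hfr := hF G T a b u v cfg K hKn hTK huK
    -- `|G| ≤ 2 |K|`
    have hle : Nat.card G ≤ 2 * Nat.card K := by
      let φ : G → ↥K × Bool := fun g =>
        if h : g ∈ K then (⟨g, h⟩, true) else (⟨g * v, (hfr g).resolve_left h⟩, false)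
      have hφ : Function.Injective φ := by
        intro g g' hgg
        by_cases h : g ∈ K <;> by_cases h' : g' ∈ K
        · simp only [φ, dif_pos h, dif_pos h'] at hgg
          exact congrArg Subtype.val (Prod.ext_iff.mp hgg).1
        · simp [φ, dif_pos h, dif_neg h'] at hgg
        · simp [φ, dif_neg h, dif_pos h'] at hgg
        · simp only [φ, dif_neg h, dif_neg h'] at hgg
          have := congrArg Subtype.val (Prod.ext_iff.mp hgg).1
          exact mul_right_cancel this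
      have := Nat.card_le_card_of_injective φ hφ
      rw [Nat.card_prod, Nat.card_eq_fintype_card (α := Bool), Fintype.card_bool] at this
      omega
    -- `4 |K| ≤ |G|`
    have hsum := Cfsg.Agent.H82.irr_norm_sq χ₁
    have hreal : ∑ g : G, Complex.normSq (χ₁.1 g) = (Nat.card G : ℝ) := by
      have : ((∑ g : G, Complex.normSq (χ₁.1 g) : ℝ) : ℂ) = ((Nat.card G : ℝ) : ℂ) := by
        push_cast
        rw [← hsum]
        refine Finset.sum_congr rfl (fun g _ => ?_)
        rw [Complex.mul_conj]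
      exact_mod_cast this
    have hge : (4 : ℝ) * (Nat.card K : ℝ) ≤ ∑ g : G, Complex.normSq (χ₁.1 g) := by
      have h1 : ∑ g : G, (if g ∈ K then (4 : ℝ) else 0) = 4 * (Nat.card K : ℝ) := by
        rw [← Finset.sum_filter, Finset.sum_const, nsmul_eq_mul, Nat.card_eq_fintype_card,
          Fintype.card_subtype]
        ring
      rw [← h1]
      refine Finset.sum_le_sum (fun g _ => ?_)
      split_ifs with h
      · rw [(hmemK g).mp h, hn', normSq_natCast']; norm_num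
      · exact Complex.normSq_nonneg _
    have hKpos : 0 < Nat.card K := Nat.card_pos
    have h42 : (4 : ℝ) * (Nat.card K : ℝ) ≤ 2 * (Nat.card K : ℝ) := by
      calc (4 : ℝ) * (Nat.card K : ℝ) ≤ (Nat.card G : ℝ) := by rw [← hreal]; exact hge
        _ ≤ 2 * (Nat.card K : ℝ) := by exact_mod_cast hle
    have hKpos' : (0 : ℝ) < (Nat.card K : ℝ) := by exact_mod_cast hKpos
    linarith

example (hV : StVals.{u}) (hC : StCent.{u}) (hR : StRT3.{u}) (hF : StFratt.{u}) :
    Cfsg.Agent.H4.Tn.StL1.{u} := Cfsg.Agent.H90.Tn.l1 hV hC hR hF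

end Cfsg.Agent.H90.Tn

#print axioms Cfsg.Agent.H90.Tn.l1
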